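import Cfsg.Agent.Lib.Classical.WreathMax.Ops
import Cfsg.Agent.Lib.Classical.TensorMaxU.Tools

/-!
# Adjoints for the standard Hermitian forms on a tensor power
-/

set_option autoImplicit false
set_option linter.unusedSectionVars false

open Matrix Module
open scoped Kronecker

namespace CfsgLib.Classical.WreathMaxU

open CfsgLib.Classical.WreathMax

variable {F : Type*} [Field F] {σ : F →+* F}

/-- The conjugate transpose for `σ`. -/
def adj (σ : F →+* F) {J J' : Type} (A : Matrix J J' F) : Matrix J' J F := (A.map σ)ᵀ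

section General

variable {J J' J'' : Type}

theorem adj_apply (A : Matrix J J' F) (a : J') (b : J) : adj σ A a b = σ (A b a) := rfl

theorem adj_adj (hc : IsConjugation σ) (A : Matrix J J' F) : adj σ (adj σ A) = A := by
  ext a b; simp [adj_apply, hc.invol]

theorem adj_add (A B : Matrix J J' F) : adj σ (A + B) = adj σ A + adj σ B := by ext a b; simp [adj_apply]

theorem adj_sub (A B : Matrix J J' F) : adj σ (A - B) = adj σ A - adj σ B := by ext a b; simp [adj_apply]

theorem adj_neg (A : Matrix J J' F) : adj σ (-A) = -adj σ A := by ext a b; simp [adj_apply]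

theorem adj_zero : adj σ (0 : Matrix J J' F) = 0 := by ext a b; simp [adj_apply]

theorem adj_smul (c : F) (A : Matrix J J' F) : adj σ (c • A) = σ c • adj σ A := by ext a b; simp [adj_apply]

theorem adj_one [DecidableEq J] : adj σ (1 : Matrix J J F) = 1 := by
  ext a b
  by_cases h : a = b
  · subst h; simp [adj_apply]
  · simp [adj_apply, Matrix.one_apply_ne h, Matrix.one_apply_ne (Ne.symm h)]

theorem adj_mul [Fintype J'] (A : Matrix J J' F) (B : Matrix J' J'' F) : adj σ (A * B) = adj σ B * adj σ A := by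
  ext a b
  simp [adj_apply, Matrix.mul_apply, mul_comm]

theorem det_adj [Fintype J] [DecidableEq J] (A : Matrix J J F) : det (adj σ A) = σ (det A) := by
  rw [adj, Matrix.det_transpose]
  exact (RingHom.map_det σ A).symm

theorem adj_reindex {I I' : Type} (e : J ≃ I) (e' : J' ≃ I') (A : Matrix J J' F) :
    adj σ (Matrix.reindex e e' A) = Matrix.reindex e' e (adj σ A) := rfl

theorem adj_kronecker {I I' : Type} (A : Matrix J J' F) (B : Matrix I I' F) :
    adj σ (A ⊗ₖ B) = adj σ A ⊗ₖ adj σ B := by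
  ext a b; simp [adj_apply, Matrix.kroneckerMap_apply]

/-- The special unitary group of the standard form on the index set `J`. -/
def suG (σ : F →+* F) (J : Type) [Fintype J] [DecidableEq J] : Subgroup (GL J F) where
  carrier := {g | adj σ g.1 * g.1 = 1 ∧ det g.1 = 1}
  one_mem' := ⟨by rw [Units.val_one, adj_one, Matrix.one_mul], by simp⟩
  mul_mem' := by
    rintro g h ⟨hg, hg'⟩ ⟨hh, hh'⟩
    refine ⟨?_, by rw [Units.val_mul, Matrix.det_mul, hg', hh', one_mul]⟩
    rw [Units.val_mul, adj_mul, Matrix.mul_assoc, ← Matrix.mul_assoc (adj σ g.1), hg, Matrix.one_mul, hh]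
  inv_mem' := by
    rintro g ⟨hg, hg'⟩
    have hinv : g⁻¹.1 = adj σ g.1 := by
      rw [← Matrix.one_mul g⁻¹.1, ← hg, Matrix.mul_assoc, ← Units.val_mul, mul_inv_cancel, Units.val_one,
        Matrix.mul_one]
    refine ⟨?_, ?_⟩
    · have h1 : adj σ g⁻¹.1 * adj σ g.1 = 1 := by
        rw [← adj_mul, ← Units.val_mul, mul_inv_cancel, Units.val_one, adj_one]
      rwa [← hinv] at h1
    · rw [hinv, det_adj, hg', map_one]

variable [Fintype J] [DecidableEq J] {g : GL J F}

theorem inv_eq_adj (hg : g ∈ suG σ J) : g⁻¹.1 = adj σ g.1 := by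
  rw [← Matrix.one_mul g⁻¹.1, ← hg.1, Matrix.mul_assoc, ← Units.val_mul, mul_inv_cancel, Units.val_one,
    Matrix.mul_one]

theorem mul_adj (hg : g ∈ suG σ J) : g.1 * adj σ g.1 = 1 := by
  rw [← inv_eq_adj hg, ← Units.val_mul, mul_inv_cancel, Units.val_one]

end General

section Dyad

variable {k : ℕ}

/-- The matrix `u v*`. -/
def dyad (σ : F →+* F) (u v : Fin k → F) : Matrix (Fin k) (Fin k) F := vecMulVec u fun a => σ (v a)

theorem dyad_mulVec (u v x : Fin k → F) : dyad σ u v *ᵥ x = stdHerm σ k v x • u := by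
  rw [dyad, vecMulVec_mulVec, op_smul_eq_smul]
  rfl

theorem dyad_mul (u v w z : Fin k → F) : dyad σ u v * dyad σ w z = stdHerm σ k v w • dyad σ u z := by
  rw [dyad, dyad, dyad, vecMulVec_mul_vecMulVec, vecMulVec_smul]
  rfl

theorem mul_dyad (A : Matrix (Fin k) (Fin k) F) (u v : Fin k → F) : A * dyad σ u v = dyad σ (A *ᵥ u) v :=
  Matrix.mul_vecMulVec _ _ _

theorem stdHerm_mulVec (hc : IsConjugation σ) (A : Matrix (Fin k) (Fin k) F) (x y : Fin k → F) :
    stdHerm σ k (adj σ A *ᵥ x) y = stdHerm σ k x (A *ᵥ y) := by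
  simp only [stdHerm_apply, Matrix.mulVec, dotProduct, adj_apply, map_sum, map_mul, hc.invol, Finset.sum_mul,
    Finset.mul_sum]
  rw [Finset.sum_comm]
  exact Finset.sum_congr rfl fun a _ => Finset.sum_congr rfl fun b _ => by ring

theorem dyad_mul_matrix (hc : IsConjugation σ) (A : Matrix (Fin k) (Fin k) F) (u v : Fin k → F) :
    dyad σ u v * A = dyad σ u (adj σ A *ᵥ v) := by
  ext a b
  simp only [dyad, Matrix.mul_apply, vecMulVec_apply, Matrix.mulVec, dotProduct, adj_apply, map_sum, map_mul,
    hc.invol, Finset.mul_sum]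
  exact Finset.sum_congr rfl fun c _ => by ring

theorem adj_dyad (hc : IsConjugation σ) (u v : Fin k → F) : adj σ (dyad σ u v) = dyad σ v u := by
  ext a b; simp [adj_apply, dyad, vecMulVec_apply, hc.invol, mul_comm]

theorem trace_dyad (u v : Fin k → F) : (dyad σ u v).trace = stdHerm σ k v u := by
  rw [dyad, Matrix.trace_vecMulVec, dotProduct_comm]
  rfl

theorem dyad_add_left (u u' v : Fin k → F) : dyad σ (u + u') v = dyad σ u v + dyad σ u' v := add_vecMulVec _ _ _

theorem dyad_add_right (u v v' : Fin k → F) : dyad σ u (v + v') = dyad σ u v + dyad σ u v' := by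
  ext a b; simp [dyad, vecMulVec_apply, mul_add]

theorem dyad_smul_left (c : F) (u v : Fin k → F) : dyad σ (c • u) v = c • dyad σ u v := smul_vecMulVec _ _ _

theorem dyad_smul_right (c : F) (u v : Fin k → F) : dyad σ u (c • v) = σ c • dyad σ u v := by
  ext a b; simp [dyad, vecMulVec_apply, mul_left_comm]

theorem dyad_neg_left (u v : Fin k → F) : dyad σ (-u) v = -dyad σ u v := by
  ext a b; simp [dyad, vecMulVec_apply]

theorem dyad_eq_zero (hc : IsConjugation σ) {u v : Fin k → F} (h : dyad σ u v = 0) : u = 0 ∨ v = 0 := by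
  rcases CfsgLib.Classical.TensorMax.vecMulVec_eq_zero_iff'.1 h with h | h
  · exact Or.inl h
  · refine Or.inr (funext fun a => ?_)
    have := congrArg σ (congrFun h a)
    simpa [hc.invol] using this

theorem mulVec_ext {A B : Matrix (Fin k) (Fin k) F} (h : ∀ x, A *ᵥ x = B *ᵥ x) : A = B :=
  Matrix.ext_iff_mulVec.2 h

end Dyad

section Tens

variable {κ : Type} [Fintype κ] [DecidableEq κ] {k : ℕ}

theorem adj_tens (C : κ → Matrix (Fin k) (Fin k) F) : adj σ (tens C) = tens fun l => adj σ (C l) := by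
  ext x y
  simp [adj_apply, tens_apply, map_prod]

theorem adj_op (i : κ) (A : Matrix (Fin k) (Fin k) F) : adj σ (op i A) = op i (adj σ A) := by
  rw [op_eq_tens, op_eq_tens, adj_tens]
  congr 1
  funext l
  by_cases h : l = i
  · subst h; simp
  · simp [h, adj_one]

theorem adj_permM (π : Equiv.Perm κ) : adj σ (permM (F := F) (m := k) π) = permM π⁻¹ := by
  ext x y
  rw [adj_apply, permM_apply, permM_apply]
  have : x = y ∘ ⇑π ↔ y = x ∘ ⇑π⁻¹ := by
    constructor <;> rintro rfl <;> funext l <;> simp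
  by_cases h : x = y ∘ ⇑π
  · rw [if_pos h, if_pos (this.1 h), map_one]
  · rw [if_neg h, if_neg fun h' => h (this.2 h'), map_zero]

theorem adj_split (i : κ) (A : TMat F κ k) : adj σ (split i A) = split i (adj σ A) := rfl

end Tens

end CfsgLib.Classical.WreathMaxU
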