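import Cfsg.Agent.Lib.Classical.WreathMaxU.Adj
import Cfsg.Agent.Lib.Classical.WreathMax.Split
import Cfsg.Agent.Lib.Classical.HermMax

/-!
# Transvection axes in matrix groups over the standard Hermitian form on an arbitrary index set
-/

set_option autoImplicit false
set_option linter.unusedSectionVars false

open Matrix Module
open scoped Kronecker

namespace CfsgLib.Classical.WreathMaxU

open CfsgLib.Classical.WreathMax (HasM det_one_add_nilpotent)

variable {F : Type*} [Field F] {σ : F →+* F} {J : Type} [Fintype J]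

/-- The standard Hermitian form on `J → F`. -/
def hForm (σ : F →+* F) (J : Type) [Fintype J] : (J → F) →ₛₗ[σ] (J → F) →ₗ[F] F :=
  LinearMap.mk₂'ₛₗ σ (RingHom.id F) (fun x y => ∑ j, σ (x j) * y j)
    (fun x x' y => by simp [add_mul, Finset.sum_add_distrib])
    (fun c x y => by simp [Finset.mul_sum, mul_assoc])
    (fun x y y' => by simp [mul_add, Finset.sum_add_distrib])
    (fun c x y => by simp [Finset.mul_sum, mul_left_comm])

theorem hForm_apply (x y : J → F) : hForm σ J x y = ∑ j, σ (x j) * y j := rfl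

theorem hForm_isHermitian (hc : IsConjugation σ) : IsHermitian (hForm σ J) :=
  ⟨hc, fun x y => by
    simp only [hForm_apply, map_sum, map_mul, hc.invol]
    exact Finset.sum_congr rfl fun j _ => mul_comm _ _⟩

theorem hForm_sepRight : (hForm σ J).SeparatingRight := fun y hy => funext fun j => by
  classical
  have h := hy (Pi.single j 1)
  simpa [hForm_apply, Pi.single_apply, apply_ite σ, ite_mul] using h

/-- The matrix `x y*`. -/
def gdy (σ : F →+* F) (x y : J → F) : Matrix J J F := vecMulVec x fun j => σ (y j)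

theorem gdy_mulVec (x y z : J → F) : gdy σ x y *ᵥ z = hForm σ J y z • x := by
  rw [gdy, vecMulVec_mulVec, op_smul_eq_smul]
  rfl

theorem gdy_mul (x y z w : J → F) : gdy σ x y * gdy σ z w = hForm σ J y z • gdy σ x w := by
  rw [gdy, gdy, gdy, vecMulVec_mul_vecMulVec, vecMulVec_smul]
  rfl

theorem adj_gdy (hc : IsConjugation σ) (x y : J → F) : adj σ (gdy σ x y) = gdy σ y x := by
  ext a b; simp [adj_apply, gdy, vecMulVec_apply, hc.invol, mul_comm]

theorem hForm_mulVec (hc : IsConjugation σ) (A : Matrix J J F) (x y : J → F) :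
    hForm σ J (adj σ A *ᵥ x) y = hForm σ J x (A *ᵥ y) := by
  simp only [hForm_apply, Matrix.mulVec, dotProduct, adj_apply, map_sum, map_mul, hc.invol, Finset.sum_mul,
    Finset.mul_sum]
  rw [Finset.sum_comm]
  exact Finset.sum_congr rfl fun a _ => Finset.sum_congr rfl fun b _ => by ring

theorem mul_gdy (A : Matrix J J F) (x y : J → F) : A * gdy σ x y = gdy σ (A *ᵥ x) y :=
  Matrix.mul_vecMulVec _ _ _

theorem gdy_mul_matrix (hc : IsConjugation σ) (A : Matrix J J F) (x y : J → F) :
    gdy σ x y * A = gdy σ x (adj σ A *ᵥ y) := by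
  ext a b
  simp only [gdy, Matrix.mul_apply, vecMulVec_apply, Matrix.mulVec, dotProduct, adj_apply, map_sum, map_mul,
    hc.invol, Finset.mul_sum]
  exact Finset.sum_congr rfl fun c _ => by ring

theorem gdy_smul (c : F) (x : J → F) : gdy σ (c • x) (c • x) = (c * σ c) • gdy σ x x := by
  ext a b; simp [gdy, vecMulVec_apply]; ring

variable [DecidableEq J]

/-- `M` contains every transvection with centre `x`. -/
def Axis (σ : F →+* F) (M : Subgroup (GL J F)) (x : J → F) : Prop :=
  ∀ ν : F, ν + σ ν = 0 → HasM M (ν • gdy σ x x)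

variable {M : Subgroup (GL J F)}

theorem axis_zero : Axis σ M (0 : J → F) := fun ν _ => by
  rw [show gdy σ (0 : J → F) 0 = 0 by ext; simp [gdy, vecMulVec_apply], smul_zero]
  exact HasM.zero

theorem Axis.smul (hc : IsConjugation σ) {x : J → F} (h : Axis σ M x) (c : F) : Axis σ M (c • x) := fun ν hν => by
  rw [gdy_smul, smul_smul]
  exact h _ (by rw [map_mul, map_mul, hc.invol]; linear_combination (c * σ c) * hν)

theorem Axis.map (hc : IsConjugation σ) {x : J → F} (h : Axis σ M x) {g : GL J F} (hg : g ∈ M)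
    (hgu : g ∈ suG σ J) : Axis σ M (g.1 *ᵥ x) := fun ν hν => by
  have h1 := (h ν hν).conj hg
  rwa [inv_eq_adj hgu, Matrix.mul_smul, Matrix.smul_mul, mul_gdy, gdy_mul_matrix hc, adj_adj hc] at h1

theorem Axis.step (hc : IsConjugation σ) (hMu : M ≤ suG σ J) {a b : J → F} (ha : Axis σ M a) (hb : Axis σ M b)
    {c : F} (hcs : c + σ c = 0) : Axis σ M (b + (c * hForm σ J a b) • a) := by
  obtain ⟨g, hg, he⟩ := ha c hcs
  have := hb.map hc hg (hMu hg)
  rwa [he, Matrix.add_mulVec, Matrix.one_mulVec, Matrix.smul_mulVec, gdy_mulVec, smul_smul] at this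

/-! ### Isometries as matrices -/

/-- The matrix of an isometry. -/
noncomputable def isomMat (σ : F →+* F) (J : Type) [Fintype J] [DecidableEq J] :
    isomGroup (hForm σ J) →* GL J F where
  toFun g := ⟨LinearMap.toMatrix' (g.1 : (J → F) →ₗ[F] (J → F)), LinearMap.toMatrix' (g.1.symm : (J → F) →ₗ[F] (J → F)),
    by rw [← LinearMap.toMatrix'_comp, LinearEquiv.comp_coe, LinearEquiv.symm_trans_self, LinearEquiv.refl_toLinearMap,
      LinearMap.toMatrix'_id],
    by rw [← LinearMap.toMatrix'_comp, LinearEquiv.comp_coe, LinearEquiv.self_trans_symm, LinearEquiv.refl_toLinearMap,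
      LinearMap.toMatrix'_id]⟩
  map_one' := Units.ext LinearMap.toMatrix'_id
  map_mul' g h := Units.ext (LinearMap.toMatrix'_comp _ _)

theorem isomMat_mulVec (g : isomGroup (hForm σ J)) (x : J → F) : (isomMat σ J g).1 *ᵥ x = g.1 x :=
  LinearMap.toMatrix'_mulVec _ x

theorem isomMat_adj (hc : IsConjugation σ) (g : isomGroup (hForm σ J)) :
    adj σ (isomMat σ J g).1 * (isomMat σ J g).1 = 1 := by
  refine Matrix.ext_iff_mulVec.2 fun y => ?_
  refine sub_eq_zero.1 ((hForm_sepRight (σ := σ) (J := J)) _ fun x => ?_)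
  rw [map_sub, ← Matrix.mulVec_mulVec, Matrix.one_mulVec, sub_eq_zero]
  have h := hForm_mulVec hc (adj σ (isomMat σ J g).1) x ((isomMat σ J g).1 *ᵥ y)
  rw [adj_adj hc] at h
  rw [← h, isomMat_mulVec, isomMat_mulVec]
  exact g.2 x y

theorem det_isomMat (g : isomGroup (hForm σ J)) : det (isomMat σ J g).1 = idet (hForm σ J) g :=
  LinearMap.det_toMatrix' _

theorem exists_isom_of_suG (hc : IsConjugation σ) {g : GL J F} (hg : g ∈ suG σ J) :
    ∃ g' : isomGroup (hForm σ J), isomMat σ J g' = g ∧ idet (hForm σ J) g' = 1 := by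
  let e : (J → F) ≃ₗ[F] (J → F) := LinearEquiv.ofLinear (Matrix.toLin' g.1) (Matrix.toLin' g⁻¹.1)
    (by rw [← Matrix.toLin'_mul, ← Units.val_mul, mul_inv_cancel, Units.val_one, Matrix.toLin'_one])
    (by rw [← Matrix.toLin'_mul, ← Units.val_mul, inv_mul_cancel, Units.val_one, Matrix.toLin'_one])
  have he : e ∈ isomGroup (hForm σ J) := mem_isomGroup.2 fun x y => by
    show hForm σ J (g.1 *ᵥ x) (g.1 *ᵥ y) = _
    rw [← hForm_mulVec hc, Matrix.mulVec_mulVec, hg.1, Matrix.one_mulVec]
  have h1 : isomMat σ J ⟨e, he⟩ = g := Units.ext (LinearMap.toMatrix'_toLin' g.1)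
  exact ⟨_, h1, by rw [← det_isomMat, h1, hg.2]⟩

variable [Finite F]

/-- The transvections generate. -/
theorem suG_le_of_axes (hc : IsConjugation σ) (hex : 3 ≤ Fintype.card J → BigFixed σ ∨ 4 ≤ Fintype.card J)
    (hA : ∀ x, hForm σ J x x = 0 → Axis σ M x) : suG σ J ≤ M := by
  intro g hg
  obtain ⟨g', rfl, hd⟩ := exists_isom_of_suG hc hg
  have h1 : g' ∈ tGroup (hForm σ J) := by
    rw [← (hForm_isHermitian hc).sIsom_eq_tGroup hForm_sepRight (by rwa [Module.finrank_fintype_fun_eq_card])]
    exact MonoidHom.mem_ker.2 hd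
  suffices h : tGroup (hForm σ J) ≤ M.comap (isomMat σ J) from h h1
  refine (Subgroup.closure_le _).2 ?_
  rintro T ⟨v, ν, hT⟩
  obtain ⟨h, hh, he⟩ := hA v hT.1 ν hT.2.1
  have : isomMat σ J T = h := Units.ext (Matrix.ext_iff_mulVec.2 fun x => by
    rw [isomMat_mulVec, hT.2.2, he, Matrix.add_mulVec, Matrix.one_mulVec, Matrix.smul_mulVec, gdy_mulVec, smul_smul])
  show isomMat σ J T ∈ M
  rwa [this]

theorem exists_suG_move (hc : IsConjugation σ) (h3 : 3 ≤ Fintype.card J) {x y : J → F} (hx : x ≠ 0) (hy : y ≠ 0)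
    (hxy : hForm σ J x x = hForm σ J y y) : ∃ C ∈ suG σ J, C.1 *ᵥ x = y := by
  obtain ⟨g, hg, hgx⟩ := (hForm_isHermitian (J := J) hc).exists_sIsom_single hForm_sepRight
    (by rwa [Module.finrank_fintype_fun_eq_card]) hx hy hxy
  exact ⟨isomMat σ J g, ⟨isomMat_adj hc g, by rw [det_isomMat, hg]⟩, by rw [isomMat_mulVec, hgx]⟩

/-! ### Vectors of a product -/

section Product

variable {A : Type} [Fintype A] [DecidableEq A]

/-- The tensor product of two vectors. -/
def tv2 (u : A → F) (w : J → F) : A × J → F := fun p => u p.1 * w p.2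

theorem hForm_tv2 (u : A → F) (w : J → F) (Y : A × J → F) :
    hForm σ (A × J) (tv2 u w) Y = ∑ a, σ (u a) * hForm σ J w fun j => Y (a, j) := by
  simp [hForm_apply, tv2, Fintype.sum_prod_type, Finset.mul_sum, mul_assoc]

theorem hForm_prod (X Y : A × J → F) :
    hForm σ (A × J) X Y = ∑ a, hForm σ J (fun j => X (a, j)) fun j => Y (a, j) := by
  simp [hForm_apply, Fintype.sum_prod_type]

variable {M : Subgroup (GL (A × J) F)}

/-- If the pure tensors with isotropic second factor are axes then so is every isotropic vector. -/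
theorem all_axes (hc : IsConjugation σ) (h3 : 3 ≤ Fintype.card J) (hex : BigFixed σ ∨ 4 ≤ Fintype.card J)
    (hMu : M ≤ suG σ (A × J)) (hp : ∀ u w, hForm σ J w w = 0 → Axis σ M (tv2 u w)) {X : A × J → F}
    (hX : hForm σ (A × J) X X = 0) : Axis σ M X := by
  classical
  have h₂ := hForm_isHermitian (J := J) hc
  -- maps of a single row
  set E : A → Matrix A A F := fun a => Matrix.single a a 1 with hE
  have hEE : ∀ a, E a * E a = E a := fun a => by rw [hE, Matrix.single_mul_single_same, mul_one]
  let ρ : A → Matrix J J F →* Matrix (A × J) (A × J) F := fun a =>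
    { toFun := fun C => E a ⊗ₖ C + (1 - E a) ⊗ₖ (1 : Matrix J J F)
      map_one' := by rw [← Matrix.add_kronecker, add_sub_cancel, Matrix.one_kronecker_one]
      map_mul' := fun C C' => by
        rw [Matrix.add_mul, Matrix.mul_add, Matrix.mul_add, ← Matrix.mul_kronecker_mul, ← Matrix.mul_kronecker_mul,
          ← Matrix.mul_kronecker_mul, ← Matrix.mul_kronecker_mul, Matrix.mul_sub (E a), Matrix.sub_mul 1 (E a) (E a),
          Matrix.sub_mul 1 (E a) (1 - E a), Matrix.mul_sub (E a) 1 (E a), hEE, Matrix.one_mul, Matrix.mul_one,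
          Matrix.one_mul, sub_self, sub_zero, Matrix.zero_kronecker, Matrix.zero_kronecker, add_zero, zero_add,
          Matrix.mul_one, Matrix.one_mul] }
  have hrow : ∀ a (C : GL J F), C ∈ suG σ J → Units.map (ρ a) C ∈ M := fun a => by
    refine SetLike.le_def.1 (suG_le_of_axes (M := M.comap (Units.map (ρ a))) hc
      (fun _ => hex) fun v hv ν hν => ?_)
    obtain ⟨g, hg, he⟩ := hp (Pi.single a 1) v hv ν hν
    have hd : det (1 + ν • gdy σ v v) = 1 := det_one_add_nilpotent ⟨2, by
      rw [pow_two, Matrix.smul_mul, Matrix.mul_smul, gdy_mul, hv, zero_smul, smul_zero, smul_zero]⟩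
    refine ⟨GeneralLinearGroup.mkOfDetNeZero (1 + ν • gdy σ v v) (by rw [hd]; exact one_ne_zero), ?_, rfl⟩
    rw [Subgroup.mem_comap]
    convert hg using 1
    refine Units.ext ?_
    rw [he, Units.coe_map]
    show E a ⊗ₖ (1 + ν • gdy σ v v) + (1 - E a) ⊗ₖ (1 : Matrix J J F) = _
    rw [Matrix.kronecker_add, add_right_comm, ← Matrix.add_kronecker, add_sub_cancel, Matrix.one_kronecker_one,
      Matrix.kronecker_smul]
    congr 2
    ext ⟨x, j⟩ ⟨y, l⟩
    simp only [hE, Matrix.kroneckerMap_apply, Matrix.single_apply, gdy, tv2, vecMulVec_apply, map_mul, Pi.single_apply]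
    by_cases h1 : a = x <;> by_cases h2 : a = y <;> simp [h1, h2, Ne.symm, eq_comm] <;> tauto
  have hrowv : ∀ a (C : Matrix J J F) (Y : A × J → F) b,
      (fun j => (ρ a C *ᵥ Y) (b, j)) = if b = a then C *ᵥ (fun j => Y (b, j)) else fun j => Y (b, j) := by
    intro a C Y b
    funext j
    show ((E a ⊗ₖ C + (1 - E a) ⊗ₖ (1 : Matrix J J F)) *ᵥ Y) (b, j) = _
    rw [Matrix.mulVec, dotProduct, Fintype.sum_prod_type]
    by_cases hb : b = a
    · subst hb
      simp [hE, Matrix.single_apply, Matrix.one_apply, Finset.sum_ite_eq, ite_mul, add_mul, Matrix.mulVec, dotProduct,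
        sub_mul, Finset.sum_add_distrib, Finset.sum_sub_distrib, Finset.sum_ite_irrel]
    · simp [hE, Matrix.single_apply, Matrix.one_apply, hb, Ne.symm hb, Finset.sum_ite_eq, ite_mul,
        Finset.sum_ite_irrel]
  -- changing rows
  have hupd : ∀ (s : Finset A) (Y Z : A × J → F),
      (∀ a, a ∉ s → ∀ j, Y (a, j) = Z (a, j)) →
      (∀ a, hForm σ J (fun j => Y (a, j)) (fun j => Y (a, j)) = hForm σ J (fun j => Z (a, j)) fun j => Z (a, j)) →
      (∀ a, (fun j => Y (a, j)) = 0 ↔ (fun j => Z (a, j)) = 0) → Axis σ M Y → Axis σ M Z := by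
    intro s
    induction s using Finset.induction_on with
    | empty =>
      intro Y Z h _ _ hY
      rwa [show Z = Y from funext fun p => (h p.1 (Finset.notMem_empty _) p.2).symm]
    | insert i s his ih =>
      intro Y Z h hn h0 hY
      by_cases hi : (fun j => Y (i, j)) = 0
      · refine ih Y Z (fun a ha j => ?_) hn h0 hY
        rcases eq_or_ne a i with rfl | hai
        · exact (congrFun hi j).trans (congrFun ((h0 a).1 hi) j).symm
        · exact h a (by simp [hai, ha]) j
      obtain ⟨C, hC, hCi⟩ := exists_suG_move hc h3 hi (fun e => hi ((h0 i).2 e)) (hn i)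
      have hCM := hrow i C hC
      have hY' := hY.map hc hCM (hMu hCM)
      have hCinj : ∀ v, C.1 *ᵥ v = 0 ↔ v = 0 := fun v => ⟨fun e => by
        have h' := congrArg (C⁻¹.1 *ᵥ ·) e
        simpa [Matrix.mulVec_mulVec, ← Units.val_mul] using h', fun e => by rw [e, Matrix.mulVec_zero]⟩
      refine ih _ Z (fun a ha j => ?_) (fun a => ?_) (fun a => ?_) hY'
      all_goals rw [Units.coe_map]
      · rw [show (ρ i C.1 *ᵥ Y) (a, j) = _ from congrFun (hrowv i C.1 Y a) j]
        split
        · rename_i e; subst e; rw [hCi]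
        · rename_i e; exact h a (by simp [e, ha]) j
      · rw [hrowv]
        split
        · rw [← hForm_mulVec hc, Matrix.mulVec_mulVec, hC.1, Matrix.one_mulVec]; exact hn a
        · exact hn a
      · rw [hrowv]
        split
        · rw [hCinj]; exact h0 a
        · exact h0 a
  rcases eq_or_ne X 0 with rfl | hX0
  · exact axis_zero
  set S := Finset.univ.filter (fun a => (fun j => X (a, j)) ≠ 0) with hS
  have hXS : ∀ a, a ∉ S → (fun j => X (a, j)) = 0 := fun a ha => by simpa [hS] using ha
  obtain ⟨p, hp0, hpp⟩ := h₂.exists_iso hForm_sepRight (by rw [Module.finrank_fintype_fun_eq_card]; omega)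
  obtain ⟨r, hrr, hpr, hrp⟩ := h₂.exists_pair hForm_sepRight hp0 hpp
  obtain ⟨μ, hμ0, hμ⟩ := hc.exists_trace_zero
  have hσμ : σ μ = -μ := eq_neg_of_add_eq_zero_right hμ
  set N : A → F := fun a => hForm σ J (fun j => X (a, j)) fun j => X (a, j) with hN
  set T := S.filter (fun a => N a ≠ 0) with hT
  have hsum : ∑ a ∈ T, N a = 0 := by
    have h1 : ∑ a, N a = 0 := by rw [← hX, hForm_prod]
    rw [← h1]
    refine Finset.sum_subset (Finset.subset_univ _) fun a _ ha => ?_
    by_cases haS : a ∈ S
    · simpa [hT, haS] using ha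
    · simp only [hN, hXS a haS, map_zero]
  have hbase : ∀ χ : A → F, Axis σ M (tv2 χ p) := fun χ => hp χ p hpp
  rcases T.eq_empty_or_nonempty with hT0 | ⟨a₀, ha₀⟩
  · refine hupd Finset.univ _ X (fun a ha => absurd (Finset.mem_univ a) ha) (fun a => ?_) (fun a => ?_)
      (hbase fun a => if a ∈ S then 1 else 0)
    · by_cases haS : a ∈ S
      · have : N a = 0 := by simpa [hT, haS] using (Finset.ext_iff.1 hT0 a)
        simp only [tv2, if_pos haS, one_mul]
        exact hpp.trans this.symm
      · simp only [tv2, if_neg haS, zero_mul, hXS a haS]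
        exact (map_zero _).trans (map_zero _).symm
    · by_cases haS : a ∈ S
      · have hne : (fun j => X (a, j)) ≠ 0 := by simpa [hS] using haS
        simp only [tv2, if_pos haS, one_mul]
        exact iff_of_false hp0 hne
      · simp only [tv2, if_neg haS, zero_mul, hXS a haS, iff_true]
        rfl
  choose ζ hζ using fun a => hc.exists_trace_eq (h₂.self_fixed (fun j => X (a, j)))
  set γ : A → F := fun a => if a = a₀ then 1 - ∑ o ∈ T.erase a₀, σ (ζ o / μ) else σ (ζ a / μ) with hγ
  have hγsum : ∑ a ∈ T, γ a = 1 := by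
    rw [← Finset.add_sum_erase _ _ ha₀, hγ]
    simp only [if_true]
    rw [Finset.sum_congr rfl fun a ha => if_neg (Finset.ne_of_mem_erase ha)]
    ring
  have hne : ∀ a, a ≠ a₀ → μ * σ (γ a) + σ (μ * σ (γ a)) = N a := fun a ha => by
    rw [hγ]
    simp only [if_neg ha, hc.invol]
    rw [mul_div_cancel₀ _ hμ0, hζ]
  have hγN : ∀ a ∈ T, μ * σ (γ a) + σ (μ * σ (γ a)) = N a := by
    intro a ha
    rcases eq_or_ne a a₀ with rfl | hne'
    · have e1 : ∑ o ∈ T, (μ * σ (γ o) + σ (μ * σ (γ o))) = 0 := by
        rw [Finset.sum_add_distrib, ← Finset.mul_sum, ← map_sum σ, ← map_sum σ (fun o => μ * σ (γ o)),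
          ← Finset.mul_sum, ← map_sum σ, hγsum, map_one, mul_one, hμ]
      rw [← Finset.add_sum_erase _ _ ha] at e1
      rw [← Finset.add_sum_erase _ _ ha, ← Finset.sum_congr rfl fun o ho => hne o (Finset.ne_of_mem_erase ho)] at hsum
      exact eq_of_sub_eq_zero (by linear_combination e1 - hsum)
    · exact hne a hne'
  have hγ0 : ∀ a ∈ T, γ a ≠ 0 := fun a ha e => by
    have := hγN a ha
    rw [e, map_zero, mul_zero, map_zero, add_zero] at this
    exact (Finset.mem_filter.1 ha).2 this.symm
  set χ : A → F := fun a => if a ∈ T then 1 else 0 with hχ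
  set w : A → J → F := fun a => if a ∈ T then γ a • r else if a ∈ S then p else 0 with hw
  set Y : A × J → F := fun q => w q.1 q.2 with hY
  have hTS : ∀ a ∈ T, a ∈ S := fun a ha => (Finset.mem_filter.1 ha).1
  have hYax : Axis σ M Y := by
    refine hupd Finset.univ _ Y (fun a ha => absurd (Finset.mem_univ a) ha) (fun a => ?_) (fun a => ?_)
      (hbase fun a => if a ∈ S then 1 else 0)
    all_goals
      show _
      simp only [tv2, hY, hw]
      by_cases haT : a ∈ T
    · simp only [if_pos haT, if_pos (hTS a haT), one_mul]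
      rw [show (fun j => (γ a • r) j) = γ a • r from rfl, show (fun j => p j) = p from rfl, hpp]
      simp [hrr]
    · by_cases haS : a ∈ S <;> simp only [haT, haS, if_true, if_false, one_mul, zero_mul]
      exact congrArg₂ (fun u v => hForm σ J u v) rfl rfl
    · simp only [if_pos haT, if_pos (hTS a haT), one_mul]
      refine iff_of_false hp0 fun e => ?_
      rcases smul_eq_zero.1 e with e1 | e1
      · exact hγ0 a haT e1
      · rw [e1, map_zero] at hpr
        exact zero_ne_one hpr
    · by_cases haS : a ∈ S <;> simp only [haT, haS, if_true, if_false, one_mul, zero_mul]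
      simp only [iff_true]
      rfl
  have hBY : hForm σ (A × J) (tv2 χ p) Y = 1 := by
    rw [hForm_tv2, ← hγsum, ← Finset.sum_subset (Finset.subset_univ T) (fun a _ ha => by simp [hχ, ha])]
    refine Finset.sum_congr rfl fun a ha => ?_
    rw [show (fun j => Y (a, j)) = γ a • r by funext j; simp [hY, hw, ha]]
    simp [hχ, ha, hpr]
  have hstep := (hbase χ).step hc hMu hYax hμ
  rw [hBY, mul_one] at hstep
  refine hupd Finset.univ _ X (fun a ha => absurd (Finset.mem_univ a) ha) (fun a => ?_) (fun a => ?_) hstep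
  all_goals
    have hrowa : (fun j => (Y + μ • tv2 χ p) (a, j)) = w a + (μ * χ a) • p := by
      funext j; simp [hY, tv2, mul_assoc]
    rw [hrowa, hχ, hw]
    by_cases haT : a ∈ T
  · simp only [if_pos haT, mul_one]
    rw [show hForm σ J (fun j => X (a, j)) (fun j => X (a, j)) = N a from rfl, ← hγN a haT]
    simp [map_smulₛₗ, hpp, hrr, hpr, hrp, hc.invol]
    ring
  · simp only [if_neg haT, mul_zero, zero_smul, add_zero]
    by_cases haS : a ∈ S
    · rw [if_pos haS, hpp]
      simp [hT, haS] at haT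
      exact haT.symm
    · rw [if_neg haS, hXS a haS]
  · simp only [if_pos haT, mul_one]
    refine iff_of_false (fun e => ?_) (by simpa [hS] using hTS a haT)
    have h1 := congrArg (hForm σ J p) e
    simp [hpp, hpr] at h1
    exact hγ0 a haT h1
  · simp only [if_neg haT, mul_zero, zero_smul, add_zero]
    by_cases haS : a ∈ S
    · rw [if_pos haS]
      exact iff_of_false hp0 (by simpa [hS] using haS)
    · rw [if_neg haS, hXS a haS]

end Product

end CfsgLib.Classical.WreathMaxU
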