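import Cfsg.Agent.Lib.Classical.WreathMaxU.Setting
import Cfsg.Agent.Lib.Classical.WreathMaxU.Vec
import Cfsg.Agent.Lib.Classical.WreathMax.Induct

/-!
# With all pure tensors of isotropic vectors as axes, the overgroup is everything
-/

set_option autoImplicit false
set_option linter.unusedSectionVars false

open Matrix Module
open scoped Kronecker

namespace CfsgLib.Classical.WreathMaxU

open CfsgLib.Classical.WreathMax (TMat tens tens_apply op op_eq_tens op_smul split split_apply split_op_self Rest
  liftRest split_liftRest HasM viewAt mem_viewAt hasM_viewAt restGroup liftRest_mem_wreathT det_liftRest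
  mem_wreathT_of_card_le_one det_one_add_nilpotent)

variable {F : Type*} [Field F] {σ : F →+* F} {κ : Type} [Fintype κ] [DecidableEq κ] {k : ℕ}

/-- A pure tensor of vectors. -/
def ptens (u : κ → Fin k → F) : (κ → Fin k) → F := fun x => ∏ l, u l (x l)

theorem hForm_ptens (u v : κ → Fin k → F) :
    hForm σ (κ → Fin k) (ptens u) (ptens v) = ∏ l, stdHerm σ k (u l) (v l) := by
  simp only [hForm_apply, ptens, map_prod, ← Finset.prod_mul_distrib, stdHerm_apply]
  exact (Fintype.prod_sum fun l a => σ (u l a) * v l a).symm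

theorem gdy_ptens (u : κ → Fin k → F) :
    gdy σ (ptens u) (ptens u) = tens fun l => dyad σ (u l) (u l) := by
  ext x y
  simp [gdy, ptens, tens_apply, dyad, vecMulVec_apply, map_prod, Finset.prod_mul_distrib]

theorem tens_mulVec_ptens (C : κ → Matrix (Fin k) (Fin k) F) (u : κ → Fin k → F) :
    tens C *ᵥ ptens u = ptens fun l => C l *ᵥ u l := by
  funext x
  simp only [Matrix.mulVec, dotProduct, tens_apply, ptens, ← Finset.prod_mul_distrib]
  exact (Fintype.prod_sum fun l a => C l (x l) a * u l a).symm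

theorem op_mulVec_ptens (l : κ) (A : Matrix (Fin k) (Fin k) F) (u : κ → Fin k → F) :
    op l A *ᵥ ptens u = ptens (Function.update u l (A *ᵥ u l)) := by
  rw [op_eq_tens, tens_mulVec_ptens]
  congr 1
  funext o
  by_cases h : o = l
  · subst h; simp
  · simp [h]

theorem ptens_update_apply (u : κ → Fin k → F) (l : κ) (a : Fin k → F) (x : κ → Fin k) :
    ptens (Function.update u l a) x = a (x l) * ∏ o ∈ Finset.univ.erase l, u o (x o) := by
  rw [ptens, ← Finset.mul_prod_erase Finset.univ _ (Finset.mem_univ l), Function.update_self]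
  congr 1
  exact Finset.prod_congr rfl fun o ho => by rw [Function.update_of_ne (Finset.ne_of_mem_erase ho)]

theorem ptens_ne_zero {u : κ → Fin k → F} (hu : ∀ l, u l ≠ 0) : ptens u ≠ 0 := fun e => by
  choose x hx using fun l => Function.ne_iff.1 (hu l)
  exact Finset.prod_ne_zero_iff.2 (fun l _ => hx l) (congrFun e x)

theorem ptens_eq_zero {u : κ → Fin k → F} {l : κ} (hu : u l = 0) : ptens u = 0 :=
  funext fun x => Finset.prod_eq_zero (Finset.mem_univ l) (by rw [hu]; rfl)

theorem split_gdy (i : κ) (x y : (κ → Fin k) → F) :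
    split i (gdy σ x y) = gdy σ (fun p => x ((Equiv.funSplitAt i (Fin k)).symm p))
      fun p => y ((Equiv.funSplitAt i (Fin k)).symm p) := rfl

theorem ptens_split (i : κ) (u : κ → Fin k → F) :
    (fun p => ptens u ((Equiv.funSplitAt i (Fin k)).symm p)) = tv2 (u i) (ptens fun l : Rest i => u l.1) := by
  funext ⟨a, z⟩
  rw [ptens, ← Finset.mul_prod_erase Finset.univ _ (Finset.mem_univ i),
    Finset.prod_subtype (Finset.univ.erase i) (p := fun l => l ≠ i) (by simp)]
  simp only [tv2, ptens]
  congr 1
  · simp [Equiv.funSplitAt, Equiv.piSplitAt]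
  · exact Finset.prod_congr rfl fun l _ => by simp [Equiv.funSplitAt, Equiv.piSplitAt, l.2]

theorem axis_viewAt {i : κ} {M : Subgroup (GL (κ → Fin k) F)} {x : (κ → Fin k) → F} :
    Axis σ M x ↔ Axis σ (viewAt i M) fun p => x ((Equiv.funSplitAt i (Fin k)).symm p) := by
  constructor <;> intro h ν hν
  · have := (hasM_viewAt (i := i)).1 (h ν hν)
    rwa [map_smul, split_gdy] at this
  · rw [hasM_viewAt (i := i), map_smul, split_gdy]
    exact h ν hν

theorem hForm_tv2_tv2 {A J : Type} [Fintype A] [Fintype J] [DecidableEq A] [DecidableEq J] (u u' : A → F)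
    (w w' : J → F) : hForm σ (A × J) (tv2 u w) (tv2 u' w') = hForm σ A u u' * hForm σ J w w' := by
  rw [hForm_apply, hForm_apply, hForm_apply, Fintype.sum_mul_sum, Fintype.sum_prod_type]
  simp [tv2, map_mul]
  exact Finset.sum_congr rfl fun a _ => Finset.sum_congr rfl fun j _ => by ring

theorem kron_mulVec_tv2 {A J : Type} [Fintype A] [Fintype J] (P : Matrix A A F) (Q : Matrix J J F) (u : A → F)
    (w : J → F) : (P ⊗ₖ Q) *ᵥ tv2 u w = tv2 (P *ᵥ u) (Q *ᵥ w) := by
  funext ⟨a, j⟩
  simp only [Matrix.mulVec, dotProduct, tv2, Fintype.sum_prod_type, Matrix.kroneckerMap_apply, Fintype.sum_mul_sum]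
  exact Finset.sum_congr rfl fun b _ => Finset.sum_congr rfl fun l _ => by ring

variable {M : Subgroup (GL (κ → Fin k) F)}

theorem suG_viewAt {i : κ} (hM : Over σ M) : viewAt i M ≤ suG σ (Fin k × (Rest i → Fin k)) := by
  intro g hg
  obtain ⟨x, hx, rfl⟩ := Subgroup.mem_map.1 hg
  obtain ⟨h1, h2⟩ := hM.le_su hx
  refine ⟨?_, ?_⟩
  · show adj σ (split i x.1) * split i x.1 = 1
    rw [adj_split, ← map_mul, h1, map_one]
  · show det (split i x.1) = 1
    exact (Matrix.det_reindex_self _ _).trans h2

theorem liftRest_injective (i : κ) (h0 : 0 < k) : Function.Injective (liftRest i : TMat F (Rest i) k → TMat F κ k) := by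
  intro B B' e
  have h1 := congrArg (split i) e
  rw [split_liftRest, split_liftRest] at h1
  ext u v
  simpa using congrFun (congrFun h1 (⟨0, h0⟩, u)) (⟨0, h0⟩, v)

theorem adj_liftRest' (i : κ) (B : TMat F (Rest i) k) : adj σ (liftRest i B) = liftRest i (adj σ B) :=
  (split i).injective (by rw [← adj_split, split_liftRest, split_liftRest, adj_kronecker, adj_one])

theorem over_restGroup (hM : Over σ M) (h0 : 0 < k) (i : κ) : Over σ (restGroup i M) := by
  refine ⟨fun g hg => ⟨?_, ?_⟩, fun g hg hgu => ⟨hM.ge _ (liftRest_mem_wreathT i hg) ⟨?_, ?_⟩, ?_⟩⟩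
  · refine liftRest_injective i h0 ?_
    rw [map_mul, ← adj_liftRest', map_one]
    exact (hM.le_su hg.1).1
  · simpa using congrArg Units.val (MonoidHom.mem_ker.1 hg.2)
  · rw [Units.coe_map, adj_liftRest', ← map_mul, hgu.1, map_one]
  · rw [Units.coe_map, det_liftRest, hgu.2, one_pow]
  · exact MonoidHom.mem_ker.2 (Units.ext (by simpa using hgu.2))

theorem over_suG_of_card_le_one (hM : Over σ M) (h : Fintype.card κ ≤ 1) : Full σ M :=
  fun g hg => hM.ge g (mem_wreathT_of_card_le_one h g hg.2) hg

variable [Fintype F]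

/-- A scaled multiple of an isotropic vector is a signed sum of four isotropic vectors having inner product one
with it. -/
theorem exists_four (hc : IsConjugation σ) (h3 : 3 ≤ k) {b f : Fin k → F} (hbb : stdHerm σ k b b = 0)
    (hff : stdHerm σ k f f = 0) (hbf : stdHerm σ k b f = 1) (hfb : stdHerm σ k f b = 1) (δ : F) :
    ∃ x₁ x₂ x₃ x₄ : Fin k → F, x₁ + x₂ - x₃ - x₄ = δ • b ∧
      ∀ x ∈ [x₁, x₂, x₃, x₄], stdHerm σ k x x = 0 ∧ stdHerm σ k x b = 1 := by
  obtain ⟨z, hbz, hfz, hzz⟩ := exists_perpVec hc h3 hbb hbf (map_one σ)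
  have hlift : ∀ (c η : F), η + σ η + σ c * c = 0 → stdHerm σ k (f + η • b + c • z) (f + η • b + c • z) = 0 ∧
      stdHerm σ k (f + η • b + c • z) b = 1 := fun c η hη => by
    obtain ⟨h1, h2⟩ := lift_iso hc hbb hff hbf hfb (show stdHerm σ k b (c • z) = 0 by simp [hbz])
      (show stdHerm σ k f (c • z) = 0 by simp [hfz]) (η := η) (by simp [map_smulₛₗ, hzz]; linear_combination hη)
    exact ⟨h1, by rw [← herm_swap hc, h2, map_one]⟩
  obtain ⟨η₁, hη₁⟩ := hc.exists_trace_eq (a := -1) (by rw [map_neg, map_one])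
  obtain ⟨η₂, hη₂⟩ := hc.exists_trace_eq (a := -(σ δ * δ)) (by rw [map_neg, map_mul, hc.invol]; ring)
  obtain ⟨η₃, hη₃⟩ := hc.exists_trace_eq (a := -(σ (1 + δ) * (1 + δ))) (by rw [map_neg, map_mul, hc.invol]; ring)
  refine ⟨f + η₁ • b + (1 : F) • z, f + η₂ • b + δ • z, f + η₃ • b + (1 + δ) • z,
    f + (η₁ + η₂ - η₃ - δ) • b + (0 : F) • z, by module, ?_⟩
  intro x hx
  simp only [List.mem_cons, List.not_mem_nil, or_false] at hx
  rw [map_add, map_one] at hη₃
  rcases hx with rfl | rfl | rfl | rfl
  · exact hlift 1 η₁ (by rw [map_one]; linear_combination hη₁)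
  · exact hlift δ η₂ (by linear_combination hη₂)
  · exact hlift (1 + δ) η₃ (by rw [map_add, map_one]; linear_combination hη₃)
  · refine hlift 0 _ ?_
    rw [map_zero, zero_mul, add_zero, map_sub, map_sub, map_add]
    linear_combination hη₁ + hη₂ - hη₃

/-- A pure tensor, one factor anisotropic and all others equal to one isotropic vector, which is an axis. -/
theorem exists_aniso_pure (hc : IsConjugation σ) (h3 : 3 ≤ k) (hM : Over σ M)
    (H : ∀ u : κ → Fin k → F, (∀ l, stdHerm σ k (u l) (u l) = 0) → Axis σ M (ptens u)) (i : κ) [Nonempty (Rest i)]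
    {b f : Fin k → F} (hbb : stdHerm σ k b b = 0)
    (hff : stdHerm σ k f f = 0) (hbf : stdHerm σ k b f = 1) (hfb : stdHerm σ k f b = 1) :
    ∃ g : Fin k → F, stdHerm σ k g g ≠ 0 ∧ Axis σ M (ptens (Function.update (fun _ => b) i g)) := by
  classical
  set J := Rest i → Fin k
  set pb : J → F := ptens fun _ : Rest i => b with hpb
  have H' : ∀ (v : Fin k → F) (X : Rest i → Fin k → F), stdHerm σ k v v = 0 → (∀ l, stdHerm σ k (X l) (X l) = 0) →
      Axis σ (viewAt i M) (tv2 v (ptens X)) := fun v X hv hX => by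
    have h1 := (axis_viewAt (i := i)).1 (H (fun l => if h : l = i then v else X ⟨l, h⟩) fun l => by
      by_cases h : l = i <;> simp [h, hv, hX])
    rw [ptens_split] at h1
    convert h1 using 3
    · simp
    · funext l; simp [l.2]
  set Ω : Set (J → F) := {B | Axis σ (viewAt i M) (tv2 b pb + tv2 f B)} with hΩ
  set gens : Set (J → F) := {B | ∃ (X : Rest i → Fin k → F) (c : F), (∀ l, stdHerm σ k (X l) (X l) = 0) ∧
    c + σ c = 0 ∧ B = (c * hForm σ J (ptens X) pb) • ptens X} with hgens
  set G := AddSubgroup.closure gens with hG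
  have htv : ∀ (u : Fin k → F) (B B' : J → F) (c : F), tv2 u (B + c • B') = tv2 u B + c • tv2 u B' := fun u B B' c => by
    funext p; simp [tv2]; ring
  have hstep : ∀ (B : J → F) (X : Rest i → Fin k → F) (c : F), B ∈ Ω → (∀ l, stdHerm σ k (X l) (X l) = 0) →
      c + σ c = 0 → B + (c * hForm σ J (ptens X) pb) • ptens X ∈ Ω := by
    intro B X c hB hX hcs
    have h1 := (H' f X hff hX).step hc (suG_viewAt hM) hB hcs
    rw [map_add, hForm_tv2_tv2, hForm_tv2_tv2, show hForm σ (Fin k) f f = 0 from hff, zero_mul, add_zero,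
      show hForm σ (Fin k) f b = 1 from hfb, one_mul] at h1
    show Axis σ (viewAt i M) (tv2 b pb + tv2 f (B + (c * hForm σ J (ptens X) pb) • ptens X))
    rwa [htv, ← add_assoc]
  have hGΩ : ∀ D ∈ G, ∀ B ∈ Ω, B + D ∈ Ω ∧ B - D ∈ Ω := by
    intro D hD
    induction hD using AddSubgroup.closure_induction with
    | mem D hD =>
      obtain ⟨X, c, hX, hcs, rfl⟩ := hD
      refine fun B hB => ⟨hstep B X c hB hX hcs, ?_⟩
      have := hstep B X (-c) hB hX (by rw [map_neg]; linear_combination -hcs)
      rwa [neg_mul, neg_smul, ← sub_eq_add_neg] at this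
    | zero => exact fun B hB => ⟨by rwa [add_zero], by rwa [sub_zero]⟩
    | add D D' _ _ h h' =>
      exact fun B hB => ⟨by rw [← add_assoc]; exact (h' _ (h B hB).1).1,
        by rw [← sub_sub]; exact (h' _ (h B hB).2).2⟩
    | neg D _ h => exact fun B hB => ⟨by rw [← sub_eq_add_neg]; exact (h B hB).2, by rw [sub_neg_eq_add]; exact (h B hB).1⟩
  have hprod : ∀ (S : Finset (Rest i)) (δ : Rest i → F) (X : Rest i → Fin k → F),
      (∀ l, stdHerm σ k (X l) (X l) = 0 ∧ stdHerm σ k (X l) b = 1) → ∀ ν, ν + σ ν = 0 →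
      (ν * ∏ l ∈ S, δ l) • ptens (fun l => if l ∈ S then b else X l) ∈ G := by
    intro S
    induction S using Finset.induction_on with
    | empty =>
      intro δ X hX ν hν
      refine AddSubgroup.subset_closure ⟨X, ν, fun l => (hX l).1, hν, ?_⟩
      rw [hpb, hForm_ptens, Finset.prod_eq_one (s := Finset.univ) fun l _ => (hX l).2]
      simp
    | insert l S hlS ih =>
      intro δ X hX ν hν
      obtain ⟨x₁, x₂, x₃, x₄, hsum, hx⟩ := exists_four hc h3 hbb hff hbf hfb (δ l)
      have hm : ∀ x ∈ [x₁, x₂, x₃, x₄], (ν * ∏ o ∈ S, δ o) •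
          ptens (Function.update (fun o => if o ∈ S then b else X o) l x) ∈ G := fun x hxm => by
        have h1 := ih δ (Function.update X l x) (fun o => by
          by_cases h : o = l
          · subst h; rw [Function.update_self]; exact hx x hxm
          · rw [Function.update_of_ne h]; exact hX o) ν hν
        convert h1 using 3
        funext o
        by_cases h : o = l
        · subst h; simp [hlS]
        · simp [Function.update_of_ne h]
      have h5 := sub_mem (sub_mem (add_mem (hm x₁ (by simp)) (hm x₂ (by simp))) (hm x₃ (by simp))) (hm x₄ (by simp))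
      convert h5 using 1
      funext z
      have e : (fun o => if o ∈ insert l S then b else X o) =
          Function.update (fun o => if o ∈ S then b else X o) l b := by
        funext o
        by_cases h : o = l
        · subst h; simp
        · simp [h, Function.update_of_ne h]
      have hz : x₁ (z l) + x₂ (z l) - x₃ (z l) - x₄ (z l) = δ l * b (z l) := by
        simpa using congrFun hsum (z l)
      rw [e, Finset.prod_insert hlS]
      simp only [Pi.smul_apply, Pi.add_apply, Pi.sub_apply, smul_eq_mul, ptens_update_apply]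
      linear_combination -((ν * ∏ o ∈ S, δ o) *
        ∏ o ∈ Finset.univ.erase l, (if o ∈ S then b else X o) (z o)) * hz
  obtain ⟨φ, hφ⟩ := hc.exists_trace_ne_zero
  obtain ⟨ν₀, hν₀0, hν₀⟩ := hc.exists_trace_zero
  obtain ⟨l₀⟩ := ‹Nonempty (Rest i)›
  have hmem : φ • pb ∈ G := by
    have h1 := hprod Finset.univ (fun l => if l = l₀ then φ / ν₀ else 1) (fun _ => f) (fun l => ⟨hff, hfb⟩) ν₀ hν₀
    rw [Finset.prod_ite_eq' Finset.univ l₀ (fun _ => φ / ν₀), if_pos (Finset.mem_univ _), mul_div_cancel₀ _ hν₀0] at h1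
    simpa using h1
  have h0 : (0 : J → F) ∈ Ω := by
    show Axis σ (viewAt i M) (tv2 b pb + tv2 f 0)
    rw [show tv2 f (0 : J → F) = 0 by funext p; simp [tv2], add_zero]
    exact H' b _ hbb fun _ => hbb
  have h1 := (hGΩ _ hmem 0 h0).1
  refine ⟨b + φ • f, by simpa [map_smulₛₗ, hbb, hff, hbf, hfb, add_comm] using hφ, ?_⟩
  rw [axis_viewAt (i := i), ptens_split, Function.update_self]
  have h2 : tv2 (b + φ • f) (ptens fun l : Rest i => Function.update (fun _ : κ => b) i (b + φ • f) l.1) =
      tv2 b pb + tv2 f (0 + φ • pb) := by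
    funext p
    have : (fun l : Rest i => Function.update (fun _ : κ => b) i (b + φ • f) l.1) = fun _ => b := by
      funext l; rw [Function.update_of_ne l.2]
    rw [this]
    simp [tv2, hpb]
    ring
  rw [h2]
  exact h1

/-- Pure tensors with at most one anisotropic factor are axes. -/
theorem pure_one_axes (hc : IsConjugation σ) (h3 : 3 ≤ k) (hM : Over σ M)
    (H : ∀ u : κ → Fin k → F, (∀ l, stdHerm σ k (u l) (u l) = 0) → Axis σ M (ptens u)) (i : κ) [Nonempty (Rest i)]
    (u : κ → Fin k → F) (hu : ∀ l, l ≠ i → stdHerm σ k (u l) (u l) = 0) : Axis σ M (ptens u) := by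
  classical
  by_cases hui : stdHerm σ k (u i) (u i) = 0
  · exact H u fun l => if h : l = i then h ▸ hui else hu l h
  by_cases hz : ∃ l, u l = 0
  · obtain ⟨l, hl⟩ := hz
    rw [ptens_eq_zero hl]; exact axis_zero
  push Not at hz
  obtain ⟨b, hb, hbb⟩ := exists_isoVec (σ := σ) hc (show 2 ≤ k by omega)
  obtain ⟨f, hff, hbf, hfb⟩ := exists_partnerVec hc hb hbb
  obtain ⟨g, hgg, hax⟩ := exists_aniso_pure hc h3 hM H i hbb hff hbf hfb
  obtain ⟨s, hs⟩ := (stdHerm_isHermitian hc k).exists_scaled hgg (herm_self_fixed hc (u i))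
  have hax' : Axis σ M (ptens (Function.update (fun _ => b) i (s • g))) := by
    convert hax.smul hc s using 1
    funext x
    rw [Pi.smul_apply, smul_eq_mul, ptens_update_apply, ptens_update_apply, Pi.smul_apply, smul_eq_mul, mul_assoc]
  suffices h : ∀ S : Finset κ, Axis σ M (ptens fun l => if l ∈ S then u l else Function.update (fun _ => b) i (s • g) l)
      by simpa using h Finset.univ
  intro S
  induction S using Finset.induction_on with
  | empty => simpa using hax'
  | insert l S hlS ih =>
    set W := fun o => if o ∈ S then u o else Function.update (fun _ => b) i (s • g) o with hW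
    have hWl : stdHerm σ k (W l) (W l) = stdHerm σ k (u l) (u l) ∧ W l ≠ 0 := by
      simp only [hW, if_neg hlS]
      by_cases h : l = i
      · subst h
        rw [Function.update_self]
        exact ⟨hs, fun e => hui (by rw [← hs, e]; simp)⟩
      · rw [Function.update_of_ne h]
        exact ⟨hbb.trans (hu l h).symm, hb⟩
    obtain ⟨A, hA, hAd, hAW⟩ := exists_move hc h3 hWl.2 (hz l) hWl.1
    obtain ⟨a, ha, -, he⟩ := hM.exists_op_det l hA hAd
    have h1 := ih.map hc ha (hM.le_su ha)
    rw [he, op_mulVec_ptens, hAW] at h1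
    convert h1 using 2
    funext o
    by_cases h : o = l
    · subst h; simp
    · simp [hW, h, Function.update_of_ne h]

/-- With all pure tensors of isotropic vectors as axes, the overgroup contains the special unitary group. -/
theorem full_of_pure (hc : IsConjugation σ) (h3 : 3 ≤ k) (hex : BigFixed σ ∨ 4 ≤ k) (hM : Over σ M)
    (H : ∀ u : κ → Fin k → F, (∀ l, stdHerm σ k (u l) (u l) = 0) → Axis σ M (ptens u)) : Full σ M := by
  classical
  obtain ⟨n, hn⟩ : ∃ n, Fintype.card κ = n := ⟨_, rfl⟩
  induction n using Nat.strong_induction_on generalizing κ with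
  | _ n ih =>
  by_cases hsmall : Fintype.card κ ≤ 1
  · exact over_suG_of_card_le_one hM hsmall
  obtain ⟨i⟩ : Nonempty κ := Fintype.card_pos_iff.1 (by omega)
  have hR : Nonempty (Rest i) := by
    obtain ⟨l, hl⟩ := Fintype.exists_ne_of_one_lt_card (by omega : 1 < Fintype.card κ) i
    exact ⟨⟨l, hl⟩⟩
  have hpure := pure_one_axes hc h3 hM H i
  have hMu := suG_viewAt (i := i) hM
  set J := Rest i → Fin k
  have hview : ∀ (v : Fin k → F) (W : Rest i → Fin k → F), (∀ l, stdHerm σ k (W l) (W l) = 0) →
      Axis σ (viewAt i M) (tv2 v (ptens W)) := fun v W hW => by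
    have h1 := (axis_viewAt (i := i)).1 (hpure (fun l => if h : l = i then v else W ⟨l, h⟩) fun l hl => by
      simp [hl, hW])
    rw [ptens_split] at h1
    convert h1 using 3
    · simp
    · funext l; simp [l.2]
  -- the group on the other factors
  have hrest : Full σ (restGroup i M) := by
    refine ih (Fintype.card (Rest i)) (hn ▸ Fintype.card_subtype_lt (x := i) (by simp)) (over_restGroup hM (by omega) i)
      (fun W hW ν hν => ?_) rfl
    set D := ν • gdy σ (ptens W) (ptens W) with hD
    have hWW : hForm σ J (ptens W) (ptens W) = 0 := by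
      obtain ⟨l⟩ := hR
      rw [hForm_ptens, Finset.prod_eq_zero (Finset.mem_univ l) (hW l)]
    have hD2 : D * D = 0 := by
      rw [hD, Matrix.smul_mul, Matrix.mul_smul, gdy_mul, hWW, zero_smul, smul_zero, smul_zero]
    have hsum : ∀ S : Finset (Fin k), HasM (viewAt i M) ((∑ a ∈ S, Matrix.single a a (1 : F)) ⊗ₖ D) := by
      intro S
      induction S using Finset.induction_on with
      | empty => rw [Finset.sum_empty, Matrix.zero_kronecker]; exact HasM.zero
      | insert a S ha hS =>
        rw [Finset.sum_insert ha, Matrix.add_kronecker]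
        refine HasM.add ?_ hS (by rw [← Matrix.mul_kronecker_mul, hD2, Matrix.kronecker_zero])
        convert hview (Pi.single a 1) W hW ν hν using 1
        ext ⟨x, u⟩ ⟨y, v⟩
        simp only [hD, Matrix.kroneckerMap_apply, Matrix.smul_apply, smul_eq_mul, gdy, tv2, vecMulVec_apply, map_mul,
          Matrix.single_apply, Pi.single_apply]
        by_cases h1 : a = x <;> by_cases h2 : a = y <;> simp [h1, h2, Ne.symm] <;> subst_vars <;>
          simp_all [eq_comm] <;> ring
    have h1 := hsum Finset.univ
    rw [show (∑ a, Matrix.single a a (1 : F)) = (1 : Matrix (Fin k) (Fin k) F) by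
      ext x y; by_cases h : x = y <;> simp [Matrix.sum_apply, Matrix.single_apply, h, Matrix.one_apply, ite_and],
      ← split_liftRest, ← hasM_viewAt] at h1
    obtain ⟨g, hg, hge⟩ := h1
    have hd : det (1 + D) = 1 := det_one_add_nilpotent ⟨2, by rw [pow_two, hD2]⟩
    have hcast : Units.map (liftRest i) (GeneralLinearGroup.mkOfDetNeZero (1 + D) (by rw [hd]; exact one_ne_zero)) = g := by
      refine Units.ext ?_
      rw [hge, Units.coe_map]
      show liftRest i (1 + D) = _
      refine (split i).injective ?_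
      rw [split_liftRest, map_add, map_one, split_liftRest, Matrix.kronecker_add, Matrix.one_kronecker_one]
    refine ⟨GeneralLinearGroup.mkOfDetNeZero (1 + D) (by rw [hd]; exact one_ne_zero),
      ⟨?_, MonoidHom.mem_ker.2 (Units.ext (by simpa using hd))⟩, rfl⟩
    show Units.map (liftRest i) _ ∈ M
    rw [hcast]
    exact hg
  -- all isotropic second factors
  have hcard : 3 ≤ Fintype.card J ∧ (BigFixed σ ∨ 4 ≤ Fintype.card J) ∧ 4 ≤ Fintype.card (Fin k × J) := by
    have hk : k ≤ Fintype.card J := by
      rw [Fintype.card_fun, Fintype.card_fin]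
      exact Nat.le_self_pow Fintype.card_pos.ne' k
    refine ⟨by omega, hex.imp id fun h => by omega, ?_⟩
    rw [Fintype.card_prod, Fintype.card_fin]
    nlinarith
  obtain ⟨b, hb, hbb⟩ := exists_isoVec (σ := σ) hc (show 2 ≤ k by omega)
  have hall : ∀ u w, hForm σ J w w = 0 → Axis σ (viewAt i M) (tv2 u w) := by
    intro u w hw
    rcases eq_or_ne w 0 with rfl | hw0
    · rw [show tv2 u (0 : J → F) = 0 by funext p; simp [tv2]]; exact axis_zero
    obtain ⟨C, hC, hCw⟩ := exists_suG_move hc hcard.1 (ptens_ne_zero (u := fun _ : Rest i => b) fun _ => hb) hw0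
      (by rw [hw, hForm_ptens, Finset.prod_eq_zero (Finset.mem_univ hR.some) hbb])
    have hCM : Units.map (liftRest i) C ∈ M := (hrest hC).1
    have hmem := mem_viewAt (i := i) hCM
    have h1 := (hview u (fun _ => b) fun _ => hbb).map hc hmem (hMu hmem)
    convert h1 using 1
    show tv2 u w = split i (liftRest i C.1) *ᵥ _
    rw [split_liftRest, kron_mulVec_tv2, Matrix.one_mulVec, hCw]
  have hfull : suG σ (Fin k × J) ≤ viewAt i M := suG_le_of_axes hc (fun _ => Or.inr hcard.2.2) fun X hX =>
    all_axes hc hcard.1 hcard.2.1 hMu hall hX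
  intro g hg
  have h2 : Units.mapEquiv (split (F := F) (m := k) i).toMulEquiv g ∈ viewAt i M := hfull ⟨by
      show adj σ (split i g.1) * split i g.1 = 1
      rw [adj_split, ← map_mul, hg.1, map_one], (Matrix.det_reindex_self _ _).trans hg.2⟩
  obtain ⟨x, hx, he⟩ := Subgroup.mem_map.1 h2
  rwa [show x = g from (Units.mapEquiv (split (F := F) (m := k) i).toMulEquiv).injective he] at hx

end CfsgLib.Classical.WreathMaxU
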