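import Cfsg.Agent.Lib.Classical.WreathMaxU.Fusion

/-!
# A slice-fixing element gives a central element of the radical of the slice
-/

set_option autoImplicit false
set_option linter.unusedSectionVars false

open Matrix Module
open scoped Kronecker

namespace CfsgLib.Classical.WreathMaxU

open CfsgLib.Classical.WreathMax (TMat op op_add op_sub op_smul op_injective op_zero split split_op_self wreathT Rest
  liftRest split_liftRest Ad Ad_apply op_mem_wreathT HasM det_one_add_nilpotent)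

variable {F : Type*} [Field F] {σ : F →+* F} {κ : Type} [Fintype κ] [DecidableEq κ] {k : ℕ}

theorem blk_mul (i : κ) (u u' : Rest i → Fin k) (Y Y' : TMat F κ k) :
    blk i u u' (Y * Y') = ∑ v, blk i u v Y * blk i v u' Y' := by
  ext a c
  show split i (Y * Y') (a, u) (c, u') = _
  rw [map_mul, Matrix.mul_apply, Fintype.sum_prod_type, Matrix.sum_apply, Finset.sum_comm]
  simp only [Matrix.mul_apply]
  rfl

theorem blk_adj (i : κ) (u u' : Rest i → Fin k) (Y : TMat F κ k) :
    blk i u u' (adj σ Y) = adj σ (blk i u' u Y) := by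
  ext a c
  show split i (adj σ Y) (a, u) (c, u') = _
  rw [← adj_split]
  rfl

theorem liftRest_add (i : κ) (B B' : TMat F (Rest i) k) : liftRest i (B + B') = liftRest i B + liftRest i B' :=
  (split i).injective (by rw [map_add (split i), split_liftRest, split_liftRest, split_liftRest, Matrix.kronecker_add])

theorem liftRest_smul (i : κ) (c : F) (B : TMat F (Rest i) k) : liftRest i (c • B) = c • liftRest i B :=
  (split i).injective (by rw [map_smul (split i), split_liftRest, split_liftRest, Matrix.kronecker_smul])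

theorem liftRest_sub (i : κ) (B B' : TMat F (Rest i) k) : liftRest i (B - B') = liftRest i B - liftRest i B' := by
  rw [eq_sub_iff_add_eq, ← liftRest_add, sub_add_cancel]

/-- `M` has the element `1 + b b* ⊗ S` at the factor `i`. -/
def CEl (σ : F →+* F) (M : Subgroup (GL (κ → Fin k) F)) (i : κ) (b : Fin k → F) (S : TMat F (Rest i) k) : Prop :=
  HasM M (op i (dyad σ b b) * liftRest i S)

variable {M : Subgroup (GL (κ → Fin k) F)}

theorem blk_op_lift (i : κ) (u u' : Rest i → Fin k) (A : Matrix (Fin k) (Fin k) F) (S : TMat F (Rest i) k) :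
    blk i u u' (op i A * liftRest i S) = S u u' • A := by
  rw [blk_op_mul, blk_liftRest, Matrix.mul_smul, Matrix.mul_one]

theorem scalar_of_pencil (hc : IsConjugation σ) {J : Type} [DecidableEq J] {ω : F} (hω : σ ω ≠ ω) {L : Matrix J J F}
    (h1 : ∃ c : F, L - adj σ L = c • 1) (h2 : ∃ c : F, ω • L - adj σ (ω • L) = c • 1) : ∃ c : F, L = c • 1 := by
  obtain ⟨c₁, h1⟩ := h1
  obtain ⟨c₂, h2⟩ := h2
  rw [adj_smul] at h2
  refine ⟨(ω - σ ω)⁻¹ * (c₂ - σ ω * c₁), ?_⟩
  have h3 : (ω - σ ω) • L = (c₂ - σ ω * c₁) • (1 : Matrix J J F) := by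
    linear_combination (norm := module) h2 - σ ω • h1
  rw [mul_smul, ← h3, inv_smul_smul₀ (sub_ne_zero.2 (Ne.symm hω))]

variable [Fintype F]

/-- The second commutator with the radical. -/
theorem cel_of_conj_pair (hc : IsConjugation σ) (hM : Over σ M) {h : GL (κ → Fin k) F} (hh : h ∈ M)
    {i : κ} {b : Fin k → F} (hb : b ≠ 0) (hbb : stdHerm σ k b b = 0)
    (hfix : ∀ γ, h.1 * op i (vecMulVec b γ) = op i (vecMulVec b γ)) {a a' : Fin k → F}
    (ha : stdHerm σ k b a = 0) (ha' : stdHerm σ k b a' = 0) :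
    CEl σ M i b (Matrix.of (fun u u' => stdHerm σ k a' (blk i u u' h.1 *ᵥ a)) -
      adj σ (Matrix.of fun u u' => stdHerm σ k a' (blk i u u' h.1 *ᵥ a))) := by
  obtain ⟨f, -, -, hfb⟩ := exists_partnerVec hc hb hbb
  have hab := herm_zero_swap hc ha
  have hab' := herm_zero_swap hc ha'
  set P := dyad σ b b with hP
  have hhu := hM.le_su hh
  have hinv : ∀ γ, adj σ h.1 * op i (vecMulVec b γ) = op i (vecMulVec b γ) := fun γ => by
    conv_lhs => rw [← hfix γ, ← Matrix.mul_assoc, hhu.1, Matrix.one_mul]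
  have hPh : op i P * h.1 = op i P := by
    have h1 := congrArg (adj σ) (show adj σ h.1 * op i P = op i P from hinv _)
    rwa [adj_mul, adj_adj hc, adj_op, hP, adj_dyad hc] at h1
  obtain ⟨η, hη⟩ := exists_lift_coeff hc a
  obtain ⟨η', hη'⟩ := exists_lift_coeff hc a'
  obtain ⟨-, -, -, -, hu1, hu2⟩ := eich_props hc hbb ha hη
  obtain ⟨-, -, -, -, hv1, hv2⟩ := eich_props hc hbb ha' hη'
  obtain ⟨u, hu, -, hue⟩ := hM.exists_op_det i hu1 hu2
  obtain ⟨v, hv, -, hve⟩ := hM.exists_op_det i hv1 hv2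
  set Y : TMat F κ k := h.1 * op i (dyad σ a b) with hY
  set Ξ : TMat F κ k := Y - adj σ Y + η • op i P with hΞ
  set Ξ' : TMat F κ k := op i (dyad σ a' b) - op i (dyad σ b a') + η' • op i P with hΞ'
  have hYa : adj σ Y = op i (dyad σ b a) * adj σ h.1 := by rw [hY, adj_mul, adj_op, adj_dyad hc]
  have hk : (h * u * h⁻¹).1 = 1 + Ξ := by
    rw [coe_conj, hue, op_add, map_one, map_add, Ad_map_one]
    have hPh' : op i P * adj σ h.1 = op i P := by
      have h1 := congrArg (adj σ) (show h.1 * op i P = op i P from hfix _)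
      rwa [adj_mul, adj_op, hP, adj_dyad hc] at h1
    have g1 : h.1 * op i (dyad σ a b) * adj σ h.1 = Y := by
      rw [hY, show dyad σ a b = dyad σ a f * P by rw [hP, dyad_mul, hfb, one_smul], map_mul, Matrix.mul_assoc,
        Matrix.mul_assoc (op i (dyad σ a f)), hPh']
    have g2 : h.1 * op i (dyad σ b a) * adj σ h.1 = adj σ Y := by
      rw [hYa, show h.1 * op i (dyad σ b a) = op i (dyad σ b a) from hfix _]
    have g3 : h.1 * op i P * adj σ h.1 = op i P := by rw [show h.1 * op i P = op i P from hfix _, hPh']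
    congr 1
    rw [eich, op_add, op_sub, op_smul, map_add, map_sub, map_smul, hΞ, ← hP, Ad_apply, Ad_apply, Ad_apply,
      inv_eq_adj hhu, g1, g2, g3]
  have hve' : v.1 = 1 + Ξ' := by rw [hve, eich, op_add, map_one, op_add, op_sub, op_smul]
  -- the products
  have hopz : ∀ {A B : Matrix (Fin k) (Fin k) F}, A * B = 0 → op i A * op i B = (0 : TMat F κ k) := fun {A B} e => by
    rw [← map_mul, e, op_zero]
  have hz : ∀ {p q r t : Fin k → F}, stdHerm σ k q r = 0 → dyad σ p q * dyad σ r t = 0 := fun {p q r t} e => by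
    rw [dyad_mul, e, zero_smul]
  have hhb : ∀ q, h.1 * op i (dyad σ b q) = op i (dyad σ b q) := fun q => hfix _
  have hib : ∀ q, adj σ h.1 * op i (dyad σ b q) = op i (dyad σ b q) := fun q => hinv _
  have e1 : Y * op i (dyad σ a' b) = 0 := by rw [hY, Matrix.mul_assoc, hopz (hz ha'), Matrix.mul_zero]
  have e2 : Y * op i (dyad σ b a') = 0 := by rw [hY, Matrix.mul_assoc, hopz (hz hbb), Matrix.mul_zero]
  have e3 : Y * op i P = 0 := by rw [hY, Matrix.mul_assoc, hopz (hz hbb), Matrix.mul_zero]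
  have e4 : adj σ Y * op i (dyad σ b a') = 0 := by rw [hYa, Matrix.mul_assoc, hib, hopz (hz hab)]
  have e5 : adj σ Y * op i P = 0 := by rw [hYa, Matrix.mul_assoc, hP, hib, hopz (hz hab)]
  have e6 : op i P * op i (dyad σ a' b) = (0 : TMat F κ k) := hopz (hz ha')
  have e7 : op i P * op i (dyad σ b a') = (0 : TMat F κ k) := hopz (hz hbb)
  have e8 : op i P * op i P = (0 : TMat F κ k) := hopz (hz hbb)
  have e9 : op i P * Y = 0 := by rw [hY, ← Matrix.mul_assoc, hPh, hopz (hz ha)]
  have e10 : op i P * adj σ Y = 0 := by rw [hYa, ← Matrix.mul_assoc, hopz (hz hbb), Matrix.zero_mul]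
  have f1 : op i (dyad σ a' b) * Y = 0 := by
    rw [show dyad σ a' b = dyad σ a' f * P by rw [hP, dyad_mul, hfb, one_smul], map_mul, Matrix.mul_assoc, e9,
      Matrix.mul_zero]
  have f2 : op i (dyad σ a' b) * adj σ Y = 0 := by rw [hYa, ← Matrix.mul_assoc, hopz (hz hbb), Matrix.zero_mul]
  have f3 : op i (dyad σ a' b) * op i P = (0 : TMat F κ k) := hopz (hz hbb)
  have f4 : op i (dyad σ b a') * adj σ Y = 0 := by rw [hYa, ← Matrix.mul_assoc, hopz (hz hab'), Matrix.zero_mul]
  have f5 : op i (dyad σ b a') * op i P = (0 : TMat F κ k) := hopz (hz hab')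
  set L : TMat F (Rest i) k := Matrix.of (fun p q => stdHerm σ k a' (blk i p q h.1 *ᵥ a)) with hL
  have hZ : op i (dyad σ b a') * Y = op i P * liftRest i L := blk_ext i fun p q => by
    rw [blk_op_mul, hY, blk_mul_op, blk_op_lift, ← Matrix.mul_assoc, Matrix.mul_assoc, mul_dyad, dyad_mul, hL,
      Matrix.of_apply]
  have hZ' : adj σ Y * op i (dyad σ a' b) = op i P * liftRest i (adj σ L) := by
    have h1 := congrArg (adj σ) hZ
    rwa [adj_mul (op i (dyad σ b a')), adj_op, adj_dyad hc, adj_mul (op i P), adj_op, hP, adj_dyad hc, adj_liftRest, liftRest_comm_op, ← hP] at h1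
  have hC : Ξ * Ξ' - Ξ' * Ξ = op i P * liftRest i (L - adj σ L) := by
    rw [liftRest_sub, Matrix.mul_sub, ← hZ, ← hZ', hΞ, hΞ']
    simp only [Matrix.add_mul, Matrix.sub_mul, Matrix.mul_add, Matrix.mul_sub, Matrix.smul_mul, Matrix.mul_smul, e1,
      e2, e3, e4, e5, e6, e7, e8, e9, e10, f1, f2, f3, f4, f5, smul_zero, sub_zero, zero_sub, add_zero, zero_add]
    abel
  set S := L - adj σ L
  have hCΞ : op i P * liftRest i S * Ξ = 0 ∧ op i P * liftRest i S * Ξ' = 0 := by
    rw [← liftRest_comm_op, Matrix.mul_assoc, Matrix.mul_assoc]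
    refine ⟨?_, ?_⟩
    · rw [show op i P * Ξ = 0 by
        rw [hΞ, Matrix.mul_add, Matrix.mul_sub, Matrix.mul_smul, e9, e10, e8, smul_zero, sub_zero, add_zero],
        Matrix.mul_zero]
    · rw [show op i P * Ξ' = 0 by
        rw [hΞ', Matrix.mul_add, Matrix.mul_sub, Matrix.mul_smul, e6, e7, e8, smul_zero, sub_zero, add_zero],
        Matrix.mul_zero]
  have hk' : h * u * h⁻¹ ∈ M := mul_mem (mul_mem hh hu) (inv_mem hh)
  refine ⟨h * u * h⁻¹ * v * (v * (h * u * h⁻¹))⁻¹, mul_mem (mul_mem hk' hv) (inv_mem (mul_mem hv hk')), ?_⟩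
  have hkey : (h * u * h⁻¹).1 * v.1 = (1 + op i P * liftRest i S) * (v.1 * (h * u * h⁻¹).1) := by
    rw [hk, hve']
    obtain ⟨g1, g2⟩ := hCΞ
    simp only [Matrix.add_mul, Matrix.mul_add, Matrix.one_mul, Matrix.mul_one]
    rw [← Matrix.mul_assoc (op i P * liftRest i S) Ξ', g1, g2, Matrix.zero_mul]
    simp only [add_zero]
    rw [← hC]
    abel
  rw [Units.val_mul, Units.val_mul, hkey, Matrix.mul_assoc, ← Units.val_mul v, ← Units.val_mul, mul_inv_cancel,
    Units.val_one, Matrix.mul_one]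

/-- A slice-fixing element gives a non-scalar central element. -/
theorem exists_cel_of_fixSlice (hc : IsConjugation σ) (h3 : 3 ≤ k) (hM : Over σ M) (hF : FixSlice σ M) :
    ∃ (i : κ) (b : Fin k → F), b ≠ 0 ∧ stdHerm σ k b b = 0 ∧
      ∃ S : TMat F (Rest i) k, (∀ c : F, S ≠ c • 1) ∧ CEl σ M i b S := by
  classical
  obtain ⟨h₀, hh₀, hh₀T, i, b, hb, hbb, hfix₀⟩ := hF
  by_contra hno
  push Not at hno
  have hsc : ∀ S, CEl σ M i b S → ∃ c : F, S = c • 1 := fun S hS => by
    by_contra hns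
    push Not at hns
    exact hno i b hb hbb S hns hS
  obtain ⟨f, hff, hbf, hfb⟩ := exists_partnerVec hc hb hbb
  obtain ⟨ω, hω⟩ := hc.exists_not_fixed
  set P := dyad σ b b with hP
  let o : Rest i → Fin k := fun _ => ⟨0, by omega⟩
  set π : Matrix (Fin k) (Fin k) F := 1 - dyad σ b f - dyad σ f b with hπ
  have hπx : ∀ x, π *ᵥ x = x - stdHerm σ k f x • b - stdHerm σ k b x • f := fun x => by
    rw [hπ, Matrix.sub_mulVec, Matrix.sub_mulVec, Matrix.one_mulVec, dyad_mulVec, dyad_mulVec]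
  have hbπ : ∀ x, stdHerm σ k b (π *ᵥ x) = 0 := fun x => by rw [hπx]; simp [hbb, hbf]
  have hfπ : ∀ x, stdHerm σ k f (π *ᵥ x) = 0 := fun x => by rw [hπx]; simp [hff, hfb]
  have hπadj : ∀ x y, stdHerm σ k x (π *ᵥ y) = stdHerm σ k (π *ᵥ x) y := fun x y => by
    rw [← stdHerm_mulVec hc, hπ, adj_sub, adj_sub, adj_one, adj_dyad hc, adj_dyad hc, sub_sub, sub_sub, add_comm]
  have hπb : π *ᵥ b = 0 := by rw [hπx, hfb, hbb]; simp
  -- the facts common to the elements fixing the slice
  have facts : ∀ h : GL (κ → Fin k) F, h ∈ M → (∀ γ, h.1 * op i (vecMulVec b γ) = op i (vecMulVec b γ)) →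
      (∀ p q, blk i p q h.1 *ᵥ b = (1 : TMat F (Rest i) k) p q • b) ∧
      (∀ p q x, stdHerm σ k b (blk i p q h.1 *ᵥ x) = (1 : TMat F (Rest i) k) p q * stdHerm σ k b x) := by
    intro h hh hfix
    have h1 : ∀ p q, blk i p q h.1 * P = (1 : TMat F (Rest i) k) p q • P := fun p q => by
      rw [← blk_mul_op, show h.1 * op i P = op i P from hfix _, ← Matrix.mul_one (op i P), blk_op_mul, blk_one,
        Matrix.mul_smul, Matrix.mul_one]
    refine ⟨fun p q => ?_, fun p q x => ?_⟩
    · have := congrArg (· *ᵥ f) (h1 p q)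
      simpa only [← Matrix.mulVec_mulVec, Matrix.smul_mulVec, hP, dyad_mulVec, hbf, one_smul] using this
    · have hPh : op i P * h.1 = op i P := by
        have h2 : adj σ h.1 * op i P = op i P := by
          conv_lhs => rw [← show h.1 * op i P = op i P from hfix _, ← Matrix.mul_assoc, (hM.le_su hh).1, Matrix.one_mul]
        have h3 := congrArg (adj σ) h2
        rwa [adj_mul, adj_adj hc, adj_op, hP, adj_dyad hc] at h3
      have h2 : P * blk i p q h.1 = (1 : TMat F (Rest i) k) p q • P := by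
        rw [← blk_op_mul, hPh, ← Matrix.mul_one (op i P), blk_op_mul, blk_one, Matrix.mul_smul, Matrix.mul_one]
      have h3 := congrArg (fun Y => stdHerm σ k f (Y *ᵥ x)) h2
      simpa only [← Matrix.mulVec_mulVec, Matrix.smul_mulVec, hP, dyad_mulVec, map_smul, smul_eq_mul, hfb,
        mul_one] using h3
  have hunit : ∀ h : GL (κ → Fin k) F, h ∈ M → ∀ p q x y,
      ∑ v, stdHerm σ k (blk i v p h.1 *ᵥ x) (blk i v q h.1 *ᵥ y) = (1 : TMat F (Rest i) k) p q * stdHerm σ k x y := by
    intro h hh p q x y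
    have h1 : blk i p q (adj σ h.1 * h.1) = blk i p q 1 := by rw [(hM.le_su hh).1]
    rw [blk_mul, blk_one] at h1
    have h2 := congrArg (fun Y => stdHerm σ k x (Y *ᵥ y)) h1
    simp only [Matrix.sum_mulVec, map_sum, Matrix.smul_mulVec, Matrix.one_mulVec, map_smul, smul_eq_mul, blk_adj,
      ← Matrix.mulVec_mulVec] at h2
    rw [← h2]
    exact Finset.sum_congr rfl fun v _ => by rw [← stdHerm_mulVec hc (adj σ _), adj_adj hc]
  -- reduce to an element trivial on the middle of the slice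
  obtain ⟨h, hh, hhT, hfix, hmid⟩ : ∃ h ∈ M, h ∉ wreathT F κ k ∧
      (∀ γ, h.1 * op i (vecMulVec b γ) = op i (vecMulVec b γ)) ∧ ∀ p q a, stdHerm σ k b a = 0 →
        ∃ t : F, blk i p q h.1 *ᵥ a = (1 : TMat F (Rest i) k) p q • a + t • b := by
    obtain ⟨hHb, hbH⟩ := facts h₀ hh₀ hfix₀
    set H := fun p q => blk i p q h₀.1 with hH
    have hd : ∀ a a', stdHerm σ k b a = 0 → stdHerm σ k b a' = 0 → ∀ p q,
        stdHerm σ k a' (H p q *ᵥ a) = (1 : TMat F (Rest i) k) p q * stdHerm σ k a' (H o o *ᵥ a) := by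
      intro a a' ha ha' p q
      set L : TMat F (Rest i) k := Matrix.of fun p q => stdHerm σ k a' (H p q *ᵥ a) with hL
      obtain ⟨c, hcL⟩ := scalar_of_pencil hc hω (hsc _ (cel_of_conj_pair hc hM hh₀ hb hbb hfix₀ ha ha')) (by
        have h1 := hsc _ (cel_of_conj_pair hc hM hh₀ hb hbb hfix₀ (a := ω • a) (by simp [ha]) ha')
        rwa [show (Matrix.of fun p q => stdHerm σ k a' (blk i p q h₀.1 *ᵥ (ω • a))) = ω • L by
          ext p q; simp [hL, hH, Matrix.mulVec_smul]] at h1)
      have hpq : ∀ p q, stdHerm σ k a' (H p q *ᵥ a) = c * (1 : TMat F (Rest i) k) p q := fun p q => by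
        have := congrFun (congrFun hcL p) q
        simpa [hL] using this
      rw [hpq, hpq o o, Matrix.one_apply_eq, mul_one, mul_comm]
    have hmid' : ∀ p q a, stdHerm σ k b a = 0 →
        π *ᵥ (H p q *ᵥ a) = (1 : TMat F (Rest i) k) p q • (π *ᵥ (H o o *ᵥ (π *ᵥ a))) := by
      intro p q a ha
      have h1 : π *ᵥ (H o o *ᵥ a) = π *ᵥ (H o o *ᵥ (π *ᵥ a)) := by
        conv_rhs => rw [hπx a, ha, zero_smul, sub_zero, Matrix.mulVec_sub, Matrix.mulVec_smul,
          show H o o *ᵥ b = _ from hHb o o, Matrix.mulVec_sub, Matrix.mulVec_smul, Matrix.mulVec_smul, hπb, smul_zero,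
          smul_zero, sub_zero]
      rw [← h1]
      refine sub_eq_zero.1 ((stdHerm_sepRight (σ := σ) k) _ fun x => ?_)
      rw [map_sub, map_smul, hπadj, hπadj, hd a _ ha (hbπ x) p q, smul_eq_mul, sub_self]
    set C : Matrix (Fin k) (Fin k) F := π * H o o * π + dyad σ b f + dyad σ f b with hC
    have hCx : ∀ x, C *ᵥ x = π *ᵥ (H o o *ᵥ (π *ᵥ x)) + stdHerm σ k f x • b + stdHerm σ k b x • f := fun x => by
      rw [hC, Matrix.add_mulVec, Matrix.add_mulVec, dyad_mulVec, dyad_mulVec, ← Matrix.mulVec_mulVec,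
        ← Matrix.mulVec_mulVec]
    have hCb : C *ᵥ b = b := by rw [hCx, hπb, hfb, hbb]; simp
    have hdec : ∀ y, y = π *ᵥ y + stdHerm σ k f y • b + stdHerm σ k b y • f := fun y => by rw [hπx]; abel
    have hHa : ∀ p q a, stdHerm σ k b a = 0 → ∃ t : F, H p q *ᵥ a = (1 : TMat F (Rest i) k) p q • (C *ᵥ a) + t • b := by
      intro p q a ha
      refine ⟨stdHerm σ k f (H p q *ᵥ a) - (1 : TMat F (Rest i) k) p q * stdHerm σ k f a, ?_⟩
      conv_lhs => rw [hdec (H p q *ᵥ a)]
      rw [hmid' p q a ha, hbH, ha, mul_zero, hCx, ha]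
      module
    have hCC : adj σ C * C = 1 := by
      refine mulVec_ext fun y => ?_
      refine sub_eq_zero.1 ((stdHerm_sepRight (σ := σ) k) _ fun x => ?_)
      rw [map_sub, ← Matrix.mulVec_mulVec, Matrix.one_mulVec, sub_eq_zero]
      have h0 := stdHerm_mulVec hc (adj σ C) x (C *ᵥ y)
      rw [adj_adj hc] at h0
      rw [← h0]
      have hz : ∀ p z, stdHerm σ k b z = 0 → p ≠ o → ∃ t : F, H p o *ᵥ z = t • b := fun p z hz hpo => by
        obtain ⟨t, ht⟩ := hHa p o z hz
        exact ⟨t, by rw [ht, Matrix.one_apply_ne hpo, zero_smul, zero_add]⟩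
      have key : stdHerm σ k (π *ᵥ (H o o *ᵥ (π *ᵥ x))) (π *ᵥ (H o o *ᵥ (π *ᵥ y))) =
          stdHerm σ k (π *ᵥ x) (π *ᵥ y) := by
        have h1 := hunit h₀ hh₀ o o (π *ᵥ x) (π *ᵥ y)
        rw [Finset.sum_eq_single o (fun p _ hpo => by
          obtain ⟨t, ht⟩ := hz p _ (hbπ x) hpo
          obtain ⟨t', ht'⟩ := hz p _ (hbπ y) hpo
          show stdHerm σ k (H p o *ᵥ _) (H p o *ᵥ _) = 0
          rw [ht, ht']; simp [hbb]) (by simp), Matrix.one_apply_eq, one_mul] at h1
        rw [← h1]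
        show _ = stdHerm σ k (H o o *ᵥ (π *ᵥ x)) (H o o *ᵥ (π *ᵥ y))
        conv_rhs => rw [hdec (H o o *ᵥ (π *ᵥ x)), hdec (H o o *ᵥ (π *ᵥ y)), hbH, hbH, hbπ, hbπ, mul_zero, zero_smul,
          add_zero, add_zero]
        simp only [map_add, LinearMap.add_apply, map_smulₛₗ, LinearMap.smul_apply, smul_eq_mul, RingHom.id_apply, hbπ,
          hbb, herm_zero_swap hc (hbπ _), mul_zero, add_zero]
      conv_rhs => rw [hdec x, hdec y]
      simp only [hCx, map_add, LinearMap.add_apply, map_smulₛₗ, LinearMap.smul_apply, smul_eq_mul, RingHom.id_apply,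
        hbπ, hfπ, herm_zero_swap hc (hbπ _), herm_zero_swap hc (hfπ _), hbb, hff, hbf, hfb, key]
    have hC'b : adj σ C *ᵥ b = b := by
      conv_lhs => rw [← hCb, Matrix.mulVec_mulVec, hCC, Matrix.one_mulVec]
    set N : TMat F κ k := adj σ (op i C) * h₀.1 - 1 with hN
    have hK : ∀ p q, blk i p q N = adj σ C * H p q - (1 : TMat F (Rest i) k) p q • 1 := fun p q => by
      rw [hN, map_sub, adj_op, blk_op_mul, blk_one]
    have hKb : ∀ p q, blk i p q N *ᵥ b = 0 := fun p q => by
      rw [hK, Matrix.sub_mulVec, ← Matrix.mulVec_mulVec, show H p q *ᵥ b = _ from hHb p q, Matrix.mulVec_smul, hC'b,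
        Matrix.smul_mulVec, Matrix.one_mulVec, sub_self]
    have hKa : ∀ p q a, stdHerm σ k b a = 0 → ∃ t : F, blk i p q N *ᵥ a = t • b := fun p q a ha => by
      obtain ⟨t, ht⟩ := hHa p q a ha
      refine ⟨t, ?_⟩
      rw [hK, Matrix.sub_mulVec, ← Matrix.mulVec_mulVec, ht, Matrix.mulVec_add, Matrix.mulVec_smul,
        Matrix.mulVec_mulVec, hCC, Matrix.one_mulVec, Matrix.mulVec_smul, hC'b, Matrix.smul_mulVec, Matrix.one_mulVec,
        add_sub_cancel_left]
    have hbK : ∀ p q x, stdHerm σ k b (blk i p q N *ᵥ x) = 0 := fun p q x => by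
      rw [hK, Matrix.sub_mulVec, map_sub, ← Matrix.mulVec_mulVec, Matrix.smul_mulVec, Matrix.one_mulVec, map_smul,
        smul_eq_mul]
      have h0 := stdHerm_mulVec hc (adj σ C) b (H p q *ᵥ x)
      rw [adj_adj hc, hCb] at h0
      rw [← h0, show stdHerm σ k b (H p q *ᵥ x) = _ from hbH p q x, sub_self]
    have hN3 : N * (N * N) = 0 := eq_zero_of_blk i fun p q => by
      refine mulVec_ext fun x => ?_
      rw [Matrix.zero_mulVec]
      simp only [blk_mul, Matrix.mul_sum, Matrix.sum_mulVec, ← Matrix.mulVec_mulVec]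
      refine Finset.sum_eq_zero fun v _ => Finset.sum_eq_zero fun w _ => ?_
      obtain ⟨t, ht⟩ := hKa v w _ (hbK w q x)
      rw [ht, Matrix.mulVec_smul, hKb, smul_zero]
    have hd1 : det (adj σ (op i C) * h₀.1) = 1 := by
      rw [show adj σ (op i C) * h₀.1 = 1 + N by rw [hN]; abel]
      exact det_one_add_nilpotent ⟨3, by rw [pow_succ', pow_two, hN3]⟩
    rw [Matrix.det_mul, det_adj, (hM.le_su hh₀).2, mul_one] at hd1
    have hCd : det (op i C : TMat F κ k) = 1 := by
      have := congrArg σ hd1; rwa [hc.invol, map_one] at this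
    obtain ⟨gC, hgC, hgCT, hgCe⟩ := hM.exists_op i hCC hCd
    have hv : (gC⁻¹ * h₀).1 = adj σ (op i C) * h₀.1 := by rw [Units.val_mul, inv_eq_adj (hM.le_su hgC), hgCe]
    refine ⟨gC⁻¹ * h₀, mul_mem (inv_mem hgC) hh₀, fun hT => hh₀T (by simpa using mul_mem hgCT hT), fun γ => ?_,
      fun p q a ha => ?_⟩
    · rw [hv, Matrix.mul_assoc, hfix₀, adj_op, ← map_mul, Matrix.mul_vecMulVec, hC'b]
    · obtain ⟨t, ht⟩ := hKa p q a ha
      refine ⟨t, ?_⟩
      rw [show (gC⁻¹ * h₀).1 = 1 + N by rw [hv, hN]; abel, map_add, blk_one, Matrix.add_mulVec, ht,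
        Matrix.smul_mulVec, Matrix.one_mulVec]
  obtain ⟨hHb, hbH⟩ := facts h hh hfix
  set H := fun p q => blk i p q h.1 with hH
  -- the middle acts through a single vector
  have hτ : ∀ a, stdHerm σ k b a = 0 → ∃ τ : F, ∀ p q, H p q *ᵥ a = (1 : TMat F (Rest i) k) p q • (a + τ • b) := by
    intro a ha
    choose T hT using fun p q => hmid p q a ha
    have hT' : ∀ (a : Fin k → F), stdHerm σ k b a = 0 → ∀ T : TMat F (Rest i) k,
        (∀ p q, H p q *ᵥ a = (1 : TMat F (Rest i) k) p q • a + T p q • b) → CEl σ M i b (T - adj σ T) := by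
      intro a ha T hT
      obtain ⟨η, hη⟩ := exists_lift_coeff hc a
      obtain ⟨hEP, hPE, -, -, hu1, hu2⟩ := eich_props hc hbb ha hη
      obtain ⟨u, hu, -, hue⟩ := hM.exists_op_det i hu1 hu2
      have hY : h.1 * op i (dyad σ a b) = op i (dyad σ a b) + op i P * liftRest i T := blk_ext i fun p q => by
        rw [blk_mul_op, map_add, ← Matrix.mul_one (op i (dyad σ a b)), blk_op_mul, blk_one, blk_op_lift, mul_dyad,
          show blk i p q h.1 *ᵥ a = _ from hT p q, dyad_add_left, dyad_smul_left, dyad_smul_left, Matrix.mul_smul,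
          Matrix.mul_one]
      have hhfix : op i P * adj σ h.1 = op i P := by
        have h1 := congrArg (adj σ) (show h.1 * op i P = op i P from hfix _)
        rwa [adj_mul, adj_op, hP, adj_dyad hc] at h1
      have hY1 : h.1 * op i (dyad σ a b) * adj σ h.1 = h.1 * op i (dyad σ a b) := by
        rw [show dyad σ a b = dyad σ a f * P by rw [hP, dyad_mul, hfb, one_smul], map_mul, Matrix.mul_assoc,
          Matrix.mul_assoc (op i (dyad σ a f)), hhfix]
      have hY2 : h.1 * op i (dyad σ b a) * adj σ h.1 = op i (dyad σ b a) + op i P * liftRest i (adj σ T) := by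
        have h1 := congrArg (adj σ) hY
        rw [adj_mul, adj_add, adj_mul, adj_op, adj_dyad hc, adj_op, hP, adj_dyad hc, adj_liftRest, liftRest_comm_op,
          ← hP] at h1
        rw [show h.1 * op i (dyad σ b a) = op i (dyad σ b a) from hfix _]
        exact h1
      have hk : (h * u * h⁻¹).1 = 1 + op i (eich σ b a η) + op i P * liftRest i (T - adj σ T) := by
        rw [coe_conj, hue, op_add, map_one, map_add, Ad_map_one, eich, op_add, op_sub, op_smul, map_add, map_sub,
          map_smul, Ad_apply, Ad_apply, Ad_apply, inv_eq_adj (hM.le_su hh), hY1, hY, hY2, ← hP,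
          show h.1 * op i P = op i P from hfix _, hhfix, liftRest_sub, Matrix.mul_sub]
        abel
      refine ⟨h * u * h⁻¹ * u⁻¹, mul_mem (mul_mem (mul_mem hh hu) (inv_mem hh)) (inv_mem hu), ?_⟩
      have hkey : (h * u * h⁻¹).1 = (1 + op i P * liftRest i (T - adj σ T)) * u.1 := by
        rw [hk, hue, op_add, map_one, Matrix.add_mul, Matrix.one_mul, Matrix.mul_add, Matrix.mul_one,
          ← liftRest_comm_op, Matrix.mul_assoc (liftRest i _), ← map_mul, show P * eich σ b a η = 0 from hPE, op_zero,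
          Matrix.mul_zero]
        abel
      rw [Units.val_mul, hkey, Matrix.mul_assoc, ← Units.val_mul, mul_inv_cancel, Units.val_one, Matrix.mul_one]
    obtain ⟨τ, hτ⟩ := scalar_of_pencil hc hω (hsc _ (hT' a ha (Matrix.of T) hT)) (hsc _ (hT' (ω • a) (by simp [ha])
      (ω • Matrix.of T) fun p q => by
        rw [Matrix.mulVec_smul, hT p q, smul_add, smul_smul, smul_smul, Matrix.smul_apply, smul_eq_mul, Matrix.of_apply,
          mul_comm ω, mul_comm ω]
        module))
    refine ⟨τ, fun p q => ?_⟩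
    have := congrFun (congrFun hτ p) q
    rw [Matrix.of_apply, Matrix.smul_apply, smul_eq_mul] at this
    rw [show H p q *ᵥ a = _ from hT p q, this, smul_add, smul_smul, mul_comm]
  choose τ hτ using hτ
  set a₀ := π *ᵥ (H o o *ᵥ f) with ha₀
  have hfdual : ∀ p q a, ∀ ha : stdHerm σ k b a = 0, stdHerm σ k a (H p q *ᵥ f) =
      (1 : TMat F (Rest i) k) p q * (stdHerm σ k a f - σ (τ a ha)) := by
    intro p q a ha
    have h1 := hunit h hh p q a f
    rw [Finset.sum_eq_single p (fun v _ hv => by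
      show stdHerm σ k (H v p *ᵥ a) _ = 0
      rw [hτ a ha, Matrix.one_apply_ne hv, zero_smul, map_zero, LinearMap.zero_apply]) (by simp)] at h1
    change stdHerm σ k (H p p *ᵥ a) (H p q *ᵥ f) = _ at h1
    rw [hτ a ha, Matrix.one_apply_eq, one_smul, map_add, LinearMap.add_apply, map_smulₛₗ, LinearMap.smul_apply,
      show stdHerm σ k b (H p q *ᵥ f) = _ from hbH p q f, hbf, mul_one, smul_eq_mul] at h1
    linear_combination h1
  have hba₀ : stdHerm σ k b a₀ = 0 := hbπ _
  have hmidf : ∀ p q, π *ᵥ (H p q *ᵥ f) = (1 : TMat F (Rest i) k) p q • a₀ := fun p q => by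
    refine sub_eq_zero.1 ((stdHerm_sepRight (σ := σ) k) _ fun x => ?_)
    rw [map_sub, map_smul, ha₀, hπadj, hπadj, hfdual p q _ (hbπ x), hfdual o o _ (hbπ x), Matrix.one_apply_eq, one_mul,
      smul_eq_mul, sub_self]
  obtain ⟨η, hη⟩ := exists_lift_coeff hc a₀
  obtain ⟨hEP, -, -, -, hu1, hu2⟩ := eich_props hc hbb hba₀ hη
  obtain ⟨u, hu, huT, hue⟩ := hM.exists_op_det i hu1 hu2
  set U := 1 + eich σ b a₀ η with hU
  set e : TMat F (Rest i) k :=
    Matrix.of (fun p q => stdHerm σ k f (H p q *ᵥ f) - (1 : TMat F (Rest i) k) p q * η) with he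
  have hblk : ∀ p q, H p q = (1 : TMat F (Rest i) k) p q • U + e p q • P := fun p q => by
    refine mulVec_ext fun x => ?_
    obtain ⟨z, hbz, hfz, hx⟩ := pair_decomp hbb hff hbf hfb x
    generalize stdHerm σ k f x = s, stdHerm σ k b x = t at hx
    subst hx
    have hf' : H p q *ᵥ f = (1 : TMat F (Rest i) k) p q • a₀ + stdHerm σ k f (H p q *ᵥ f) • b +
        (1 : TMat F (Rest i) k) p q • f := by
      have := hπx (H p q *ᵥ f)
      rw [hmidf, hbH, hbf, mul_one] at this
      rw [this]; abel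
    have hτz : stdHerm σ k a₀ z = -τ z hbz := by
      have h1 := hfdual o o z hbz
      rw [Matrix.one_apply_eq, one_mul, herm_zero_swap hc hfz, zero_sub] at h1
      have h2 : stdHerm σ k z a₀ = -σ (τ z hbz) := by
        rw [ha₀, hπadj, show π *ᵥ z = z by rw [hπx, hfz, hbz]; simp, h1]
      rw [← herm_swap hc, h2, map_neg, hc.invol]
    rw [Matrix.mulVec_add, Matrix.mulVec_add, Matrix.mulVec_smul, Matrix.mulVec_smul, show H p q *ᵥ b = _ from hHb p q,
      hτ z hbz, hf', he, Matrix.of_apply, hU]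
    simp only [Matrix.add_mulVec, Matrix.smul_mulVec, Matrix.one_mulVec, eich_mulVec, hP, dyad_mulVec, map_add, map_smul,
      hbb, hbf, hbz, smul_eq_mul, mul_zero, mul_one, zero_add, add_zero, hτz,
      show stdHerm σ k a₀ b = 0 from herm_zero_swap hc hba₀,
      show stdHerm σ k a₀ f = 0 from herm_zero_swap hc (hfπ _)]
    module
  have hhe : h.1 = u.1 * (1 + op i P * liftRest i e) := blk_ext i fun p q => by
    rw [hue, Matrix.mul_add, Matrix.mul_one, map_add, ← Matrix.mul_one (op i U), blk_op_mul, blk_one, Matrix.mul_assoc,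
      Matrix.one_mul, ← Matrix.mul_assoc (op i U), ← map_mul, blk_op_lift, Matrix.mul_smul, Matrix.mul_one,
      show blk i p q h.1 = _ from hblk p q]
    congr 2
    rw [hU, Matrix.add_mul, Matrix.one_mul, hEP, add_zero]
  have hcel : CEl σ M i b e := ⟨u⁻¹ * h, mul_mem (inv_mem hu) hh, by
    rw [Units.val_mul, hhe, ← Matrix.mul_assoc, ← Units.val_mul, inv_mul_cancel, Units.val_one, Matrix.one_mul]⟩
  obtain ⟨c, hce⟩ := hsc e hcel
  refine hhT (op_mem_wreathT i (A := U * (1 + c • P)) ?_)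
  rw [hhe, hue, map_mul]
  congr 1
  rw [hce, liftRest_smul, map_one, Matrix.mul_smul, Matrix.mul_one, op_add, map_one, op_smul]

end CfsgLib.Classical.WreathMaxU
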