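import Cfsg.Agent.Lib.Classical.WreathMaxU.Setting
import Cfsg.Agent.Lib.Classical.WreathMax.SwapType

/-!
# A transvection fused with an exchange of two factors has an outside centraliser
-/

set_option autoImplicit false
set_option linter.unusedSectionVars false

open Matrix Module
open scoped Kronecker
open CfsgLib.Classical.TensorMax (exists_dot exists_dot_one exists_perp_notMem)

namespace CfsgLib.Classical.WreathMaxU

open CfsgLib.Classical.WreathMax (TMat tens tens_apply tensU tensU_coe tensU_mul tensU_one tensU_mem permU permU_coe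
  permM permM_apply permM_mul_op op op_apply op_add op_smul op_comm op_eq_tens op_injective op_zero op_mem_wreathT
  split split_op_self wreathT wreathT_mul_op conj_op Rest SwapType split_of_comm_root split_of_commute det_op
  permU_mul_tensU tens_mul_op)

variable {F : Type*} [Field F] [Fintype F] {σ : F →+* F} {κ : Type} [Fintype κ] [DecidableEq κ]

/-- A norm one element whose cube is not one. -/
theorem exists_norm_one_cube (hc : IsConjugation σ) (hbig : BigFixed σ) (h2 : (2 : F) = 0) :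
    ∃ ζ : F, ζ * σ ζ = 1 ∧ ζ ^ 3 ≠ 1 := by
  by_contra hno
  push Not at hno
  obtain ⟨ω, hω⟩ := hc.exists_not_fixed
  obtain ⟨l, hl, hl0, hl1⟩ := hbig
  have hcube : ∀ x : F, x ≠ 0 → σ (x ^ 3) = x ^ 3 := fun x hx => by
    have hσx := conj_ne_zero hc hx
    have h := hno (x / σ x) (by rw [map_div₀, hc.invol]; field_simp)
    rw [div_pow, div_eq_one_iff_eq (pow_ne_zero _ hσx)] at h
    rw [map_pow, h]
  have hω0 : ω ≠ 0 := fun e => hω (by rw [e, map_zero])
  have h3 := hcube ω hω0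
  have key : ∀ t, σ t = t → t ≠ 0 → σ (ω ^ 2 + t * ω) = ω ^ 2 + t * ω := fun t ht ht0 => by
    have hne : ω + t ≠ 0 := fun e => hω (by rw [eq_neg_of_add_eq_zero_left e, map_neg, ht])
    have h4 := hcube (ω + t) hne
    simp only [map_pow, map_add, map_mul, ht] at h4 h3 ⊢
    refine mul_left_cancel₀ ht0 ?_
    linear_combination h4 - h3 - (t * (σ ω ^ 2 + t * σ ω - ω ^ 2 - t * ω)) * h2
  have k1 := key 1 (map_one σ) one_ne_zero
  have k2 := key l hl hl0
  simp only [map_add, map_pow, map_mul, map_one, hl, one_mul] at k1 k2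
  have : (l - 1) * (σ ω - ω) = 0 := by linear_combination k2 - k1
  exact hω (sub_eq_zero.1 ((mul_eq_zero.1 this).resolve_left (sub_ne_zero.2 hl1)))

theorem adj_diagonal {J : Type} [Fintype J] [DecidableEq J] (a : J → F) :
    adj σ (Matrix.diagonal a) = Matrix.diagonal fun x => σ (a x) := by
  ext x y
  by_cases h : x = y
  · subst h; simp [adj_apply]
  · simp [adj_apply, h, Ne.symm h]

/-- Products of diagonal matrices of two factors. -/
theorem op_diag_mul {k : ℕ} {p l : κ} (hpl : p ≠ l) (a a' : Fin k → F) :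
    op p (Matrix.diagonal a) * op l (Matrix.diagonal a') =
      (Matrix.diagonal fun x : κ → Fin k => a (x p) * a' (x l) : TMat F κ k) := by
  have hop : ∀ (i : κ) (a : Fin k → F), op i (Matrix.diagonal a) =
      (Matrix.diagonal fun x : κ → Fin k => a (x i) : TMat F κ k) := fun i a => by
    ext x y
    rw [op_apply]
    by_cases hxy : x = y
    · subst hxy; simp
    · rw [Matrix.diagonal_apply_ne _ hxy]
      split_ifs with hall
      · rw [Matrix.diagonal_apply_ne]
        exact fun e => hxy (funext fun o => if ho : o = i then ho ▸ e else hall o ho)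
      · rfl
  rw [hop, hop, Matrix.diagonal_mul_diagonal]

/-- A transvection fused with an exchange of two factors has a centraliser outside. -/
theorem exists_centraliser_of_swap (hc : IsConjugation σ) (hbig : BigFixed σ) {k : ℕ}
    {M : Subgroup (GL (κ → Fin k) F)} (hM : Over σ M) (i : κ) {b : Fin k → F} {μ : F} (hb : b ≠ 0)
    (hbb : stdHerm σ k b b = 0) (hμ0 : μ ≠ 0) {r : GL (κ → Fin k) F} (hr : r.1 = 1 + op i (μ • dyad σ b b))
    (hrM : r ∈ M) {g : GL (κ → Fin k) F} (hg : g ∈ M) (hs : SwapType (g * r * g⁻¹)) :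
    ∃ w ∈ M, w ∉ wreathT F κ k ∧ w * r = r * w := by
  classical
  obtain ⟨hm, h2, p, l, D, hpl, hs⟩ := hs
  subst hm
  by_contra hno
  push Not at hno
  haveI : CharP F 2 := CharTwo.of_one_ne_zero_of_two_eq_zero one_ne_zero h2
  have hneg : ∀ X : TMat F κ 3, -X = X := fun X => by
    ext x y; exact CharTwo.neg_eq (X x y)
  set h := g * r * g⁻¹ with hh
  have hhS : h ∈ suG σ (κ → Fin 3) := hM.le_su (mul_mem (mul_mem hg hrM) (inv_mem hg))
  set U : GL (Fin 3) F := D p * (D l)⁻¹ with hU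
  have hinv : (tensU D)⁻¹ = tensU fun a => (D a)⁻¹ := inv_eq_of_mul_eq_one_right (by
    rw [tensU_mul]; simpa using tensU_one)
  have hform : h = tensU (fun a => D a * (D ((Equiv.swap p l)⁻¹ a))⁻¹) * permU (Equiv.swap p l) := by
    rw [hs, hinv, mul_assoc, permU_mul_tensU, ← mul_assoc, tensU_mul]
  have hconjl : ∀ X, h.1 * op l X * h⁻¹.1 = op p (U.1 * X * U⁻¹.1) := fun X => by
    rw [conj_op hform, Equiv.swap_apply_right, Equiv.swap_inv, Equiv.swap_apply_left, hU]
  -- the conjugating matrix is unitary up to a scalar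
  obtain ⟨c₀, hc₀⟩ : ∃ c : F, adj σ U.1 * U.1 = c • 1 := by
    have hcomm : ∀ X, X * (adj σ U.1 * U.1) = adj σ U.1 * U.1 * X := fun X => by
      have h1 := congrArg (adj σ) (hconjl (adj σ X))
      rw [adj_op, adj_mul, adj_mul, adj_op, adj_adj hc, inv_eq_adj hhS, adj_adj hc, ← inv_eq_adj hhS,
        ← Matrix.mul_assoc, hconjl, adj_mul, adj_mul, adj_adj hc] at h1
      have h2' := congrArg (fun Y => adj σ U.1 * Y * U.1) (op_injective p h1)
      have hUU : adj σ U.1 * adj σ U⁻¹.1 = 1 := by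
        rw [← adj_mul, ← Units.val_mul, inv_mul_cancel, Units.val_one, adj_one]
      simp only [← Matrix.mul_assoc, hUU, Matrix.one_mul] at h2'
      rw [Matrix.mul_assoc _ U⁻¹.1, ← Units.val_mul, inv_mul_cancel, Units.val_one, Matrix.mul_one] at h2'
      rw [h2', Matrix.mul_assoc]
    obtain ⟨c, hc'⟩ := Matrix.mem_range_scalar_of_commute_single (M := adj σ U.1 * U.1) fun a a' _ => hcomm _
    exact ⟨c, by rw [← hc', Matrix.scalar_apply, Matrix.smul_one_eq_diagonal]⟩
  -- the diagonal group of the pair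
  set W := tensU (Pi.mulSingle l U) with hW
  have hWh : W * h * W⁻¹ = permU (Equiv.swap p l) := by
    rw [mul_inv_eq_iff_eq_mul, hW, hform, ← mul_assoc, tensU_mul, permU_mul_tensU]
    congr 2
    funext a
    simp only [Equiv.swap_inv]
    by_cases hal : a = l
    · subst hal; simp [hU, hpl]
    · by_cases hap : a = p
      · subst hap; simp [hU, hpl]
      · simp [hal, Equiv.swap_apply_of_ne_of_ne hap hal]
  let pairU : (Matrix (Fin 3) (Fin 3) F)ˣ →* GL (κ → Fin 3) F :=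
    MonoidHom.mk' (fun A => tensU (fun a => if a = p ∨ a = l then A else 1)) (fun A B => by
      rw [tensU_mul]; congr 1; funext a; split_ifs <;> simp)
  have hpairU : ∀ A, (pairU A).1 = op p A.1 * op l A.1 := fun A => by
    show (tensU _ : GL (κ → Fin 3) F).1 = _
    rw [tensU_coe, op_eq_tens, op_eq_tens, ← map_mul]
    congr 1
    funext a
    by_cases hap : a = p
    · subst hap; simp [hpl]
    · by_cases hal : a = l
      · subst hal; simp [hap]
      · simp [hap, hal]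
  let wH : (Matrix (Fin 3) (Fin 3) F)ˣ →* GL (κ → Fin 3) F :=
    (MulAut.conj (g⁻¹ * W⁻¹)).toMonoidHom.comp pairU
  have hwH : ∀ A, wH A = g⁻¹ * (W⁻¹ * pairU A * W) * g := fun A => by simp [wH, mul_assoc]
  have hswap : ∀ A, pairU A * permU (Equiv.swap p l) = permU (Equiv.swap p l) * pairU A := fun A => by
    refine Units.ext ?_
    rw [Units.val_mul, Units.val_mul, hpairU, permU_coe, ← Matrix.mul_assoc (permM _), permM_mul_op,
      Equiv.swap_apply_left, Matrix.mul_assoc (op l A.1), permM_mul_op, Equiv.swap_apply_right,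
      ← Matrix.mul_assoc, op_comm hpl.symm]
  have hgood : ∀ A : (Matrix (Fin 3) (Fin 3) F)ˣ, adj σ A.1 * A.1 = 1 → det A.1 = 1 →
      wH A ∈ wreathT F κ 3 ∧ wH A * r = r * wH A := by
    intro A hA hAd
    have hcomm : wH A * r = r * wH A := by
      have h1 : h * (W⁻¹ * pairU A * W) = W⁻¹ * pairU A * W * h := by
        have e : h = W⁻¹ * permU (Equiv.swap p l) * W := by rw [← hWh]; group
        rw [e, show W⁻¹ * permU (Equiv.swap p l) * W * (W⁻¹ * pairU A * W) =
          W⁻¹ * (permU (Equiv.swap p l) * pairU A) * W by group, ← hswap]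
        group
      rw [hwH, show g⁻¹ * (W⁻¹ * pairU A * W) * g * r = g⁻¹ * (W⁻¹ * pairU A * W * (g * r * g⁻¹)) * g by group,
        ← hh, ← h1, hh]
      group
    refine ⟨?_, hcomm⟩
    by_contra hA'
    refine hno _ ?_ hA' hcomm
    obtain ⟨a₁, ha₁, -, e₁⟩ := hM.exists_op_det p hA hAd
    obtain ⟨a₂, ha₂, -, e₂⟩ := hM.exists_op_det l (A := U⁻¹.1 * A.1 * U.1) (by
      have hU1 : c₀ ≠ 0 := fun e => by
        have hd := congrArg det hc₀
        rw [e, zero_smul, Matrix.det_zero, Matrix.det_mul, det_adj] at hd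
        have hne := ((Matrix.isUnit_iff_isUnit_det _).1 U.isUnit).ne_zero
        exact mul_ne_zero (conj_ne_zero hc hne) hne hd
      have hadjU : adj σ U.1 = c₀ • U⁻¹.1 := by
        have := congrArg (· * U⁻¹.1) hc₀
        simpa [Matrix.mul_assoc] using this
      have hadjUi : adj σ U⁻¹.1 * U⁻¹.1 = c₀⁻¹ • 1 := by
        have h1 : adj σ U⁻¹.1 * adj σ U.1 = 1 := by
          rw [← adj_mul, ← Units.val_mul, mul_inv_cancel, Units.val_one, adj_one]
        rw [hadjU, Matrix.mul_smul] at h1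
        rw [← one_smul F (adj σ U⁻¹.1 * U⁻¹.1), ← inv_mul_cancel₀ hU1, ← smul_smul, h1]
      rw [adj_mul, adj_mul, show adj σ U.1 * (adj σ A.1 * adj σ U⁻¹.1) * (U⁻¹.1 * A.1 * U.1) =
        adj σ U.1 * adj σ A.1 * (adj σ U⁻¹.1 * U⁻¹.1) * A.1 * U.1 by simp only [Matrix.mul_assoc], hadjUi]
      simp only [Matrix.mul_smul, Matrix.smul_mul, Matrix.mul_one, Matrix.mul_assoc (adj σ U.1), hA, hc₀, smul_smul,
        inv_mul_cancel₀ hU1, one_smul]) (by
      rw [Matrix.det_mul, Matrix.det_mul, hAd, mul_one, ← Matrix.det_mul, ← Units.val_mul, inv_mul_cancel,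
        Units.val_one, det_one])
    rw [hwH]
    refine mul_mem (mul_mem (inv_mem hg) ?_) hg
    have e : W⁻¹ * pairU A * W = a₁ * a₂ := Units.ext (by
      have hW1 : W.1 = op l U.1 := by
        rw [hW, tensU_coe, op_eq_tens]; congr 1; funext a
        by_cases ha : a = l
        · subst ha; simp
        · simp [ha]
      have hW2 : W⁻¹.1 = op l U⁻¹.1 := by
        rw [← Matrix.mul_one W⁻¹.1, ← map_one (op (F := F) (m := 3) l), ← Units.val_one, ← mul_inv_cancel U, Units.val_mul, map_mul,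
          ← hW1, ← Matrix.mul_assoc, ← Units.val_mul, inv_mul_cancel, Units.val_one, Matrix.one_mul]
      rw [Units.val_mul, Units.val_mul, Units.val_mul, hW1, hW2, hpairU, e₁, e₂, ← Matrix.mul_assoc (op l U⁻¹.1),
        op_comm hpl.symm, Matrix.mul_assoc (op p A.1), ← map_mul, Matrix.mul_assoc, ← map_mul])
    rw [e]
    exact mul_mem ha₁ ha₂
  -- the graded pieces of the slice
  have hN : op i (μ • dyad σ b b) = op i (vecMulVec (μ • b) fun a => σ (b a)) := by
    rw [← dyad_smul_left]; rfl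
  set β : Fin 3 → F := fun a => σ (b a) with hβdef
  have hβ : β ≠ 0 := fun e => hb (funext fun a => by
    have := congrArg σ (congrFun e a)
    simpa [hβdef, hc.invol] using this)
  obtain ⟨d, hd⟩ := exists_dot_one hβ
  rw [dotProduct_comm] at hd
  obtain ⟨c, hcβ, hcb⟩ := exists_perp_notMem (n := 3) le_rfl β b
  obtain ⟨θ, hθb, hθc⟩ := exists_dot hcb
  have hβb : β ⬝ᵥ b = 0 := hbb
  have hspan : ∀ v, β ⬝ᵥ v = 0 → ∃ s t : F, v = s • c + t • b := fun v hv => by
    have hdim : finrank F (LinearMap.ker (dotProductBilin F F β)) ≤ 2 := by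
      have h1 := (dotProductBilin F F β).finrank_range_add_finrank_ker
      have h2 : finrank F (LinearMap.range (dotProductBilin F F β)) = 1 := by
        rw [LinearMap.range_eq_top.2 (LinearMap.surjective fun h0 => by
          have := LinearMap.congr_fun h0 d
          simp [hd] at this), finrank_top, finrank_self]
      rw [h2, finrank_fin_fun] at h1
      omega
    have hli : LinearIndependent F ![b, c] := (LinearIndependent.pair_iff' hb).2 fun a ha =>
      hcb (ha ▸ Submodule.smul_mem _ a (Submodule.mem_span_singleton_self b))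
    have hle : Submodule.span F (Set.range ![b, c]) ≤ LinearMap.ker (dotProductBilin F F β) := by
      rw [Submodule.span_le]
      rintro _ ⟨a, rfl⟩
      fin_cases a
      · exact hβb
      · exact hcβ
    have heq := Submodule.eq_of_le_of_finrank_le hle (by rw [finrank_span_eq_card hli]; simpa using hdim)
    have hv' : v ∈ Submodule.span F (Set.range ![b, c]) := heq ▸ hv
    rw [Matrix.range_cons, Matrix.range_cons, Matrix.range_empty, Set.union_empty, Set.singleton_union,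
      Submodule.mem_span_pair] at hv'
    obtain ⟨t, s, e⟩ := hv'
    exact ⟨s, t, by rw [← e, add_comm]⟩
  have hdata : ∀ A : (Matrix (Fin 3) (Fin 3) F)ˣ, adj σ A.1 * A.1 = 1 → det A.1 = 1 →
      ∃ (C : GL (Fin 3) F) (B : GL (Rest i → Fin 3) F) (lam η ν : F), lam ≠ 0 ∧ η ≠ 0 ∧
        split i (wH A).1 = C.1 ⊗ₖ B.1 ∧ C.1 *ᵥ b = lam • b ∧ C.1 *ᵥ c = η • c + ν • b := by
    intro A hA hAd
    obtain ⟨hT, hcm⟩ := hgood A hA hAd
    have h1 := congrArg Units.val hcm
    rw [Units.val_mul, Units.val_mul, hr, hN, Matrix.mul_add, Matrix.add_mul, Matrix.mul_one, Matrix.one_mul] at h1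
    obtain ⟨C, B, hsp, hC⟩ := split_of_comm_root le_rfl i (smul_ne_zero hμ0 hb) hβ hT (add_left_cancel h1)
    have hBd : det B ≠ 0 := fun h0 => by
      have h4 : det (split i (wH A).1) ≠ 0 := by
        rw [show det (split i (wH A).1) = det (wH A).1 from Matrix.det_reindex_self _ _]
        exact ((Matrix.isUnit_iff_isUnit_det _).1 (wH A).isUnit).ne_zero
      rw [hsp, Matrix.det_kronecker, h0] at h4
      exact h4 (by simp)
    have k1 := congrArg (· *ᵥ d) hC
    simp only [← Matrix.mulVec_mulVec, vecMulVec_mulVec, op_smul_eq_smul, hd, one_smul, Matrix.mulVec_smul] at k1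
    have k2 := congrArg (· *ᵥ c) hC
    simp only [← Matrix.mulVec_mulVec, vecMulVec_mulVec, op_smul_eq_smul, hcβ, zero_smul, Matrix.mulVec_zero] at k2
    obtain ⟨s, t, hst⟩ := hspan _ ((smul_eq_zero.1 k2.symm).resolve_right (smul_ne_zero hμ0 hb))
    have hlam : C.1 *ᵥ b = (β ⬝ᵥ C.1 *ᵥ d) • b := smul_right_injective _ hμ0 (by
      show μ • _ = μ • _
      rw [k1, smul_comm])
    have hCinj : Function.Injective fun v => C.1 *ᵥ v := Matrix.mulVec_injective_iff_isUnit.2 C.isUnit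
    refine ⟨C, GeneralLinearGroup.mkOfDetNeZero B hBd, _, s, t, fun e => ?_, fun e => ?_, hsp, hlam, hst⟩
    · rw [e, zero_smul, ← Matrix.mulVec_zero C.1] at hlam
      exact hb (hCinj hlam)
    · have h5 : C.1 *ᵥ ((β ⬝ᵥ C.1 *ᵥ d) • c - t • b) = 0 := by
        rw [Matrix.mulVec_sub, Matrix.mulVec_smul, Matrix.mulVec_smul, hst, hlam, e, zero_smul, zero_add, smul_comm,
          sub_self]
      have h6 : (β ⬝ᵥ C.1 *ᵥ d) • c - t • b = 0 := hCinj (by simp only [h5, Matrix.mulVec_zero])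
      have hl0 : β ⬝ᵥ C.1 *ᵥ d ≠ 0 := fun e' => by
        rw [e', zero_smul, ← Matrix.mulVec_zero C.1] at hlam
        exact hb (hCinj hlam)
      exact hcb (Submodule.mem_span_singleton.2 ⟨(β ⬝ᵥ C.1 *ᵥ d)⁻¹ * t, by
        rw [mul_smul, ← sub_eq_zero.1 h6, inv_smul_smul₀ hl0]⟩)
  -- the element
  obtain ⟨ζ, hζ, hζ3⟩ := exists_norm_one_cube hc hbig h2
  have hζ0 : ζ ≠ 0 := fun e => by rw [e, zero_mul] at hζ; exact zero_ne_one hζ
  have hσζ : σ ζ = ζ⁻¹ := eq_inv_of_mul_eq_one_right hζ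
  set P₀ : Matrix (Fin 3) (Fin 3) F := Matrix.of fun x y => if y = Equiv.swap (0 : Fin 3) 1 x then 1 else 0 with hP₀
  have hP₀adj : adj σ P₀ = P₀ := by
    ext x y; fin_cases x <;> fin_cases y <;> simp [adj_apply, hP₀, Equiv.swap_apply_def]
  have hP₀sq : P₀ * P₀ = 1 := by
    ext x y; fin_cases x <;> fin_cases y <;> simp [hP₀, Matrix.mul_apply, Fin.sum_univ_three, Equiv.swap_apply_def]
  have hP₀d : det P₀ = 1 := by
    rw [Matrix.det_fin_three]; simp [hP₀, Equiv.swap_apply_def, CharTwo.neg_eq]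
  set D₀ : Matrix (Fin 3) (Fin 3) F := Matrix.diagonal ![1, ζ, ζ⁻¹] with hD₀
  have hD₀adj : adj σ D₀ * D₀ = 1 := by
    rw [hD₀, adj_diagonal, Matrix.diagonal_mul_diagonal, ← Matrix.diagonal_one]
    congr 1
    funext x; fin_cases x <;> simp [hσζ, hζ0, inv_mul_cancel₀ hζ0]
  have hD₀d : det D₀ = 1 := by simp [hD₀, Fin.prod_univ_three, hζ0]
  let Pu : (Matrix (Fin 3) (Fin 3) F)ˣ := ⟨P₀, P₀, hP₀sq, hP₀sq⟩
  let Du : (Matrix (Fin 3) (Fin 3) F)ˣ := GeneralLinearGroup.mkOfDetNeZero D₀ (by rw [hD₀d]; exact one_ne_zero)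
  set a : Fin 3 → F := ![ζ, ζ⁻¹, 1] with ha
  set A₀ := Pu * Du * Pu⁻¹ * Du⁻¹ with hA₀
  have hA₀val : A₀.1 = Matrix.diagonal a := by
    have hDi : Du⁻¹.1 = Matrix.diagonal ![1, ζ⁻¹, ζ] := by
      have h1 : Du.1 * Matrix.diagonal ![1, ζ⁻¹, ζ] = 1 := by
        show D₀ * _ = 1
        rw [hD₀, Matrix.diagonal_mul_diagonal, ← Matrix.diagonal_one]
        congr 1
        funext x; fin_cases x <;> simp [hζ0]
      have h3 := congrArg (Du⁻¹.1 * ·) h1
      simp only [← Matrix.mul_assoc, ← Units.val_mul, inv_mul_cancel, Units.val_one, Matrix.one_mul,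
        Matrix.mul_one] at h3
      exact h3.symm
    rw [hA₀, Units.val_mul, Units.val_mul, Units.val_mul, hDi]
    show P₀ * D₀ * P₀ * _ = _
    ext x y
    fin_cases x <;> fin_cases y <;>
      simp [hP₀, hD₀, ha, Matrix.mul_apply, Fin.sum_univ_three, Equiv.swap_apply_def, inv_mul_cancel₀ hζ0]
  obtain ⟨C₁, B₁, l₁, η₁, ν₁, hl₁, hη₁, hs₁, hb₁, hc₁⟩ := hdata Pu (by
    show adj σ P₀ * P₀ = 1
    rw [hP₀adj, hP₀sq]) hP₀d
  obtain ⟨C₂, B₂, l₂, η₂, ν₂, hl₂, hη₂, hs₂, hb₂, hc₂⟩ := hdata Du hD₀adj hD₀d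
  set w := wH A₀ with hw
  set C := C₁ * C₂ * C₁⁻¹ * C₂⁻¹ with hC
  set B := (B₁ * B₂ * B₁⁻¹ * B₂⁻¹).1 with hB
  have hkinv : ∀ (x : GL (κ → Fin 3) F) (C : GL (Fin 3) F) (B : GL (Rest i → Fin 3) F),
      split i x.1 = C.1 ⊗ₖ B.1 → split i x⁻¹.1 = C⁻¹.1 ⊗ₖ B⁻¹.1 := fun x C B e => by
    have h1 : split i x.1 * (C⁻¹.1 ⊗ₖ B⁻¹.1) = 1 := by
      rw [e, ← Matrix.mul_kronecker_mul, ← Units.val_mul, ← Units.val_mul, mul_inv_cancel, mul_inv_cancel,
        Units.val_one, Units.val_one, Matrix.one_kronecker_one]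
    have h3 : split i x⁻¹.1 * split i x.1 = 1 := by
      rw [← map_mul, ← Units.val_mul, inv_mul_cancel, Units.val_one, map_one]
    rw [← Matrix.mul_one (split i x⁻¹.1), ← h1, ← Matrix.mul_assoc, h3, Matrix.one_mul]
  have hsplit : split i w.1 = C.1 ⊗ₖ B := by
    rw [hw, hA₀, map_mul, map_mul, map_mul, map_inv, map_inv, Units.val_mul, Units.val_mul, Units.val_mul, map_mul,
      map_mul, map_mul, hs₁, hs₂, hkinv _ _ _ hs₁, hkinv _ _ _ hs₂, ← Matrix.mul_kronecker_mul,
      ← Matrix.mul_kronecker_mul, ← Matrix.mul_kronecker_mul]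
    rfl
  have hcancel : ∀ (X : GL (Fin 3) F) (v : Fin 3 → F), X⁻¹.1 *ᵥ (X.1 *ᵥ v) = v := fun X v => by
    rw [Matrix.mulVec_mulVec, ← Units.val_mul, inv_mul_cancel, Units.val_one, Matrix.one_mulVec]
  have hinvb : ∀ (X : GL (Fin 3) F) (t : F), t ≠ 0 → X.1 *ᵥ b = t • b → X⁻¹.1 *ᵥ b = t⁻¹ • b := fun X t ht e => by
    have := hcancel X b
    rw [e, Matrix.mulVec_smul] at this
    conv_rhs => rw [← this, smul_smul, inv_mul_cancel₀ ht, one_smul]
  have hinvc : ∀ (X : GL (Fin 3) F) (t s n : F), t ≠ 0 → s ≠ 0 → X.1 *ᵥ b = t • b → X.1 *ᵥ c = s • c + n • b →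
      X⁻¹.1 *ᵥ c = s⁻¹ • c + (-(s⁻¹ * n * t⁻¹)) • b := fun X t s n ht hs0 eb ec => by
    have := hcancel X c
    rw [ec, Matrix.mulVec_add, Matrix.mulVec_smul, Matrix.mulVec_smul, hinvb X t ht eb] at this
    conv_rhs => arg 1; rw [← this]
    rw [smul_add, smul_smul, inv_mul_cancel₀ hs0, one_smul, neg_smul, smul_smul, smul_smul,
      add_neg_cancel_right]
  have hCb : C.1 *ᵥ b = b := by
    simp only [hC, Units.val_mul, ← Matrix.mulVec_mulVec, hinvb C₂ l₂ hl₂ hb₂, hinvb C₁ l₁ hl₁ hb₁, Matrix.mulVec_smul,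
      hb₂, hb₁, smul_smul]
    rw [show l₂⁻¹ * (l₁⁻¹ * (l₂ * l₁)) = 1 by field_simp, one_smul]
  obtain ⟨ν, hCc⟩ : ∃ ν : F, C.1 *ᵥ c = c + ν • b := by
    simp only [hC, Units.val_mul, ← Matrix.mulVec_mulVec, hinvc C₂ l₂ η₂ ν₂ hl₂ hη₂ hb₂ hc₂,
      hinvc C₁ l₁ η₁ ν₁ hl₁ hη₁ hb₁ hc₁, hinvb C₁ l₁ hl₁ hb₁, Matrix.mulVec_add, Matrix.mulVec_smul, hb₂, hb₁, hc₂, hc₁,
      smul_add, smul_smul, add_assoc, ← add_smul]
    exact ⟨_, by rw [show η₂⁻¹ * (η₁⁻¹ * (η₂ * η₁)) = 1 by field_simp, one_smul]⟩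
  -- the polynomial identities
  set G := g⁻¹ * W⁻¹ with hG
  clear_value G
  set dd : (κ → Fin 3) → F := fun x => a (x p) * a (x l) with hdd
  have hu : G.1 * Matrix.diagonal dd * G⁻¹.1 = w.1 := by
    rw [hw, show wH A₀ = G * pairU A₀ * G⁻¹ by rw [hG]; rfl, Units.val_mul, Units.val_mul, hpairU, hA₀val, op_diag_mul hpl]
  set S : TMat F κ 3 := permM (Equiv.swap p l) + 1 with hS
  have hSN : G.1 * S * G⁻¹.1 = op i (μ • dyad σ b b) := by
    have h3 : r = G * permU (Equiv.swap p l) * G⁻¹ := by rw [hG, ← hWh, hh]; group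
    have h4 : G.1 * permM (Equiv.swap p l) * G⁻¹.1 = r.1 := by rw [h3, Units.val_mul, Units.val_mul, permU_coe]
    rw [hS, Matrix.mul_add, Matrix.add_mul, h4, Matrix.mul_one, ← Units.val_mul, mul_inv_cancel, Units.val_one, hr,
      add_comm (1 : TMat F κ 3), add_assoc]
    conv_lhs => arg 2; arg 2; rw [← hneg 1]
    rw [add_neg_cancel, add_zero]
  set s := ζ + ζ⁻¹ with hsdef
  have hs0 : s ≠ 0 := fun e => hζ3 (by
    have hζ1 : ζ = 1 := by
      have h1 : ζ * ζ = 1 := by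
        rw [hsdef] at e
        linear_combination ζ * e - h2 - mul_inv_cancel₀ hζ0
      have : (ζ - 1) * (ζ - 1) = 0 := by linear_combination h1 - (ζ - 1) * h2
      exact sub_eq_zero.1 ((mul_self_eq_zero).1 this)
    rw [hζ1, one_pow])
  have hs1 : s + 1 ≠ 0 := fun e => hζ3 (by
    rw [hsdef] at e
    linear_combination (ζ - 1) * ζ * e - (ζ - 1) * mul_inv_cancel₀ hζ0)
  set f : F → F := fun t => t * t * t + (1 + s) * (t * t) + (1 + s) * t + 1 with hfdef
  set f' : F → F := fun t => t * t * t + (1 + s * s) * (t * t) + (1 + s * s) * t + 1 with hfdef'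
  have hroot : ∀ u : F, u ≠ 0 → u * u * u + (1 + (u + u⁻¹)) * (u * u) + (1 + (u + u⁻¹)) * u + 1 = 0 := fun u hu' => by
    linear_combination (u * u * u + u * u + u + 1) * h2 + (u + 1) * mul_inv_cancel₀ hu'
  have hsq : s * s = ζ * ζ + (ζ * ζ)⁻¹ := by
    rw [hsdef, mul_inv]
    linear_combination ζ * ζ⁻¹ * h2
  have hfz : f ζ = 0 := hroot ζ hζ0
  have hfz' : f ζ⁻¹ = 0 := by
    have := hroot ζ⁻¹ (inv_ne_zero hζ0)
    rwa [inv_inv, add_comm ζ⁻¹] at this
  have hf1 : f 1 = 0 := by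
    show (1 : F) * 1 * 1 + (1 + s) * (1 * 1) + (1 + s) * 1 + 1 = 0
    linear_combination (2 + s) * h2
  have hf'z : f' (ζ * ζ) = 0 := by
    have := hroot (ζ * ζ) (mul_ne_zero hζ0 hζ0)
    rwa [← hsq] at this
  have hf'z' : f' (ζ⁻¹ * ζ⁻¹) = 0 := by
    have := hroot (ζ * ζ)⁻¹ (inv_ne_zero (mul_ne_zero hζ0 hζ0))
    rwa [inv_inv, add_comm (ζ * ζ)⁻¹, ← hsq, mul_inv] at this
  have hf'1 : f' 1 = 0 := by
    show (1 : F) * 1 * 1 + (1 + s * s) * (1 * 1) + (1 + s * s) * 1 + 1 = 0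
    linear_combination (2 + s * s) * h2
  have hf : ∀ x y : Fin 3, x ≠ y → f (a x * a y) = 0 := fun x y hxy => by
    fin_cases x <;> fin_cases y <;> simp at hxy <;>
      simp [ha, mul_inv_cancel₀ hζ0, inv_mul_cancel₀ hζ0, hfz, hfz', hf1]
  have hf' : ∀ x : Fin 3, f' (a x * a x) = 0 := fun x => by
    fin_cases x <;> simp [ha, hf'z, hf'z', hf'1]
  have hSapply : ∀ x y, S x y = (if y = x ∘ ⇑(Equiv.swap p l) then 1 else 0) + if x = y then 1 else 0 := fun x y => by
    rw [hS, Matrix.add_apply, permM_apply, Matrix.one_apply]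
  have hI1 : Matrix.diagonal (fun x => f (dd x)) * S = 0 := by
    ext x y
    rw [Matrix.diagonal_mul, Matrix.zero_apply]
    by_cases hxp : x p = x l
    · have hfx : x ∘ ⇑(Equiv.swap p l) = x := funext fun o => by
        by_cases hop : o = p
        · subst hop; simp [hxp]
        · by_cases hol : o = l
          · subst hol; simp [hxp]
          · simp [Equiv.swap_apply_of_ne_of_ne hop hol]
      rw [hSapply, hfx]
      by_cases hxy : y = x
      · subst hxy; simp [CharTwo.add_self_eq_zero]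
      · simp [hxy, Ne.symm hxy]
    · rw [hdd, hf _ _ hxp, zero_mul]
  set Z : TMat F κ 3 := Matrix.of fun x y => if y = x ∘ ⇑(Equiv.swap p l) ∧ x p < x l then f' (dd x) else 0 with hZ
  have hI2 : Matrix.diagonal (fun x => f' (dd x)) = S * Z + Z * S := by
    have hinvol : ∀ x : κ → Fin 3, (x ∘ ⇑(Equiv.swap p l)) ∘ ⇑(Equiv.swap p l) = x := fun x => by
      funext o; simp
    have e : S * Z + Z * S = permM (Equiv.swap p l) * Z + Z * permM (Equiv.swap p l) := by
      rw [hS, Matrix.add_mul, Matrix.mul_add, Matrix.one_mul, Matrix.mul_one, add_add_add_comm]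
      conv_lhs => arg 2; arg 2; rw [← hneg Z]
      rw [add_neg_cancel, add_zero]
    rw [e]
    ext x y
    rw [Matrix.add_apply, Matrix.mul_apply, Matrix.mul_apply,
      Finset.sum_eq_single (x ∘ ⇑(Equiv.swap p l)) (fun z _ hz => by rw [permM_apply, if_neg hz, zero_mul]) (by simp),
      Finset.sum_eq_single (y ∘ ⇑(Equiv.swap p l)) (fun z _ hz => by
        rw [permM_apply, if_neg (fun e => hz (by rw [e, hinvol])), mul_zero]) (by simp),
      permM_apply, permM_apply, if_pos rfl, if_pos (hinvol y).symm, one_mul, mul_one]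
    simp only [hZ, Matrix.of_apply, hinvol, Function.comp_apply, Equiv.swap_apply_left, Equiv.swap_apply_right]
    have hddsw : dd (x ∘ ⇑(Equiv.swap p l)) = dd x := by simp [hdd, mul_comm]
    by_cases hxy : x = y
    · subst hxy
      rw [Matrix.diagonal_apply_eq]
      rcases lt_trichotomy (x p) (x l) with hlt | heq | hgt
      · simp [hlt, not_lt.2 hlt.le]
      · simp [heq, hdd, hf' (x l)]
      · simp [hgt, not_lt.2 hgt.le, hddsw]
    · rw [Matrix.diagonal_apply_ne _ hxy, if_neg (fun e => hxy e.1.symm), if_neg (fun e => hxy ?_), add_zero]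
      have := congrArg (fun z : κ → Fin 3 => z ∘ ⇑(Equiv.swap p l)) e.1
      simpa [hinvol] using this.symm
  have hΓ : ∀ X Y, G.1 * (X * Y) * G⁻¹.1 = (G.1 * X * G⁻¹.1) * (G.1 * Y * G⁻¹.1) := fun X Y => by
    rw [show G.1 * X * G⁻¹.1 * (G.1 * Y * G⁻¹.1) = G.1 * (X * (G⁻¹.1 * G.1) * Y) * G⁻¹.1 by simp only [Matrix.mul_assoc],
      ← Units.val_mul, inv_mul_cancel, Units.val_one, Matrix.mul_one]
  have hpoly : ∀ t : F, G.1 * Matrix.diagonal (fun x => dd x * dd x * dd x + (1 + t) * (dd x * dd x) + (1 + t) * dd x + 1) *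
      G⁻¹.1 = w.1 * w.1 * w.1 + (1 + t) • (w.1 * w.1) + (1 + t) • w.1 + 1 := fun t => by
    have e : Matrix.diagonal (fun x => dd x * dd x * dd x + (1 + t) * (dd x * dd x) + (1 + t) * dd x + 1) =
        Matrix.diagonal dd * Matrix.diagonal dd * Matrix.diagonal dd + (1 + t) • (Matrix.diagonal dd * Matrix.diagonal dd) +
          (1 + t) • Matrix.diagonal dd + 1 := by
      rw [Matrix.diagonal_mul_diagonal, Matrix.diagonal_mul_diagonal, ← Matrix.diagonal_one]
      ext x y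
      by_cases hxy : x = y
      · subst hxy; simp
      · simp [hxy]
    rw [e, Matrix.mul_add, Matrix.mul_add, Matrix.mul_add, Matrix.add_mul, Matrix.add_mul, Matrix.add_mul, hΓ, hΓ,
      Matrix.mul_smul, Matrix.mul_smul, Matrix.smul_mul, Matrix.smul_mul, hΓ, hu, Matrix.mul_one, Units.mul_inv]
  have hF : (w.1 * w.1 * w.1 + (1 + s) • (w.1 * w.1) + (1 + s) • w.1 + 1) * op i (μ • dyad σ b b) = 0 := by
    rw [← hpoly, ← hSN, ← hΓ]
    show G.1 * (Matrix.diagonal (fun x => f (dd x)) * S) * G⁻¹.1 = 0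
    rw [hI1, Matrix.mul_zero, Matrix.zero_mul]
  set X := G.1 * Z * G⁻¹.1 with hX
  have hG2 : w.1 * w.1 * w.1 + (1 + s * s) • (w.1 * w.1) + (1 + s * s) • w.1 + 1 =
      op i (μ • dyad σ b b) * X + X * op i (μ • dyad σ b b) := by
    rw [← hpoly, ← hSN, ← hΓ, ← hΓ, ← Matrix.add_mul, ← Matrix.mul_add, ← hI2]
  -- read off `B`
  have hCn : ∀ n : ℕ, ∃ t : F, (C.1 ^ n) *ᵥ c = c + t • b ∧ (C.1 ^ n) *ᵥ b = b := fun n => by
    induction n with
    | zero => exact ⟨0, by simp, by simp⟩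
    | succ n ih =>
      obtain ⟨t, ht, htb⟩ := ih
      refine ⟨ν + t, ?_, ?_⟩
      · rw [pow_succ', ← Matrix.mulVec_mulVec, ht, Matrix.mulVec_add, Matrix.mulVec_smul, hCb, hCc, add_smul]
        abel
      · rw [pow_succ', ← Matrix.mulVec_mulVec, htb, hCb]
  have hwn : ∀ n : ℕ, split i (w.1 ^ n) = (C.1 ^ n) ⊗ₖ (B ^ n) := fun n => by
    induction n with
    | zero => simp [Matrix.one_kronecker_one]
    | succ n ih => rw [pow_succ, map_mul, ih, hsplit, pow_succ, pow_succ, Matrix.mul_kronecker_mul]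
  have hθc' : θ ≠ 0 := fun e => by simp [e] at hθc
  have hpick : ∀ {u : Fin 3 → F}, u ≠ 0 → ∀ {Y : TMat F (Rest i) 3}, vecMulVec u θ ⊗ₖ Y = 0 → Y = 0 := by
    intro u hu' Y hY
    obtain ⟨x, hx⟩ := Function.ne_iff.1 hu'
    obtain ⟨y, hy⟩ := Function.ne_iff.1 hθc'
    ext z z'
    have := congrFun (congrFun hY (x, z)) (y, z')
    rw [Matrix.kroneckerMap_apply, vecMulVec_apply, Matrix.zero_apply] at this
    exact (mul_eq_zero.1 this).resolve_left (mul_ne_zero hx hy)
  have hfB : B ^ 3 + (1 + s) • B ^ 2 + (1 + s) • B + 1 = 0 := by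
    have h1 := congrArg (fun Y => split i Y * (vecMulVec d θ ⊗ₖ (1 : TMat F (Rest i) 3))) hF
    rw [hN] at h1
    simp only [map_mul (split i), map_zero, Matrix.zero_mul, split_op_self, Matrix.mul_assoc _ (vecMulVec (μ • b) β ⊗ₖ _),
      ← Matrix.mul_kronecker_mul, vecMulVec_mul_vecMulVec, hd, one_smul, Matrix.mul_one] at h1
    have key : ∀ n : ℕ, split i (w.1 ^ n) * (vecMulVec (μ • b) θ ⊗ₖ (1 : TMat F (Rest i) 3)) =
        vecMulVec (μ • b) θ ⊗ₖ (B ^ n) := fun n => by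
      rw [hwn, ← Matrix.mul_kronecker_mul, Matrix.mul_vecMulVec, Matrix.mulVec_smul, (hCn n).choose_spec.2, Matrix.mul_one]
    refine hpick (smul_ne_zero hμ0 hb) ?_
    rw [Matrix.kronecker_add, Matrix.kronecker_add, Matrix.kronecker_add, Matrix.kronecker_smul, Matrix.kronecker_smul,
      ← key 3, ← key 2, show vecMulVec (μ • b) θ ⊗ₖ B = split i (w.1 ^ 1) * (vecMulVec (μ • b) θ ⊗ₖ (1 : TMat F (Rest i) 3)) by
        rw [key, pow_one]]
    rw [← h1]
    simp only [map_add, map_smul, map_one, Matrix.add_mul, Matrix.smul_mul, Matrix.one_mul, pow_succ, pow_zero]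
  have hgB : B ^ 3 + (1 + s * s) • B ^ 2 + (1 + s * s) • B + 1 = 0 := by
    have hz1 : (vecMulVec (μ • b) β ⊗ₖ (1 : TMat F (Rest i) 3)) * (vecMulVec c θ ⊗ₖ (1 : TMat F (Rest i) 3)) = 0 := by
      rw [← Matrix.mul_kronecker_mul, vecMulVec_mul_vecMulVec, hcβ, zero_smul, vecMulVec_zero, Matrix.zero_kronecker]
    have hz2 : (vecMulVec c θ ⊗ₖ (1 : TMat F (Rest i) 3)) * (vecMulVec (μ • b) β ⊗ₖ (1 : TMat F (Rest i) 3)) = 0 := by
      rw [← Matrix.mul_kronecker_mul, vecMulVec_mul_vecMulVec, dotProduct_smul, hθb, smul_zero, zero_smul, vecMulVec_zero,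
        Matrix.zero_kronecker]
    set Q := vecMulVec c θ ⊗ₖ (1 : TMat F (Rest i) 3) with hQ
    have h1 := congrArg (fun Y => Q * split i Y * Q) hG2
    simp only [hN, map_add, map_mul (split i) (op i _), map_mul (split i) X, split_op_self] at h1
    rw [Matrix.mul_add Q _ (split i X * _), Matrix.add_mul, ← Matrix.mul_assoc Q (vecMulVec (μ • b) β ⊗ₖ _), hz2,
      Matrix.zero_mul, Matrix.zero_mul, zero_add, ← Matrix.mul_assoc Q (split i X),
      Matrix.mul_assoc (Q * split i X), hz1, Matrix.mul_zero] at h1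
    have key : ∀ n : ℕ, Q * split i (w.1 ^ n) * Q = vecMulVec c θ ⊗ₖ (B ^ n) := fun n => by
      obtain ⟨t, ht, -⟩ := hCn n
      rw [hQ, hwn, ← Matrix.mul_kronecker_mul, ← Matrix.mul_kronecker_mul, Matrix.mul_one, Matrix.one_mul,
        Matrix.mul_assoc, Matrix.mul_vecMulVec, vecMulVec_mul_vecMulVec, ht, dotProduct_add, dotProduct_smul, hθc, hθb,
        smul_zero, add_zero, one_smul]
    refine hpick (u := c) (fun e => hcb (by rw [e]; exact Submodule.zero_mem _)) ?_
    rw [Matrix.kronecker_add, Matrix.kronecker_add, Matrix.kronecker_add, Matrix.kronecker_smul, Matrix.kronecker_smul,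
      ← key 3, ← key 2, show vecMulVec c θ ⊗ₖ B = Q * split i (w.1 ^ 1) * Q by rw [key, pow_one],
      show vecMulVec c θ ⊗ₖ (1 : TMat F (Rest i) 3) = Q * split i (w.1 ^ 0) * Q by rw [key, pow_zero]]
    rw [← h1]
    simp only [map_add, map_smul, map_one, Matrix.add_mul, Matrix.mul_add, Matrix.smul_mul, Matrix.mul_smul, pow_succ,
      pow_zero, Matrix.one_mul]
  have hnegB : ∀ Y : TMat F (Rest i) 3, Y + Y = 0 := fun Y => by
    ext x y; exact CharTwo.add_self_eq_zero (Y x y)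
  have hB2 : B ^ 2 = B := by
    have h1 : (s * (s + 1)) • (B ^ 2 + B) = 0 := by
      calc _ = (B ^ 3 + (1 + s) • B ^ 2 + (1 + s) • B + 1) + (B ^ 3 + (1 + s * s) • B ^ 2 + (1 + s * s) • B + 1) -
              ((B ^ 3 + B ^ 2 + B + 1) + (B ^ 3 + B ^ 2 + B + 1)) := by module
        _ = 0 := by simp [hfB, hgB, hnegB]
    have h3 := (smul_eq_zero.1 h1).resolve_left (mul_ne_zero hs0 hs1)
    calc B ^ 2 = B ^ 2 + (B + B) := by rw [hnegB, add_zero]
      _ = B := by rw [← add_assoc, h3, zero_add]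
  have hB1 : B = 1 := by
    have h1 := hfB
    rw [show B ^ 3 = B by rw [pow_succ, hB2, ← pow_two, hB2], hB2, add_assoc (B), hnegB, add_zero] at h1
    calc B = B + (1 + 1) := by rw [hnegB, add_zero]
      _ = 1 := by rw [← add_assoc, h1, zero_add]
  -- but the element moves the image
  have hwN : w.1 * op i (μ • dyad σ b b) = op i (μ • dyad σ b b) := (split i).injective (by
    rw [map_mul, hN, split_op_self, hsplit, hB1, ← Matrix.mul_kronecker_mul, Matrix.mul_vecMulVec, Matrix.mulVec_smul,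
      hCb, Matrix.one_mul])
  rw [← hu, ← hSN, ← hΓ] at hwN
  have hSS : Matrix.diagonal dd * S = S := by
    have := congrArg (fun Y => G⁻¹.1 * Y * G.1) hwN
    simpa [← Matrix.mul_assoc, Matrix.mul_assoc _ G⁻¹.1] using this
  set x₀ : κ → Fin 3 := fun o => if o = p then 0 else 2
  have hne : x₀ ≠ x₀ ∘ ⇑(Equiv.swap p l) := fun e => by
    have := congrFun e p
    simp [x₀, hpl.symm] at this
  have h9 := congrFun (congrFun hSS x₀) x₀
  rw [Matrix.diagonal_mul, hSapply, if_neg hne, if_pos rfl, zero_add, mul_one] at h9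
  simp [hdd, ha, x₀, hpl.symm] at h9
  exact hζ3 (by rw [h9, one_pow])

end CfsgLib.Classical.WreathMaxU
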