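import Cfsg.Agent.Lib.Classical.WreathMaxU.NoFusion
import Cfsg.Agent.Lib.Classical.WreathMaxU.Swap

/-!
# Fusion of transvections in the unitary overgroup fixes a slice or centralises a factor
-/

set_option autoImplicit false
set_option linter.unusedSectionVars false

open Matrix Module
open scoped Kronecker
open CfsgLib.Classical.TensorMax (vecMulVec_eq_zero_iff')

namespace CfsgLib.Classical.WreathMaxU

open CfsgLib.Classical.WreathMax (TMat op op_add op_sub op_smul op_injective op_zero op_comm split split_op_self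
  wreathT Rest liftRest split_liftRest Ad Ad_apply Ad_mul Ad_one Ad_inv_self Ad_self_inv op_mem_wreathT op_of_fix
  op_of_commute_rest classify SwapType rank_op_rankOne_le eq_of_op_eq_op vecMulVec_ne_scalar exists_inner
  split_of_commute eq_smul_one_of_split wreathT_mul_op tensU tensU_mem permU permU_mem tensU_mul permU_mul_tensU
  det_one_add_nilpotent)

variable {F : Type*} [Field F] {κ : Type} [Fintype κ] [DecidableEq κ] {k : ℕ} {σ : F →+* F}

theorem Ad_map_mul {J : Type} [Fintype J] [DecidableEq J] (g : GL J F) (X Y : Matrix J J F) :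
    Ad g (X * Y) = Ad g X * Ad g Y := by
  simp only [Ad_apply, Matrix.mul_assoc]
  rw [← Matrix.mul_assoc g⁻¹.1 g.1, ← Units.val_mul, inv_mul_cancel, Units.val_one, Matrix.one_mul]

theorem Ad_map_one {J : Type} [Fintype J] [DecidableEq J] (g : GL J F) : Ad g (1 : Matrix J J F) = 1 := by
  rw [Ad_apply, Matrix.mul_one, ← Units.val_mul, mul_inv_cancel, Units.val_one]

theorem coe_conj {J : Type} [Fintype J] [DecidableEq J] (g x : GL J F) : (g * x * g⁻¹).1 = Ad g x.1 := by
  rw [Units.val_mul, Units.val_mul, Ad_apply]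

theorem Ad_injective {J : Type} [Fintype J] [DecidableEq J] (g : GL J F) : Function.Injective (Ad g) :=
  fun X Y h => by rw [← Ad_inv_self g X, h, Ad_inv_self]

theorem blk_ext (i : κ) {Y Y' : TMat F κ k} (h : ∀ u u', blk i u u' Y = blk i u u' Y') : Y = Y' :=
  sub_eq_zero.1 (eq_zero_of_blk i fun u u' => by rw [map_sub, h, sub_self])

theorem blk_one (i : κ) (u u' : Rest i → Fin k) :
    blk i u u' (1 : TMat F κ k) = (1 : TMat F (Rest i) k) u u' • (1 : Matrix (Fin k) (Fin k) F) := by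
  ext a c
  show split i 1 (a, u) (c, u') = _
  rw [map_one, Matrix.smul_apply, smul_eq_mul]
  by_cases h1 : a = c <;> by_cases h2 : u = u' <;> simp [Matrix.one_apply, h1, h2]

theorem blk_liftRest (i : κ) (u u' : Rest i → Fin k) (B : TMat F (Rest i) k) :
    blk i u u' (liftRest i B) = B u u' • (1 : Matrix (Fin k) (Fin k) F) := by
  ext a c
  show split i (liftRest i B) (a, u) (c, u') = _
  rw [split_liftRest, Matrix.kroneckerMap_apply, Matrix.smul_apply, smul_eq_mul, mul_comm]

theorem liftRest_comm_op (i : κ) (B : TMat F (Rest i) k) (A : Matrix (Fin k) (Fin k) F) :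
    liftRest i B * op i A = op i A * liftRest i B := (split i).injective (by
  rw [map_mul, map_mul, split_op_self, split_liftRest, ← Matrix.mul_kronecker_mul, ← Matrix.mul_kronecker_mul,
    Matrix.mul_one, Matrix.one_mul, Matrix.one_mul, Matrix.mul_one])

theorem adj_liftRest (i : κ) (B : TMat F (Rest i) k) : adj σ (liftRest i B) = liftRest i (adj σ B) :=
  (split i).injective (by rw [← adj_split, split_liftRest, split_liftRest, adj_kronecker, adj_one])

/-- Conjugation by `g` carries a transvection at `(i, b)` to one at `(j, b')`. -/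
structure RootPair (σ : F →+* F) (g : GL (κ → Fin k) F) (i : κ) (b : Fin k → F) (j : κ) (b' : Fin k → F) :
    Prop where
  ne : b ≠ 0
  iso : stdHerm σ k b b = 0
  ne' : b' ≠ 0
  iso' : stdHerm σ k b' b' = 0
  ex : ∃ c : F, c ≠ 0 ∧ Ad g (op i (dyad σ b b)) = c • op j (dyad σ b' b')

theorem RootPair.symm {g : GL (κ → Fin k) F} {i : κ} {b : Fin k → F} {j : κ} {b' : Fin k → F}
    (h : RootPair σ g i b j b') : RootPair σ g⁻¹ j b' i b := by
  obtain ⟨c, hc, e⟩ := h.ex
  refine ⟨h.ne', h.iso', h.ne, h.iso, c⁻¹, inv_ne_zero hc, ?_⟩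
  rw [← Ad_inv_self g (op i (dyad σ b b)), e, map_smul, smul_smul, inv_mul_cancel₀ hc, one_smul]

/-- An element of the special unitary group fixing an isotropic vector, carried back, is on the first factor. -/
theorem conj_stab_back {M : Subgroup (GL (κ → Fin k) F)} (hc : IsConjugation σ) [Finite F] (h3 : 3 ≤ k)
    (hM : Over σ M) {g : GL (κ → Fin k) F} (hg : g ∈ M) (hno : ¬ FixSlice σ M) {i : κ} {b : Fin k → F} {j : κ}
    {b' : Fin k → F} (hp : RootPair σ g i b j b') {C : Matrix (Fin k) (Fin k) F} (hC : adj σ C * C = 1)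
    (hCd : det C = 1) (hCb : C *ᵥ b' = b') : ∃ A, Ad g (op i A) = op j C := by
  obtain ⟨r, hr, -, hre⟩ := hM.exists_op_det j hC hCd
  obtain ⟨c, hc0, e⟩ := hp.ex
  have hw : g⁻¹ * r * g = g⁻¹ * r * g⁻¹⁻¹ := by rw [inv_inv]
  have hfix : ∀ γ, (g⁻¹ * r * g).1 * op i (vecMulVec b γ) = op i (vecMulVec b γ) := fun γ => by
    obtain ⟨f, -, hbf, -⟩ := exists_partnerVec hc hp.ne hp.iso
    have e1 : vecMulVec b γ = dyad σ b b * vecMulVec f γ := by
      rw [Matrix.mul_vecMulVec, dyad_mulVec, hbf, one_smul]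
    refine Ad_injective g ?_
    rw [hw, coe_conj, Ad_map_mul, Ad_self_inv, hre, e1, map_mul, Ad_map_mul, e, ← Matrix.mul_assoc, Matrix.mul_smul,
      ← map_mul, mul_dyad, hCb]
  by_cases hT : g⁻¹ * r * g ∈ wreathT F κ k
  · obtain ⟨A, hA⟩ := op_of_fix h3 hT hp.ne hfix
    refine ⟨A, ?_⟩
    rw [← hA, hw, coe_conj, Ad_self_inv, hre]
  · exact absurd ⟨_, mul_mem (mul_mem (inv_mem hg) hr) hg, hT, i, b, hp.ne, hp.iso, hfix⟩ hno

/-- A transvection carried into the stabiliser becomes one or exchanges two factors. -/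
theorem root_or_swap [Finite F] (hc : IsConjugation σ) {M : Subgroup (GL (κ → Fin k) F)} (hM : Over σ M) (h3 : 3 ≤ k)
    {g x : GL (κ → Fin k) F} (hg : g ∈ M) (hxM : x ∈ M) {l : κ} {b : Fin k → F} {μ : F} (hb : b ≠ 0)
    (hbb : stdHerm σ k b b = 0) (hμ0 : μ ≠ 0) (hx : x.1 = 1 + op l (μ • dyad σ b b))
    (hT : g * x * g⁻¹ ∈ wreathT F κ k) : (∃ j b', RootPair σ g l b j b') ∨ SwapType (g * x * g⁻¹) := by
  have e : (g * x * g⁻¹).1 - 1 = Ad g (op l (μ • dyad σ b b)) := by
    rw [coe_conj, hx, map_add, Ad_map_one, add_sub_cancel_left]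
  have hne : μ • dyad σ b b ≠ 0 := smul_ne_zero hμ0 fun h => (dyad_eq_zero hc h).elim hb hb
  have h1 : g * x * g⁻¹ ≠ 1 := fun h => hne (op_injective l (Ad_injective g (by
    rw [← e, h, Units.val_one, sub_self, op_zero, map_zero])))
  have hq : ((g * x * g⁻¹).1 - 1) * ((g * x * g⁻¹).1 - 1) = 0 := by
    rw [e, ← Ad_map_mul, ← map_mul, Matrix.smul_mul, Matrix.mul_smul, dyad_mul, hbb, zero_smul, smul_zero, smul_zero,
      op_zero, map_zero]
  have hr : ((g * x * g⁻¹).1 - 1).rank ≤ Fintype.card (Rest l → Fin k) := by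
    rw [e, ← dyad_smul_left, Ad_apply]
    exact ((Matrix.rank_mul_le_left _ _).trans (Matrix.rank_mul_le_right _ _)).trans (rank_op_rankOne_le l _ _)
  rcases classify h3 l hT h1 hq hr with ⟨j, b', β', hb', hβ', hβb', he⟩ | hs
  · obtain ⟨ν, hν0, -, hiso, hform⟩ := root_form hc (hM.le_su (mul_mem (mul_mem hg hxM) (inv_mem hg))) hb' hβ' hβb' he
    refine Or.inl ⟨j, b', hb, hbb, hb', hiso, μ⁻¹ * ν, mul_ne_zero (inv_ne_zero hμ0) hν0, ?_⟩
    rw [he, hform, add_sub_cancel_left, op_smul, op_smul, map_smul] at e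
    rw [mul_smul, e, smul_smul, inv_mul_cancel₀ hμ0, one_smul]
  · exact Or.inr hs

/-- An element of norm different from one. -/
theorem exists_norm_ne_one (hc : IsConjugation σ) (hbig : BigFixed σ) : ∃ l : F, l ≠ 0 ∧ l * σ l ≠ 1 := by
  obtain ⟨t, ht, ht0, ht1⟩ := hbig
  by_contra hno
  push Not at hno
  have htt := hno t ht0
  rw [ht] at htt
  have ht' : t = -1 := by
    have : (t - 1) * (t + 1) = 0 := by linear_combination htt
    exact eq_neg_of_add_eq_zero_left ((mul_eq_zero.1 this).resolve_left (sub_ne_zero.2 ht1))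
  obtain ⟨ω, hω⟩ := hc.exists_not_fixed
  have hω0 : ω ≠ 0 := fun e => hω (by rw [e, map_zero])
  have h1 : ∀ x : F, σ x ≠ x → (1 + σ x) * (1 + x) = 1 := fun x hx => by
    have h := hno (1 + x) fun e => hx (by rw [eq_neg_of_add_eq_zero_right e, map_neg, map_one])
    rw [map_add, map_one] at h
    linear_combination h
  have e1 := h1 ω hω
  have e2 := h1 (-ω) (by rw [map_neg]; exact fun e => hω (neg_injective e))
  rw [map_neg] at e2
  have e3 := hno ω hω0
  exact ht1 (by linear_combination ht' - e1 - e2 + 2 * e3)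

variable [Fintype F] {M : Subgroup (GL (κ → Fin k) F)}

/-- With one fused pair, every transvection of another factor stays in the stabiliser. -/
theorem conj_root_mem (hc : IsConjugation σ) (h3 : 3 ≤ k) (hex : BigFixed σ ∨ 4 ≤ k) (hM : Over σ M)
    {g : GL (κ → Fin k) F} (hg : g ∈ M) (hnF : ¬ FixSlice σ M) (hnC : ¬ CentFac M) {i : κ} {b : Fin k → F} {j : κ}
    {b' : Fin k → F} (hp : RootPair σ g i b j b') {l : κ} (hli : l ≠ i) {a : Fin k → F} {μ : F}
    {x : GL (κ → Fin k) F} (hxM : x ∈ M) (hx : x.1 = 1 + op l (μ • dyad σ a a)) (haa : stdHerm σ k a a = 0) :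
    g * x * g⁻¹ ∈ wreathT F κ k := by
  classical
  by_contra hyT
  set y := g * x * g⁻¹ with hy
  have hyM : y ∈ M := mul_mem (mul_mem hg hxM) (inv_mem hg)
  set P := dyad σ b' b' with hP
  have hPb : P *ᵥ b' = 0 := by rw [hP, dyad_mulVec, hp.iso', zero_smul]
  have hP0 : P ≠ 0 := fun e => (dyad_eq_zero hc e).elim hp.ne' hp.ne'
  have hcommC : ∀ {i' j' : κ} {a' d : Fin k → F}, RootPair σ g i' a' j' d → l ≠ i' → ∀ {C : Matrix (Fin k) (Fin k) F},
      adj σ C * C = 1 → det C = 1 → C *ᵥ d = d → op j' C * y.1 = y.1 * op j' C := by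
    intro i' j' a' d hp' hli' C hC hCd hCb
    obtain ⟨A, hA⟩ := conj_stab_back hc h3 hM hg hnF hp' hC hCd hCb
    rw [hy, coe_conj, ← hA, ← Ad_map_mul, ← Ad_map_mul, hx, Matrix.mul_add, Matrix.add_mul, Matrix.mul_one,
      Matrix.one_mul, op_comm (Ne.symm hli')]
  obtain ⟨μ₀, hμ₀0, hμ₀⟩ := hc.exists_trace_zero
  have hblk : ∀ {i' : κ} {a' d : Fin k → F}, RootPair σ g i' a' j d → l ≠ i' → ∀ u u',
      ∃ s t : F, blk j u u' y.1 = s • 1 + t • dyad σ d d := by
    intro i' a' d hp' hli' u u'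
    have hst : ∀ {C : Matrix (Fin k) (Fin k) F}, adj σ C * C = 1 → det C = 1 → C *ᵥ d = d →
        C * blk j u u' y.1 = blk j u u' y.1 * C := fun {C} hC hCd hCb => by
      rw [← blk_op_mul, ← blk_mul_op, hcommC hp' hli' hC hCd hCb]
    refine commutant_stab hc h3 hp'.ne' hp'.iso' ?_ fun a'' η ha hη => ?_
    · obtain ⟨h1, h2, -⟩ := root_props hc hp'.iso' hμ₀
      have h4 := hst h1 h2 (by rw [Matrix.add_mulVec, Matrix.one_mulVec, Matrix.smul_mulVec, dyad_mulVec, hp'.iso',
        zero_smul, smul_zero, add_zero])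
      rw [Matrix.add_mul, Matrix.mul_add, Matrix.one_mul, Matrix.mul_one, add_right_inj, Matrix.smul_mul,
        Matrix.mul_smul] at h4
      exact (smul_right_injective _ hμ₀0 h4).symm
    · obtain ⟨-, -, -, -, h1, h2⟩ := eich_props hc hp'.iso' ha hη
      have h4 := hst h1 h2 (by
        rw [Matrix.add_mulVec, Matrix.one_mulVec, eich_mulVec, hp'.iso', herm_zero_swap hc ha]; simp)
      rw [Matrix.add_mul, Matrix.mul_add, Matrix.one_mul, Matrix.mul_one, add_right_inj] at h4
      exact h4.symm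
  choose B₀ B₁ hB using hblk hp hli
  -- the coefficients on the transvection are proportional to those on the identity
  obtain ⟨c, hcB⟩ : ∃ c : F, ∀ u u', B₁ u u' = c * B₀ u u' := by
    by_cases h4 : 4 ≤ k
    · obtain ⟨d, hbd, hdd, hd⟩ := (stdHerm_isHermitian hc k).exists_iso_perp_notMem b' (by rwa [finrank_fin_fun])
      have hd0 : d ≠ 0 := fun e => hd (by rw [e]; exact Submodule.zero_mem _)
      obtain ⟨h1, h2, hX2⟩ := root_props hc hdd hμ₀
      obtain ⟨rd, hrd, -, hrde⟩ := hM.exists_root hc j hdd hμ₀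
      obtain ⟨A, hA⟩ := conj_stab_back hc h3 hM hg hnF hp h1 h2 (by
        rw [Matrix.add_mulVec, Matrix.one_mulVec, Matrix.smul_mulVec, dyad_mulVec, herm_zero_swap hc hbd, zero_smul,
          smul_zero, add_zero])
      have hval : (g⁻¹ * rd * g⁻¹⁻¹).1 = op i A := by
        rw [coe_conj, hrde, show (1 : TMat F κ k) + op j (μ₀ • dyad σ d d) = op j (1 + μ₀ • dyad σ d d) by
          rw [op_add, map_one], ← hA, Ad_inv_self]
      rcases root_or_swap hc hM h3 (inv_mem hg) hrd hd0 hdd hμ₀0 hrde (op_mem_wreathT i hval) with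
        ⟨i', a', hp'⟩ | hs
      · have hii : i' = i := by
          by_contra hne
          obtain ⟨c', hc', e⟩ := hp'.ex
          have e2 : op i' ((μ₀ * c') • dyad σ a' a') = (op i (A - 1) : TMat F κ k) := by
            rw [op_smul, mul_smul, ← e, ← map_smul, ← op_smul, op_sub, map_one, ← hval, coe_conj, hrde, map_add,
              Ad_map_one, add_sub_cancel_left]
          obtain ⟨s, hs⟩ := eq_of_op_eq_op hne e2
          rw [← dyad_smul_left] at hs
          refine vecMulVec_ne_scalar (by omega) (smul_ne_zero (mul_ne_zero hμ₀0 hc') hp'.ne') ?_ s hs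
          exact fun h0 => hp'.ne' (funext fun o => by simpa [hc.invol] using congrArg σ (congrFun h0 o))
        subst hii
        refine ⟨0, fun u u' => ?_⟩
        obtain ⟨s, t, hst⟩ := hblk hp'.symm (by simpa using hli) u u'
        rw [inv_inv] at *
        have h5 := congrArg (· *ᵥ b') ((hB u u').symm.trans hst)
        simp only [Matrix.add_mulVec, Matrix.smul_mulVec, Matrix.one_mulVec, hPb, smul_zero, add_zero, dyad_mulVec,
          herm_zero_swap hc hbd, hp.iso', zero_smul, smul_zero, add_zero] at h5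
        have hst' : B₀ u u' = s := smul_left_injective F hp.ne' h5
        obtain ⟨f, -, hbf, -⟩ := exists_partnerVec hc hp.ne' hp.iso'
        have h6 := congrArg (· *ᵥ f) ((hB u u').symm.trans hst)
        simp only [Matrix.add_mulVec, Matrix.smul_mulVec, Matrix.one_mulVec, hP, dyad_mulVec, hbf, one_smul, hst',
          add_right_inj, smul_smul] at h6
        rw [zero_mul]
        by_contra hne
        exact hd (by
          have : t * stdHerm σ k d f ≠ 0 := fun e => by
            rw [e, zero_smul] at h6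
            exact hne ((smul_eq_zero.1 h6).resolve_right hp.ne')
          exact Submodule.mem_span_singleton.2 ⟨(t * stdHerm σ k d f)⁻¹ * B₁ u u', by
            rw [mul_smul, h6, smul_smul, inv_mul_cancel₀ this, one_smul]⟩)
      · obtain ⟨hk, -⟩ := hs
        omega
    · have hbig : BigFixed σ := hex.resolve_right h4
      obtain ⟨lam, hl0, hl1⟩ := exists_norm_ne_one hc hbig
      obtain ⟨A, hA, hAd, hAb⟩ := exists_move hc h3 hp.ne' (smul_ne_zero hl0 hp.ne')
        (show stdHerm σ k b' b' = stdHerm σ k (lam • b') (lam • b') by simp [map_smulₛₗ, hp.iso'])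
      have hA' : A * adj σ A = 1 := mul_eq_one_comm.1 hA
      have hAP : A * P * adj σ A = (lam * σ lam) • P := by
        rw [hP, mul_dyad, dyad_mul_matrix hc, adj_adj hc, hAb, dyad_smul_left, dyad_smul_right, smul_smul]
      obtain ⟨tt, htt, -, htte⟩ := hM.exists_op_det j hA hAd
      have htti : tt⁻¹.1 = op j (adj σ A) := by rw [inv_eq_adj (hM.le_su htt), htte, adj_op]
      set z := y⁻¹ * (tt * y * tt⁻¹) with hz
      have hblk' : ∀ u u', blk j u u' (tt * y * tt⁻¹).1 = B₀ u u' • 1 + (B₁ u u' * (lam * σ lam)) • P := fun u u' => by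
        rw [coe_conj, Ad_apply, htte, htti, blk_mul_op, blk_op_mul, hB, Matrix.mul_add, Matrix.add_mul,
          Matrix.mul_smul, Matrix.smul_mul, Matrix.mul_one, hA', Matrix.mul_smul, Matrix.smul_mul, ← hP, hAP,
          smul_smul]
      have hyz : y.1 * z.1 = (tt * y * tt⁻¹).1 := by rw [← Units.val_mul, hz, mul_inv_cancel_left]
      have hfix : ∀ γ, z.1 * op j (vecMulVec b' γ) = op j (vecMulVec b' γ) := fun γ => by
        have h5 : y.1 * (z.1 * op j (vecMulVec b' γ)) = y.1 * op j (vecMulVec b' γ) := by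
          rw [← Matrix.mul_assoc, hyz]
          refine blk_ext j fun u u' => ?_
          rw [blk_mul_op, blk_mul_op, hblk', hB, Matrix.add_mul, Matrix.add_mul, Matrix.smul_mul, Matrix.smul_mul,
            Matrix.smul_mul]
          simp only [Matrix.mul_vecMulVec, ← hP, hPb, zero_vecMulVec, smul_zero]
        have h6 := congrArg (y⁻¹.1 * ·) h5
        simpa [← Matrix.mul_assoc] using h6
      have hzT : z ∈ wreathT F κ k := by
        by_contra hzT
        exact hnF ⟨z, mul_mem (inv_mem hyM) (mul_mem (mul_mem htt hyM) (inv_mem htt)), hzT, j, b', hp.ne', hp.iso',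
          hfix⟩
      obtain ⟨A', hA'z⟩ := op_of_fix h3 hzT hp.ne' hfix
      have heq : ∀ u u', B₀ u u' • (1 - A') + B₁ u u' • ((lam * σ lam) • P - P * A') = 0 := fun u u' => by
        have h5 : blk j u u' (y.1 * z.1) = blk j u u' (tt * y * tt⁻¹).1 := by rw [hyz]
        rw [hA'z, blk_mul_op, hB, hblk', ← hP, Matrix.add_mul, Matrix.smul_mul, Matrix.smul_mul, Matrix.one_mul] at h5
        linear_combination (norm := module) -h5
      obtain ⟨u₀, u₀', hu⟩ : ∃ u u', B₀ u u' ≠ 0 := by
        by_contra hno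
        push Not at hno
        have h5 : y.1 * op j (dyad σ b' b') = 0 := eq_zero_of_blk j fun u u' => by
          rw [blk_mul_op, hB, hno, zero_smul, zero_add, Matrix.smul_mul, dyad_mul, hp.iso', zero_smul, smul_zero]
        have h6 := congrArg (y⁻¹.1 * ·) h5
        simp only [← Matrix.mul_assoc, ← Units.val_mul, inv_mul_cancel, Units.val_one, Matrix.one_mul,
          Matrix.mul_zero] at h6
        rw [← op_zero j] at h6
        exact hP0 (op_injective j h6)
      refine ⟨B₁ u₀ u₀' / B₀ u₀ u₀', fun v v' => ?_⟩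
      have hR : (lam * σ lam) • P - P * A' ≠ 0 := fun e => by
        have h5 := heq u₀ u₀'
        rw [e, smul_zero, add_zero] at h5
        rw [← sub_eq_zero.1 ((smul_eq_zero.1 h5).resolve_left hu), Matrix.mul_one] at e
        have h6 : (lam * σ lam - 1) • P = 0 := by rw [sub_smul, one_smul, e]
        exact hl1 (sub_eq_zero.1 ((smul_eq_zero.1 h6).resolve_right hP0))
      have h7 : (B₀ u₀ u₀' * B₁ v v' - B₀ v v' * B₁ u₀ u₀') • ((lam * σ lam) • P - P * A') = 0 := by
        linear_combination (norm := module) B₀ u₀ u₀' • heq v v' - B₀ v v' • heq u₀ u₀'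
      rw [div_mul_eq_mul_div, eq_div_iff hu]
      linear_combination (smul_eq_zero.1 h7).resolve_right hR
  -- splitting off the transvection
  set B : TMat F (Rest j) k := Matrix.of B₀ with hBdef
  have hyL : y.1 = op j (1 + c • P) * liftRest j B := blk_ext j fun u u' => by
    rw [blk_op_mul, blk_liftRest, hB, hcB, Matrix.mul_smul, Matrix.mul_one, smul_add, smul_smul, hBdef, Matrix.of_apply,
      mul_comm c, ← hP]
  have hXb : ∀ c' : F, (1 + c' • P) * vecMulVec b' b' = vecMulVec b' b' := fun c' => by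
    rw [Matrix.mul_vecMulVec, Matrix.add_mulVec, Matrix.one_mulVec, Matrix.smul_mulVec, hPb, smul_zero, add_zero]
  have hV0 : vecMulVec b' b' ≠ 0 := fun e => (vecMulVec_eq_zero_iff'.1 e).elim hp.ne' hp.ne'
  obtain ⟨o, hne⟩ : ∃ o : Rest j → Fin k, True := ⟨fun _ => ⟨0, by omega⟩, trivial⟩
  have hcs : c + σ c = 0 := by
    have h5 := (hM.le_su hyM).1
    rw [hyL, adj_mul, adj_op, adj_add, adj_one, adj_smul, hP, adj_dyad hc, ← hP, adj_liftRest, Matrix.mul_assoc,
      ← Matrix.mul_assoc (op j _), ← map_mul, ← Matrix.mul_assoc, liftRest_comm_op, Matrix.mul_assoc,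
      ← map_mul] at h5
    set W := adj σ B * B
    set X := (1 + σ c • P) * (1 + c • P) with hX
    have hW : ∀ u u', W u u' • vecMulVec b' b' = (1 : TMat F (Rest j) k) u u' • vecMulVec b' b' := fun u u' => by
      have h6 := congrArg (fun Y => blk j u u' Y * vecMulVec b' b') h5
      simp only [blk_op_mul, blk_liftRest, blk_one, Matrix.mul_smul, Matrix.smul_mul, Matrix.mul_one, Matrix.one_mul,
        hX, Matrix.mul_assoc, hXb] at h6
      exact h6
    have h6 := congrArg (blk j o o) h5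
    rw [blk_op_mul, blk_liftRest, blk_one, smul_left_injective F hV0 (hW o o), Matrix.one_apply_eq, one_smul, hX,
      Matrix.mul_one] at h6
    have hXe : (1 + σ c • P) * (1 + c • P) = 1 + (c + σ c) • P := by
      rw [Matrix.add_mul, Matrix.one_mul, Matrix.mul_add, Matrix.mul_one, Matrix.smul_mul,
        Matrix.mul_smul, hP, dyad_mul, hp.iso', zero_smul, smul_zero, smul_zero, add_zero]
      module
    have h8 : (c + σ c) • P = 0 := by rwa [hXe, add_eq_left] at h6
    exact (smul_eq_zero.1 h8).resolve_right hP0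
  obtain ⟨r, hr, hrT, hre⟩ := hM.exists_root hc j hp.iso' hcs
  have hre' : r.1 = op j (1 + c • P) := by rw [hre, op_add, map_one]
  have hL : (r⁻¹ * y).1 = liftRest j B := by
    rw [Units.val_mul, hyL, ← hre', ← Matrix.mul_assoc, ← Units.val_mul, inv_mul_cancel, Units.val_one, Matrix.one_mul]
  have hBB : (B - 1) * (B - 1) = 0 := by
    have hq : (y.1 - 1) * (y.1 - 1) = 0 := by
      rw [hy, coe_conj, hx, map_add, Ad_map_one, add_sub_cancel_left, ← Ad_map_mul, ← map_mul, Matrix.smul_mul,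
        Matrix.mul_smul, dyad_mul, haa, zero_smul, smul_zero, smul_zero, op_zero, map_zero]
    set V := (op j (vecMulVec b' b') : TMat F κ k) with hV
    have h1 : ∀ Y : TMat F (Rest j) k, (y.1 - 1) * (V * liftRest j Y) = V * liftRest j ((B - 1) * Y) := fun Y => by
      have e2 : y.1 * (V * liftRest j Y) = V * liftRest j (B * Y) := by
        rw [hyL, Matrix.mul_assoc, ← Matrix.mul_assoc (liftRest j B), hV, liftRest_comm_op, Matrix.mul_assoc,
          ← map_mul, ← Matrix.mul_assoc, ← map_mul, hXb]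
      refine blk_ext j fun u u' => ?_
      rw [Matrix.sub_mul, Matrix.one_mul, map_sub, e2, hV, blk_op_mul, blk_op_mul, blk_op_mul, blk_liftRest,
        blk_liftRest, blk_liftRest, ← Matrix.mul_sub, ← sub_smul, Matrix.sub_mul, Matrix.one_mul, Matrix.sub_apply]
    have h2 := h1 1
    rw [map_one, Matrix.mul_one, Matrix.mul_one] at h2
    have h4 : V * liftRest j ((B - 1) * (B - 1)) = 0 := by
      rw [← h1, ← h2, ← Matrix.mul_assoc, hq, Matrix.zero_mul]
    ext u u'
    have h5 := congrArg (blk j u u') h4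
    rw [hV, blk_op_mul, blk_liftRest, map_zero, Matrix.mul_smul, Matrix.mul_one] at h5
    exact (smul_eq_zero.1 h5).resolve_right hV0
  have hdet : det B = 1 := by
    have h4 := det_one_add_nilpotent (C := B - 1) ⟨2, by rw [pow_two, hBB]⟩
    rwa [add_sub_cancel] at h4
  refine hnC ⟨j, GeneralLinearGroup.mkOfDetNeZero B (by rw [hdet]; exact one_ne_zero), hdet, ?_⟩
  rw [show Units.map (liftRest j) (GeneralLinearGroup.mkOfDetNeZero B (by rw [hdet]; exact one_ne_zero)) = r⁻¹ * y from
    Units.ext hL.symm]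
  exact ⟨mul_mem (inv_mem hr) hyM, fun h => hyT (by simpa using mul_mem hrT h)⟩

/-- Some transvection at each isotropic vector of another factor becomes a transvection. -/
theorem exists_rootPair (hc : IsConjugation σ) (h3 : 3 ≤ k) (hex : BigFixed σ ∨ 4 ≤ k) (hM : Over σ M)
    {g : GL (κ → Fin k) F} (hg : g ∈ M) (hnF : ¬ FixSlice σ M) (hnC : ¬ CentFac M) {i : κ} {b : Fin k → F} {j : κ}
    {b' : Fin k → F} (hp : RootPair σ g i b j b') {l : κ} (hli : l ≠ i) {a : Fin k → F} (ha : a ≠ 0)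
    (haa : stdHerm σ k a a = 0) : ∃ l' a', RootPair σ g l a l' a' := by
  classical
  obtain ⟨μ, hμ0, hμ⟩ := hc.exists_trace_zero
  obtain ⟨x, hx, -, hxe⟩ := hM.exists_root hc l haa hμ
  have hxT := conj_root_mem hc h3 hex hM hg hnF hnC hp hli hx hxe haa
  rcases root_or_swap hc hM h3 hg hx ha haa hμ0 hxe hxT with h | hs
  · exact h
  have hbig : BigFixed σ := hex.resolve_right (by have := hs.1; omega)
  have h2 : (2 : F) = 0 := hs.2.1
  haveI : CharP F 2 := CharTwo.of_one_ne_zero_of_two_eq_zero one_ne_zero h2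
  obtain ⟨t, ht, ht0, ht1⟩ := hbig
  obtain ⟨x', hx', -, hxe'⟩ := hM.exists_root hc l haa (μ := t * μ) (by rw [map_mul, ht]; linear_combination t * hμ)
  have hsum : μ + t * μ ≠ 0 := fun e => ht1 (by
    have h1 : (1 + t) * μ = 0 := by linear_combination e
    linear_combination (mul_eq_zero.1 h1).resolve_right hμ0 - h2)
  have hprod : (x * x').1 = 1 + op l ((μ + t * μ) • dyad σ a a) := by
    rw [Units.val_mul, hxe, hxe', Matrix.add_mul, Matrix.one_mul, Matrix.mul_add, Matrix.mul_one, ← map_mul,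
      Matrix.smul_mul, Matrix.mul_smul, dyad_mul, haa, zero_smul, smul_zero, smul_zero, op_zero, add_zero, add_smul,
      op_add]
    abel
  have hxT' := conj_root_mem hc h3 hex hM hg hnF hnC hp hli hx' hxe' haa
  have hxT'' := conj_root_mem hc h3 hex hM hg hnF hnC hp hli (mul_mem hx hx') hprod haa
  rcases root_or_swap hc hM h3 hg hx' ha haa (mul_ne_zero ht0 hμ0) hxe' hxT' with h | hs'
  · exact h
  rcases root_or_swap hc hM h3 hg (mul_mem hx hx') ha haa hsum hprod hxT'' with h | hs''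
  · exact h
  exfalso
  obtain ⟨σ₁, C₁, h₁⟩ := hxT
  obtain ⟨σ₂, C₂, h₂⟩ := hxT'
  have h₃ : g * (x * x') * g⁻¹ = tensU (fun o => C₁ o * C₂ (σ₁⁻¹ o)) * permU (σ₁ * σ₂) := by
    rw [show g * (x * x') * g⁻¹ = (g * x * g⁻¹) * (g * x' * g⁻¹) by group, h₁, h₂, map_mul, ← tensU_mul,
      mul_assoc (tensU C₁), ← mul_assoc (permU σ₁), permU_mul_tensU]
    simp only [mul_assoc]
  have := hs''.sign h₃
  rw [map_mul, hs.sign h₁, hs'.sign h₂] at this
  exact absurd this (by decide)

/-- Conjugation by `g` maps the factor `l` into the factor `l'`. -/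
theorem mapsFac_of_rootPairs (hc : IsConjugation σ) (h3 : 3 ≤ k) {g : GL (κ → Fin k) F} {l : κ}
    (h : ∀ a, a ≠ 0 → stdHerm σ k a a = 0 → ∃ l' a', RootPair σ g l a l' a') :
    ∃ l', ∀ A, ∃ A', Ad g (op l A) = op l' A' := by
  classical
  obtain ⟨a₀, ha₀, haa₀⟩ := exists_isoVec (σ := σ) hc (show 2 ≤ k by omega)
  obtain ⟨l', a₀', hp₀⟩ := h a₀ ha₀ haa₀
  have hnear : ∀ a₁ a₂ l₁ l₂ a₁' a₂', RootPair σ g l a₁ l₁ a₁' → RootPair σ g l a₂ l₂ a₂' →
      stdHerm σ k a₁ a₂ ≠ 0 → l₁ = l₂ := by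
    intro a₁ a₂ l₁ l₂ a₁' a₂' h₁ h₂ hne
    by_contra hll
    obtain ⟨c₁, hc₁, e₁⟩ := h₁.ex
    obtain ⟨c₂, hc₂, e₂⟩ := h₂.ex
    have h4 : Ad g (op l (dyad σ a₁ a₁ * dyad σ a₂ a₂)) = Ad g (op l (dyad σ a₂ a₂ * dyad σ a₁ a₁)) := by
      rw [map_mul (op l), map_mul (op l), Ad_map_mul, Ad_map_mul, e₁, e₂, Matrix.smul_mul, Matrix.mul_smul, Matrix.smul_mul,
        Matrix.mul_smul, op_comm hll, smul_comm]
    have h5 := congrArg (· *ᵥ a₁) (op_injective l (Ad_injective g h4))
    rw [dyad_mul, dyad_mul] at h5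
    simp only [Matrix.smul_mulVec, dyad_mulVec, h₁.iso, zero_smul, smul_zero] at h5
    have hne' : stdHerm σ k a₂ a₁ ≠ 0 := fun e => hne (herm_zero_swap hc e)
    rw [smul_smul, smul_eq_zero, mul_eq_zero] at h5
    exact h5.elim (fun h6 => h6.elim hne hne') h₁.ne
  have hall : ∀ a, a ≠ 0 → stdHerm σ k a a = 0 → ∃ a', RootPair σ g l a l' a' := by
    intro a ha haa
    obtain ⟨l₁, a', hp₁⟩ := h a ha haa
    suffices l₁ = l' by subst this; exact ⟨a', hp₁⟩
    obtain ⟨v, hvv, hv0, hva⟩ : ∃ v, stdHerm σ k v v = 0 ∧ stdHerm σ k a₀ v ≠ 0 ∧ stdHerm σ k a v ≠ 0 := by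
      by_contra hno
      push Not at hno
      have := eq_zero_of_iso hc ha₀ haa₀ (A := dyad σ a a) fun v hvv hv => by
        rw [dyad_mulVec, hno v hvv hv, zero_smul]
      exact (dyad_eq_zero hc this).elim ha ha
    obtain ⟨l₂, v', hp₂⟩ := h v (fun e => hv0 (by rw [e]; simp)) hvv
    rw [hnear _ _ _ _ _ _ hp₁ hp₂ hva, hnear _ _ _ _ _ _ hp₀ hp₂ hv0]
  refine ⟨l', ?_⟩
  let W : Submodule F (Matrix (Fin k) (Fin k) F) :=
    { carrier := {A | ∃ A', Ad g (op l A) = op l' A'}
      add_mem' := by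
        rintro A B ⟨A', hA⟩ ⟨B', hB⟩
        exact ⟨A' + B', by rw [op_add, map_add, hA, hB, op_add]⟩
      zero_mem' := ⟨0, by rw [op_zero, map_zero, op_zero]⟩
      smul_mem' := by
        rintro c A ⟨A', hA⟩
        exact ⟨c • A', by rw [op_smul, map_smul, hA, op_smul]⟩ }
  have hW : W = ⊤ := by
    by_contra hW
    obtain ⟨A, hA⟩ : ∃ A, A ∉ W := by
      by_contra hno
      push Not at hno
      exact hW (Submodule.eq_top_iff'.2 hno)
    obtain ⟨φ, hφA, hφ⟩ := Submodule.exists_dual_map_eq_bot_of_notMem hA inferInstance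
    have hφ0 : ∀ X ∈ W, φ X = 0 := fun X hX => by
      have := Submodule.mem_map_of_mem (f := φ) hX
      rwa [hφ, Submodule.mem_bot] at this
    set B : Matrix (Fin k) (Fin k) F := Matrix.of fun a c => φ (Matrix.single c a 1) with hB
    have htr : ∀ X, φ X = (B * X).trace := fun X => by
      conv_lhs => rw [Matrix.matrix_eq_sum_single X]
      rw [map_sum, Matrix.trace]
      simp only [Matrix.diag_apply, Matrix.mul_apply]
      rw [Finset.sum_comm]
      refine Finset.sum_congr rfl fun a _ => ?_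
      rw [map_sum]
      refine Finset.sum_congr rfl fun c _ => ?_
      rw [show Matrix.single a c (X a c) = X a c • Matrix.single a c (1 : F) by
        rw [Matrix.smul_single, smul_eq_mul, mul_one], map_smul, hB, Matrix.of_apply, smul_eq_mul, mul_comm]
    have hPW : ∀ a, stdHerm σ k a a = 0 → dyad σ a a ∈ W := fun a haa => by
      rcases eq_or_ne a 0 with rfl | ha
      · exact ⟨0, by rw [show dyad σ (0 : Fin k → F) 0 = 0 by ext; simp [dyad, vecMulVec_apply], op_zero, map_zero,
          op_zero]⟩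
      · obtain ⟨a', hp⟩ := hall a ha haa
        obtain ⟨c, -, e⟩ := hp.ex
        exact ⟨c • dyad σ a' a', by rw [e, op_smul]⟩
    obtain ⟨s, hs⟩ := scalar_of_iso_form hc h3 (A := B) fun a haa => by
      rw [← trace_dyad, ← mul_dyad, ← htr]; exact hφ0 _ (hPW a haa)
    obtain ⟨f, hff, hbf, hfb⟩ := exists_partnerVec hc ha₀ haa₀
    have h5 : φ (dyad σ a₀ a₀ * dyad σ f f) = 0 := by
      obtain ⟨X, hX⟩ := hPW a₀ haa₀
      obtain ⟨Y, hY⟩ := hPW f hff
      exact hφ0 _ ⟨X * Y, by rw [map_mul, Ad_map_mul, hX, hY, map_mul]⟩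
    rw [dyad_mul, hbf, one_smul, htr, hs, Matrix.smul_mul, Matrix.one_mul, Matrix.trace_smul, trace_dyad, hfb,
      smul_eq_mul, mul_one] at h5
    exact hφA (by rw [htr, hs, h5, zero_smul, Matrix.zero_mul, Matrix.trace_zero])
  intro A
  exact (show A ∈ W from hW ▸ Submodule.mem_top)

/-- An element mapping every factor to a factor is in the stabiliser. -/
theorem mem_wreathT_of_mapsFac (h2 : 2 ≤ k) [Nonempty κ] {g : GL (κ → Fin k) F}
    (h : ∀ l, ∃ l', ∀ A, ∃ A', Ad g (op l A) = op l' A') : g ∈ wreathT F κ k := by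
  classical
  choose σ₀ hσ₀ using h
  choose φ hφ using hσ₀
  have hφinj : ∀ l, Function.Injective (φ l) := fun l A A' h' =>
    op_injective l (Ad_injective g (by rw [hφ, hφ, h']))
  have hσinj : Function.Injective σ₀ := fun l l' h' => by
    by_contra hne
    obtain ⟨A', hA'⟩ := (Finite.injective_iff_surjective.1 (hφinj l'))
      (φ l (Matrix.single ⟨0, by omega⟩ ⟨0, by omega⟩ 1))
    have h4 := Ad_injective g (show Ad g (op l (Matrix.single ⟨0, by omega⟩ ⟨0, by omega⟩ 1)) = Ad g (op l' A') by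
      rw [hφ, hφ, hA', h'])
    obtain ⟨c, hc⟩ := eq_of_op_eq_op hne h4
    exact CfsgLib.Classical.WreathMax.single_ne_smul_one h2 _ _ c hc
  let π : Equiv.Perm κ := Equiv.ofBijective σ₀ (Finite.injective_iff_bijective.1 hσinj)
  have hT : ∀ l, ∃ T : GL (Fin k) F, ∀ A, φ l A * T.1 = T.1 * A := fun l => by
    refine exists_inner (by omega) (fun A B => op_injective (σ₀ l) ?_) (fun A B => op_injective (σ₀ l) ?_)
      (fun c A => op_injective (σ₀ l) ?_) (fun A hA => hφinj l ?_)
    · rw [map_mul, ← hφ, ← hφ, ← hφ, map_mul, Ad_map_mul]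
    · rw [op_add, ← hφ, ← hφ, ← hφ, op_add, map_add]
    · rw [op_smul, ← hφ, ← hφ, op_smul, map_smul]
    · rw [hA]
      refine op_injective (σ₀ l) ?_
      rw [← hφ, op_zero, op_zero, map_zero]
  choose T hT using hT
  set u := tensU (fun a => T (π.symm a)) * permU π with hu
  have hcomm : ∀ l A, Ad (u⁻¹ * g) (op l A) = op l A := fun l A => by
    have h5 : Ad u (op l A) = op (σ₀ l) (φ l A) := by
      rw [Ad_apply, hu, wreathT_mul_op, show π l = σ₀ l from rfl, show π.symm (σ₀ l) = l from π.symm_apply_apply l,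
        ← hT, Matrix.mul_assoc (φ l A), ← Units.val_mul (T l), mul_inv_cancel, Units.val_one, Matrix.mul_one,
        Matrix.mul_assoc, ← Units.val_mul, mul_inv_cancel, Units.val_one, Matrix.mul_one]
    rw [Ad_mul, hφ, ← h5, Ad_inv_self]
  obtain ⟨c, hc⟩ := eq_smul_one_of_split fun l => split_of_commute (by omega : 0 < k) l (Z := (u⁻¹ * g).1) fun A => by
    conv_lhs => rw [← hcomm l A]
    rw [Ad_apply, Matrix.mul_assoc, ← Units.val_mul, inv_mul_cancel, Units.val_one, Matrix.mul_one]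
  rw [show g = u * (u⁻¹ * g) by rw [mul_inv_cancel_left]]
  refine mul_mem ⟨π, _, hu⟩ (op_mem_wreathT (Classical.arbitrary κ) (A := c • 1) ?_)
  rw [hc, op_smul, map_one]

/-- Fusion of transvections gives a slice-fixing element or one centralising a factor. -/
theorem fusion (hc : IsConjugation σ) (h3 : 3 ≤ k) (hex : BigFixed σ ∨ 4 ≤ k) (hM : Over σ M) (hNF : ¬ NoFuse σ M) :
    FixSlice σ M ∨ CentFac M := by
  classical
  unfold NoFuse at hNF
  push Not at hNF
  obtain ⟨g₀, hg₀, hg₀T, i, b, μ, hb, hbb, hμ0, hμ, r, hr, hrT⟩ := hNF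
  have hrM : r ∈ M := by
    obtain ⟨r', hr', -, e⟩ := hM.exists_root hc i hbb hμ
    rwa [show r = r' from Units.ext (hr.trans e.symm)]
  by_contra hcon
  push Not at hcon
  obtain ⟨hnF, hnC⟩ := hcon
  obtain ⟨g, hg, hgT, j, b', hp⟩ : ∃ g ∈ M, g ∉ wreathT F κ k ∧ ∃ j b', RootPair σ g i b j b' := by
    have hT' : g₀⁻¹ * r * g₀⁻¹⁻¹ ∈ wreathT F κ k := by rw [inv_inv]; exact hrT
    rcases root_or_swap hc hM h3 (inv_mem hg₀) hrM hb hbb hμ0 hr hT' with ⟨j, b', hp⟩ | hs
    · exact ⟨g₀⁻¹, inv_mem hg₀, fun h => hg₀T (by simpa using inv_mem h), j, b', hp⟩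
    · have hbig : BigFixed σ := hex.resolve_right (by have := hs.1; omega)
      obtain ⟨w, hw, hwT, hwr⟩ := exists_centraliser_of_swap hc hbig hM i hb hbb hμ0 hr hrM (inv_mem hg₀) hs
      refine ⟨w, hw, hwT, i, b, hb, hbb, hb, hbb, 1, one_ne_zero, ?_⟩
      have h5 : Ad w r.1 = r.1 := by
        rw [← coe_conj]
        congr 1
        rw [hwr, mul_inv_cancel_right]
      rw [hr, map_add, Ad_map_one, add_right_inj, op_smul, map_smul] at h5
      rw [one_smul]
      exact smul_right_injective _ hμ0 h5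
  have : Nonempty κ := ⟨i⟩
  by_cases hone : ∃ l, l ≠ i
  · obtain ⟨l₀, hl₀⟩ := hone
    refine hgT (mem_wreathT_of_mapsFac (by omega) fun l => mapsFac_of_rootPairs hc h3 fun a ha haa => ?_)
    by_cases hli : l = i
    · subst hli
      obtain ⟨j₀, b₀', hp₀⟩ := exists_rootPair hc h3 hex hM hg hnF hnC hp hl₀ hb hbb
      exact exists_rootPair hc h3 hex hM hg hnF hnC hp₀ (Ne.symm hl₀) ha haa
    · exact exists_rootPair hc h3 hex hM hg hnF hnC hp hli ha haa
  · push Not at hone
    obtain ⟨A, hA⟩ := op_of_commute_rest (by omega : 0 < k) i (Z := g.1) fun B => by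
      have hU : ∀ u v : Rest i → Fin k, u = v := fun u v => funext fun o => absurd (hone o.1) o.2
      obtain ⟨u₀⟩ : Nonempty (Rest i → Fin k) := ⟨fun o => absurd (hone o.1) o.2⟩
      have hB : B = B u₀ u₀ • 1 := by ext u v; rw [hU u u₀, hU v u₀]; simp
      have hL : liftRest i B = B u₀ u₀ • 1 := by
        refine blk_ext i fun u v => ?_
        rw [blk_liftRest, map_smul, blk_one, hU u u₀, hU v u₀, Matrix.one_apply_eq, one_smul]
      rw [hL, Matrix.smul_mul, Matrix.mul_smul, Matrix.one_mul, Matrix.mul_one]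
    exact hgT (op_mem_wreathT i hA)

end CfsgLib.Classical.WreathMaxU
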