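import Cfsg.Agent.Lib.Classical.WreathMaxU.Adj
import Cfsg.Agent.Lib.Classical.WreathMax.Split

/-!
# Isotropic vectors of the standard Hermitian space and the elements fixing one of them
-/

set_option autoImplicit false
set_option linter.unusedSectionVars false

open Matrix Module

namespace CfsgLib.Classical.WreathMaxU

open CfsgLib.Classical.WreathMax (det_one_add_nilpotent)

variable {F : Type*} [Field F] [Finite F] {σ : F →+* F} {k : ℕ}

theorem conj_ne_zero (hc : IsConjugation σ) {x : F} (hx : x ≠ 0) : σ x ≠ 0 := fun e => hx (by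
  rw [← hc.invol x, e, map_zero])

theorem herm_swap (hc : IsConjugation σ) (x y : Fin k → F) : σ (stdHerm σ k x y) = stdHerm σ k y x :=
  (stdHerm_isHermitian hc k).symm x y

theorem herm_zero_swap (hc : IsConjugation σ) {x y : Fin k → F} (h : stdHerm σ k x y = 0) :
    stdHerm σ k y x = 0 := by rw [← herm_swap hc, h, map_zero]

theorem herm_self_fixed (hc : IsConjugation σ) (x : Fin k → F) : σ (stdHerm σ k x x) = stdHerm σ k x x :=
  herm_swap hc x x

theorem exists_isoVec (hc : IsConjugation σ) (h2 : 2 ≤ k) : ∃ b : Fin k → F, b ≠ 0 ∧ stdHerm σ k b b = 0 :=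
  (stdHerm_isHermitian hc k).exists_iso (stdHerm_sepRight k) (by rw [finrank_fin_fun]; omega)

theorem exists_partnerVec (hc : IsConjugation σ) {b : Fin k → F} (hb : b ≠ 0) (hbb : stdHerm σ k b b = 0) :
    ∃ f, stdHerm σ k f f = 0 ∧ stdHerm σ k b f = 1 ∧ stdHerm σ k f b = 1 :=
  (stdHerm_isHermitian hc k).exists_pair (stdHerm_sepRight k) hb hbb

theorem exists_perpVec (hc : IsConjugation σ) (h3 : 3 ≤ k) {b f : Fin k → F} (hbb : stdHerm σ k b b = 0)
    (hbf : stdHerm σ k b f = 1) {t : F} (ht : σ t = t) :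
    ∃ z, stdHerm σ k b z = 0 ∧ stdHerm σ k f z = 0 ∧ stdHerm σ k z z = t :=
  (stdHerm_isHermitian hc k).exists_perp_pair (stdHerm_sepRight k) (by rw [finrank_fin_fun]; omega) hbb hbf ht

/-- Coordinates at a hyperbolic pair. -/
theorem pair_decomp {b f : Fin k → F} (hbb : stdHerm σ k b b = 0) (hff : stdHerm σ k f f = 0)
    (hbf : stdHerm σ k b f = 1) (hfb : stdHerm σ k f b = 1) (x : Fin k → F) :
    ∃ z, stdHerm σ k b z = 0 ∧ stdHerm σ k f z = 0 ∧
      x = stdHerm σ k f x • b + stdHerm σ k b x • f + z :=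
  ⟨x - stdHerm σ k f x • b - stdHerm σ k b x • f, by simp [hbb, hbf], by simp [hff, hfb], by abel⟩

/-- The lift of a vector orthogonal to a hyperbolic pair to an isotropic vector. -/
theorem lift_iso (hc : IsConjugation σ) {b f z : Fin k → F} (hbb : stdHerm σ k b b = 0) (hff : stdHerm σ k f f = 0)
    (hbf : stdHerm σ k b f = 1) (hfb : stdHerm σ k f b = 1) (hbz : stdHerm σ k b z = 0)
    (hfz : stdHerm σ k f z = 0) {η : F} (hη : η + σ η + stdHerm σ k z z = 0) :
    stdHerm σ k (f + η • b + z) (f + η • b + z) = 0 ∧ stdHerm σ k b (f + η • b + z) = 1 := by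
  refine ⟨?_, by simp [hbb, hbf, hbz]⟩
  simp [map_smulₛₗ, hbb, hff, hbf, hfb, hbz, hfz, herm_zero_swap hc hbz, herm_zero_swap hc hfz]
  linear_combination hη

theorem exists_lift_coeff (hc : IsConjugation σ) (z : Fin k → F) : ∃ η : F, η + σ η + stdHerm σ k z z = 0 := by
  obtain ⟨η, hη⟩ := hc.exists_trace_eq (a := -stdHerm σ k z z) (by rw [map_neg, herm_self_fixed hc])
  exact ⟨η, by linear_combination hη⟩

/-- A matrix killing the isotropic vectors not orthogonal to a given one is zero. -/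
theorem eq_zero_of_iso (hc : IsConjugation σ) {b : Fin k → F} (hb : b ≠ 0) (hbb : stdHerm σ k b b = 0)
    {A : Matrix (Fin k) (Fin k) F}
    (h : ∀ v, stdHerm σ k v v = 0 → stdHerm σ k b v ≠ 0 → A *ᵥ v = 0) : A = 0 := by
  obtain ⟨f, hff, hbf, hfb⟩ := exists_partnerVec hc hb hbb
  have hAf : A *ᵥ f = 0 := h f hff (by rw [hbf]; exact one_ne_zero)
  have hAb : A *ᵥ b = 0 := by
    obtain ⟨μ, hμ0, hμ⟩ := hc.exists_trace_zero
    obtain ⟨h1, h2⟩ := lift_iso hc (z := 0) hbb hff hbf hfb (map_zero _) (map_zero _) (η := μ) (by simpa using hμ)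
    have h3 := h _ h1 (by rw [h2]; exact one_ne_zero)
    rw [add_zero, Matrix.mulVec_add, Matrix.mulVec_smul, hAf, zero_add] at h3
    exact (smul_eq_zero.1 h3).resolve_left hμ0
  refine mulVec_ext fun x => ?_
  obtain ⟨z, hbz, hfz, hx⟩ := pair_decomp hbb hff hbf hfb x
  obtain ⟨η, hη⟩ := exists_lift_coeff hc z
  obtain ⟨h1, h2⟩ := lift_iso hc hbb hff hbf hfb hbz hfz hη
  have h3 := h _ h1 (by rw [h2]; exact one_ne_zero)
  rw [Matrix.mulVec_add, Matrix.mulVec_add, Matrix.mulVec_smul, hAf, hAb, smul_zero, add_zero, zero_add] at h3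
  rw [hx, Matrix.mulVec_add, Matrix.mulVec_add, Matrix.mulVec_smul, Matrix.mulVec_smul, hAf, hAb, h3,
    Matrix.zero_mulVec]
  simp

/-- A matrix whose form vanishes on the isotropic vectors is scalar. -/
theorem scalar_of_iso_form (hc : IsConjugation σ) (h3 : 3 ≤ k) {A : Matrix (Fin k) (Fin k) F}
    (hA : ∀ b, stdHerm σ k b b = 0 → stdHerm σ k b (A *ᵥ b) = 0) : ∃ c : F, A = c • 1 := by
  obtain ⟨b, hb, hbb⟩ := exists_isoVec (σ := σ) hc (show 2 ≤ k by omega)
  obtain ⟨f, hff, hbf, hfb⟩ := exists_partnerVec hc hb hbb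
  obtain ⟨μ, hμ0, hμ⟩ := hc.exists_trace_zero
  have hσμ : σ μ = -μ := eq_neg_of_add_eq_zero_right hμ
  obtain ⟨ω, hω⟩ := hc.exists_not_fixed
  set B := fun x y => stdHerm σ k x (A *ᵥ y) with hB
  have hadd : ∀ x y z, B (x + y) z = B x z + B y z := fun x y z => by simp [hB]
  have hadd' : ∀ x y z, B x (y + z) = B x y + B x z := fun x y z => by simp [hB, Matrix.mulVec_add]
  have hsm : ∀ (c : F) x y, B (c • x) y = σ c * B x y := fun c x y => by simp [hB, map_smulₛₗ]
  have hsm' : ∀ (c : F) x y, B x (c • y) = c * B x y := fun c x y => by simp [hB, Matrix.mulVec_smul]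
  have hbb' : B b b = 0 := hA b hbb
  have hff' : B f f = 0 := hA f hff
  have hbf' : B b f = B f b := by
    have h := hA (f + μ • b) (by simp [map_smulₛₗ, hbb, hff, hbf, hfb, hσμ])
    change B _ _ = 0 at h
    rw [hadd, hadd', hadd', hsm, hsm, hsm', hsm', hbb', hff', hσμ] at h
    have : μ * (B f b - B b f) = 0 := by linear_combination h
    exact (sub_eq_zero.1 ((mul_eq_zero.1 this).resolve_left hμ0)).symm
  set c := B b f with hcdef
  -- vectors orthogonal to the pair
  have hperp : ∀ z, stdHerm σ k b z = 0 → stdHerm σ k f z = 0 →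
      B z z = stdHerm σ k z z * c ∧ B b z = 0 ∧ B z b = 0 ∧ B f z = 0 ∧ B z f = 0 := by
    intro z hbz hfz
    have key : ∀ z, stdHerm σ k b z = 0 → stdHerm σ k f z = 0 → ∀ η, η + σ η + stdHerm σ k z z = 0 →
        B f z + B z f + σ η * B b z + η * B z b + B z z - stdHerm σ k z z * c = 0 := by
      intro z hbz hfz η hη
      have h := hA _ (lift_iso hc hbb hff hbf hfb hbz hfz hη).1
      change B _ _ = 0 at h
      simp only [hadd, hadd', hsm, hsm', hbb', hff', ← hbf', ← hcdef] at h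
      linear_combination h - c * hη
    have hpair : ∀ z, stdHerm σ k b z = 0 → stdHerm σ k f z = 0 → B z b = B b z := by
      intro z hbz hfz
      obtain ⟨η, hη⟩ := exists_lift_coeff hc z
      have h1 := key z hbz hfz η hη
      have h2 := key z hbz hfz (η + μ) (by rw [map_add, hσμ]; linear_combination hη)
      rw [map_add, hσμ] at h2
      have : μ * (B z b - B b z) = 0 := by linear_combination h2 - h1
      exact sub_eq_zero.1 ((mul_eq_zero.1 this).resolve_left hμ0)
    have hs := hpair z hbz hfz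
    have hs' := hpair (ω • z) (by simp [hbz]) (by simp [hfz])
    rw [hsm, hsm', hs] at hs'
    have hbz' : B b z = 0 := by
      have : (σ ω - ω) * B b z = 0 := by linear_combination hs'
      exact (mul_eq_zero.1 this).resolve_left (sub_ne_zero.2 hω)
    have hzb' : B z b = 0 := hs.trans hbz'
    -- the rest
    have key2 : ∀ s : F, σ s * B z f + s * B f z + σ s * s * (B z z - stdHerm σ k z z * c) = 0 := by
      intro s
      obtain ⟨η, hη⟩ := exists_lift_coeff hc (s • z)
      have h1 := key (s • z) (by simp [hbz]) (by simp [hfz]) η hη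
      simp only [hsm, hsm', hbz', hzb', map_smulₛₗ, LinearMap.smul_apply, smul_eq_mul, RingHom.id_apply] at h1
      linear_combination h1
    have k1 := key2 1
    rw [map_one] at k1
    set E := B z z - stdHerm σ k z z * c with hE
    have e5 : ∀ s : F, (σ s + s) * E = 0 := fun s => by
      have q := key2 (s + 1)
      rw [map_add, map_one] at q
      linear_combination q - key2 s - k1
    obtain ⟨τ, hτ⟩ := hc.exists_trace_ne_zero
    have hE0 : E = 0 := (mul_eq_zero.1 (e5 τ)).resolve_left (by rwa [add_comm])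
    have kω := key2 ω
    rw [hE0] at k1 kω
    have e6 : (σ ω - ω) * B z f = 0 := by linear_combination kω - ω * k1
    have hzf : B z f = 0 := (mul_eq_zero.1 e6).resolve_left (sub_ne_zero.2 hω)
    exact ⟨sub_eq_zero.1 hE0, hbz', hzb', by linear_combination k1 - hzf, hzf⟩
  refine ⟨c, mulVec_ext fun y => ?_⟩
  refine sub_eq_zero.1 ((stdHerm_sepRight (σ := σ) k) _ fun x => ?_)
  obtain ⟨z, hbz, hfz, hx⟩ := pair_decomp hbb hff hbf hfb x
  obtain ⟨w, hbw, hfw, hy⟩ := pair_decomp hbb hff hbf hfb y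
  obtain ⟨hzz, hbz', hzb', hfz', hzf'⟩ := hperp z hbz hfz
  obtain ⟨hww, hbw', hwb', hfw', hwf'⟩ := hperp w hbw hfw
  obtain ⟨hpp, -, -, -, -⟩ := hperp (z + w) (by simp [hbz, hbw]) (by simp [hfz, hfw])
  obtain ⟨hqq, -, -, -, -⟩ := hperp (z + ω • w) (by simp [hbz, hbw]) (by simp [hfz, hfw])
  simp only [hadd, hadd', hsm, hsm', hzz, hww, map_add, LinearMap.add_apply, map_smulₛₗ, LinearMap.smul_apply,
    smul_eq_mul, RingHom.id_apply] at hpp hqq
  have hzw : B z w = stdHerm σ k z w * c := by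
    have : (σ ω - ω) * (B z w - stdHerm σ k z w * c) = 0 := by linear_combination σ ω * hpp - hqq
    exact sub_eq_zero.1 ((mul_eq_zero.1 this).resolve_left (sub_ne_zero.2 hω))
  have h1 : stdHerm σ k x (A *ᵥ y) = stdHerm σ k x y * c := by
    change B x y = _
    conv_lhs => rw [hx, hy]
    conv_rhs => rw [hx, hy]
    simp only [hadd, hadd', hsm, hsm', hbb', hff', ← hbf', ← hcdef, hbz', hzb', hfz', hzf', hbw', hwb', hfw', hwf', hzw]
    simp [map_smulₛₗ, hbb, hff, hbf, hfb, hbw, hfw, herm_zero_swap hc hbz, herm_zero_swap hc hfz]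
    ring
  rw [map_sub, h1, Matrix.smul_mulVec, Matrix.one_mulVec, map_smul, smul_eq_mul]
  ring

/-- The Eichler element fixing `b`. -/
def eich (σ : F →+* F) (b a : Fin k → F) (η : F) : Matrix (Fin k) (Fin k) F :=
  dyad σ a b - dyad σ b a + η • dyad σ b b

theorem eich_mulVec (b a x : Fin k → F) (η : F) :
    eich σ b a η *ᵥ x = stdHerm σ k b x • a + (η * stdHerm σ k b x - stdHerm σ k a x) • b := by
  simp only [eich, Matrix.add_mulVec, Matrix.sub_mulVec, Matrix.smul_mulVec, dyad_mulVec, smul_smul, sub_smul]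
  abel

theorem eich_props (hc : IsConjugation σ) {b a : Fin k → F} {η : F} (hbb : stdHerm σ k b b = 0)
    (hba : stdHerm σ k b a = 0) (hη : η + σ η + stdHerm σ k a a = 0) :
    eich σ b a η * dyad σ b b = 0 ∧ dyad σ b b * eich σ b a η = 0 ∧
    eich σ b a η * eich σ b a η = (-stdHerm σ k a a) • dyad σ b b ∧
    eich σ b a η * (eich σ b a η * eich σ b a η) = 0 ∧
    adj σ (1 + eich σ b a η) * (1 + eich σ b a η) = 1 ∧ det (1 + eich σ b a η) = 1 := by
  have hab := herm_zero_swap hc hba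
  have h1 : eich σ b a η * dyad σ b b = 0 := by
    rw [eich, Matrix.add_mul, Matrix.sub_mul, Matrix.smul_mul, dyad_mul, dyad_mul, dyad_mul, hbb, hab]
    simp
  have h2 : dyad σ b b * eich σ b a η = 0 := by
    rw [eich, Matrix.mul_add, Matrix.mul_sub, Matrix.mul_smul, dyad_mul, dyad_mul, dyad_mul, hbb, hba]
    simp
  have h3 : eich σ b a η * eich σ b a η = (-stdHerm σ k a a) • dyad σ b b := by
    simp only [eich, Matrix.add_mul, Matrix.sub_mul, Matrix.mul_add, Matrix.mul_sub, Matrix.smul_mul,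
      Matrix.mul_smul, dyad_mul, hbb, hba, hab, zero_smul, smul_zero, neg_smul]
    module
  have h4 : eich σ b a η * (eich σ b a η * eich σ b a η) = 0 := by rw [h3, Matrix.mul_smul, h1, smul_zero]
  refine ⟨h1, h2, h3, h4, ?_, det_one_add_nilpotent ⟨3, by rw [pow_succ, pow_two, Matrix.mul_assoc, h4]⟩⟩
  rw [adj_add, adj_one]
  have e : adj σ (eich σ b a η) = dyad σ b a - dyad σ a b + σ η • dyad σ b b := by
    rw [eich, adj_add, adj_sub, adj_smul, adj_dyad hc, adj_dyad hc, adj_dyad hc]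
  rw [e, Matrix.add_mul, Matrix.one_mul, Matrix.mul_add, Matrix.mul_one, eich]
  simp only [Matrix.add_mul, Matrix.sub_mul, Matrix.mul_add, Matrix.mul_sub, Matrix.smul_mul, Matrix.mul_smul,
    dyad_mul, hbb, hba, hab, zero_smul, smul_zero]
  rw [show σ η = -η - stdHerm σ k a a by linear_combination hη]
  module

/-- What commutes with the elements fixing an isotropic vector. -/
theorem commutant_stab (hc : IsConjugation σ) (h3 : 3 ≤ k) {b : Fin k → F} (hb : b ≠ 0)
    (hbb : stdHerm σ k b b = 0) {Z : Matrix (Fin k) (Fin k) F}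
    (hP : Z * dyad σ b b = dyad σ b b * Z)
    (hE : ∀ a η, stdHerm σ k b a = 0 → η + σ η + stdHerm σ k a a = 0 → Z * eich σ b a η = eich σ b a η * Z) :
    ∃ s t : F, Z = s • 1 + t • dyad σ b b := by
  obtain ⟨f, hff, hbf, hfb⟩ := exists_partnerVec hc hb hbb
  have hPx : ∀ x, stdHerm σ k b x • (Z *ᵥ b) = stdHerm σ k b (Z *ᵥ x) • b := fun x => by
    have h := congrArg (· *ᵥ x) hP
    simpa only [← Matrix.mulVec_mulVec, dyad_mulVec, Matrix.mulVec_smul] using h
  set s := stdHerm σ k b (Z *ᵥ f) with hs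
  have hZb : Z *ᵥ b = s • b := by have := hPx f; rwa [hbf, one_smul] at this
  have hbZ : ∀ x, stdHerm σ k b (Z *ᵥ x) = s * stdHerm σ k b x := fun x => by
    have h := hPx x
    rw [hZb, smul_smul] at h
    have h1 : (stdHerm σ k b x * s - stdHerm σ k b (Z *ᵥ x)) • b = 0 := by rw [sub_smul, h, sub_self]
    linear_combination -(smul_eq_zero.1 h1).resolve_right hb
  have hax : ∀ a x, stdHerm σ k b a = 0 →
      stdHerm σ k b x • (Z *ᵥ a - s • a) + (stdHerm σ k a (Z *ᵥ x) - s * stdHerm σ k a x) • b = 0 := by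
    intro a x ha
    obtain ⟨η, hη⟩ := exists_lift_coeff hc a
    have h := congrArg (· *ᵥ x) (hE a η ha hη)
    simp only [← Matrix.mulVec_mulVec, eich_mulVec, Matrix.mulVec_add, Matrix.mulVec_smul, hZb, hbZ] at h
    linear_combination (norm := module) h
  have hs2 : ∀ a x, stdHerm σ k b a = 0 → stdHerm σ k b x = 0 → stdHerm σ k a (Z *ᵥ x) = s * stdHerm σ k a x :=
    fun a x ha hx => by
      have h := hax a x ha
      rw [hx, zero_smul, zero_add] at h
      exact sub_eq_zero.1 ((smul_eq_zero.1 h).resolve_right hb)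
  obtain ⟨ω, hω⟩ := hc.exists_not_fixed
  have hZa : ∀ a, stdHerm σ k b a = 0 → Z *ᵥ a = s • a ∧ stdHerm σ k a (Z *ᵥ f) = s * stdHerm σ k a f := by
    intro a ha
    have h1 := hax a f ha
    have h2 := hax (ω • a) f (by simp [ha])
    rw [hbf, one_smul] at h1 h2
    simp only [Matrix.mulVec_smul, map_smulₛₗ, LinearMap.smul_apply, smul_eq_mul, RingHom.id_apply] at h2
    set d := stdHerm σ k a (Z *ᵥ f) - s * stdHerm σ k a f
    have h3' : ((σ ω - ω) * d) • b = 0 := by
      linear_combination (norm := module) h2 - ω • h1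
    have hd : d = 0 := (mul_eq_zero.1 ((smul_eq_zero.1 h3').resolve_right hb)).resolve_left (sub_ne_zero.2 hω)
    rw [hd, zero_smul, add_zero, sub_eq_zero] at h1
    exact ⟨h1, sub_eq_zero.1 hd⟩
  refine ⟨s, stdHerm σ k f (Z *ᵥ f), mulVec_ext fun x => ?_⟩
  obtain ⟨z, hbz, hfz, hx⟩ := pair_decomp hbb hff hbf hfb x
  have hZf : Z *ᵥ f = s • f + stdHerm σ k f (Z *ᵥ f) • b := by
    refine sub_eq_zero.1 ((stdHerm_sepRight (σ := σ) k) _ fun y => ?_)
    obtain ⟨w, hbw, hfw, hy⟩ := pair_decomp hbb hff hbf hfb y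
    have hwf := (hZa w hbw).2
    rw [herm_zero_swap hc hfw] at hwf
    rw [hy]
    simp only [map_add, map_sub, map_smul, LinearMap.map_smulₛₗ, LinearMap.add_apply, LinearMap.smul_apply, smul_eq_mul,
      hbf, hfb, hbb, hff, herm_zero_swap hc hfw, herm_zero_swap hc hbw, hwf, hbZ, mul_zero, mul_one, add_zero, zero_add,
      sub_zero]
    ring
  generalize stdHerm σ k f (Z *ᵥ f) = t at hZf ⊢
  rw [hx]
  simp only [Matrix.add_mulVec, Matrix.smul_mulVec, Matrix.one_mulVec, Matrix.mulVec_add, Matrix.mulVec_smul,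
    dyad_mulVec, hZb, hZf, (hZa z hbz).1, map_add, map_smul, hbb, hbf, hbz, smul_eq_mul]
  module

/-- A special isometry as a matrix. -/
theorem matrix_of_isom (hc : IsConjugation σ) {g : isomGroup (stdHerm σ k)} (hg : idet (stdHerm σ k) g = 1) :
    ∃ A : Matrix (Fin k) (Fin k) F, adj σ A * A = 1 ∧ det A = 1 ∧ ∀ x, A *ᵥ x = g.1 x := by
  set A := LinearMap.toMatrix' (g.1 : (Fin k → F) →ₗ[F] (Fin k → F)) with hA
  have hAx : ∀ x, A *ᵥ x = g.1 x := fun x => by rw [hA, LinearMap.toMatrix'_mulVec]; rfl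
  refine ⟨A, mulVec_ext fun y => ?_, by rw [hA, LinearMap.det_toMatrix']; exact hg, hAx⟩
  refine sub_eq_zero.1 ((stdHerm_sepRight (σ := σ) k) _ fun x => ?_)
  rw [map_sub, ← Matrix.mulVec_mulVec, Matrix.one_mulVec, sub_eq_zero]
  conv_lhs => rw [show x = adj σ (1 : Matrix (Fin k) (Fin k) F) *ᵥ x by rw [adj_one, Matrix.one_mulVec]]
  rw [stdHerm_mulVec hc, Matrix.one_mulVec]
  have h := stdHerm_mulVec hc (adj σ A) x (A *ᵥ y)
  rw [adj_adj hc] at h
  rw [← h, hAx, hAx]
  exact g.2 x y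

theorem exists_move (hc : IsConjugation σ) (h3 : 3 ≤ k) {x y : Fin k → F} (hx : x ≠ 0) (hy : y ≠ 0)
    (hxy : stdHerm σ k x x = stdHerm σ k y y) :
    ∃ A : Matrix (Fin k) (Fin k) F, adj σ A * A = 1 ∧ det A = 1 ∧ A *ᵥ x = y := by
  obtain ⟨g, hg, hgx⟩ := (stdHerm_isHermitian hc k).exists_sIsom_single (stdHerm_sepRight k)
    (by rw [finrank_fin_fun]; omega) hx hy hxy
  obtain ⟨A, h1, h2, h4⟩ := matrix_of_isom hc hg
  exact ⟨A, h1, h2, by rw [h4, hgx]⟩

end CfsgLib.Classical.WreathMaxU
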