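import Cfsg.Agent.Lib.Classical.WreathMaxU.Merge
import Cfsg.Agent.Lib.Classical.WreathMax.Main
import Cfsg.Agent.Lib.Classical.TensorMaxU.Matrix

/-!
# Maximality of the stabiliser of a tensor power decomposition in the special unitary group
-/

set_option autoImplicit false
set_option linter.unusedSectionVars false
set_option backward.isDefEq.respectTransparency false

open Matrix Module
open scoped Kronecker

namespace CfsgLib.Classical.WreathMaxU

open CfsgLib.Classical.WreathMax (TMat tens tens_apply op op_smul op_zero op_mem_wreathT op_of_fix tensU tensU_coe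
  tensU_mem wreathT Rest liftRest restGroup liftRest_mem_wreathT mem_wreathT_of_card_le_one tens_mul_op
  tens_eq_zero det_one_add_nilpotent tensorWreathStandard_eq)

variable {F : Type*} [Field F] [Fintype F] {σ : F →+* F} {κ : Type} [Fintype κ] [DecidableEq κ] {k : ℕ}

/-- An overgroup of the stabiliser lies in it or is everything. -/
theorem dichotomy (hc : IsConjugation σ) (h3 : 3 ≤ k) (hex : BigFixed σ ∨ 4 ≤ k)
    {M : Subgroup (GL (κ → Fin k) F)} (hM : Over σ M) : M ≤ wreathT F κ k ∨ Full σ M := by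
  classical
  obtain ⟨n, hn⟩ : ∃ n, Fintype.card κ = n := ⟨_, rfl⟩
  induction n using Nat.strong_induction_on generalizing κ with
  | _ n ih =>
  by_cases hsmall : Fintype.card κ ≤ 1
  · exact Or.inr (over_suG_of_card_le_one hM hsmall)
  by_cases hNF : NoFuse σ M
  · exact Or.inl (le_of_noFuse hc h3 hex hM hNF)
  obtain ⟨B, hB, hAx⟩ : ∃ B : Finset κ, 2 ≤ B.card ∧ Ax σ M B := by
    rcases fusion hc h3 hex hM hNF with hF | ⟨j, B, hBd, hBM, hBT⟩
    · obtain ⟨i, b, hb, hbb, S, hS, hSel⟩ := exists_cel_of_fixSlice hc h3 hM hF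
      exact exists_ax_of_cel hc h3 hM hb hbb hS hSel
    · have hmem : B ∈ restGroup j M := ⟨hBM, MonoidHom.mem_ker.2 (Units.ext (by simpa using hBd))⟩
      have hcard : 2 ≤ Fintype.card (Rest j) := by
        by_contra h
        exact hBT (liftRest_mem_wreathT j (mem_wreathT_of_card_le_one (by omega) B hBd))
      rcases ih (Fintype.card (Rest j)) (hn ▸ Fintype.card_subtype_lt (x := j) (by simp))
        (over_restGroup hM (by omega) j) rfl with h | h
      · exact absurd (liftRest_mem_wreathT j (h hmem)) hBT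
      · exact exists_ax_of_rest hc h3 hM hcard h
  exact Or.inr (full_of_pure hc h3 hex hM (pure_of_ax hc h3 hM hB hAx))

/-- The stabiliser is proper. -/
theorem exists_not_mem_wreathT (hc : IsConjugation σ) (h3 : 3 ≤ k) (hcard : 1 < Fintype.card κ) :
    ∃ g ∈ suG σ (κ → Fin k), g ∉ wreathT F κ k := by
  classical
  obtain ⟨l, o, hlo⟩ := Fintype.one_lt_card_iff.1 hcard
  obtain ⟨b, hb, hbb⟩ := exists_isoVec (σ := σ) hc (show 2 ≤ k by omega)
  obtain ⟨ν, hν0, hν⟩ := hc.exists_trace_zero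
  set N : TMat F κ k := ν • tens fun _ => dyad σ b b with hN
  have hPP : dyad σ b b * dyad σ b b = 0 := by rw [dyad_mul, hbb, zero_smul]
  have hN2 : N * N = 0 := by
    rw [hN, Matrix.smul_mul, Matrix.mul_smul, ← map_mul, tens_zero_of (l := l) hPP, smul_zero, smul_zero]
  have hd : det (1 + N) = 1 := det_one_add_nilpotent ⟨2, by rw [pow_two, hN2]⟩
  refine ⟨GeneralLinearGroup.mkOfDetNeZero (1 + N) (by rw [hd]; exact one_ne_zero), ⟨?_, hd⟩, fun hT => ?_⟩
  · show adj σ (1 + N) * (1 + N) = 1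
    have e : adj σ N = -N := by
      rw [hN, adj_smul, adj_tens, eq_neg_of_add_eq_zero_right hν, neg_smul]
      congr 3
      funext p
      exact adj_dyad hc _ _
    rw [adj_add, adj_one, e, Matrix.add_mul, Matrix.one_mul, Matrix.neg_mul, Matrix.mul_add, Matrix.mul_one, hN2,
      add_zero, add_neg_cancel_right]
  obtain ⟨A, hA⟩ := op_of_fix h3 hT hb (i := l) fun γ => by
    show (1 + N) * op l (vecMulVec b γ) = _
    rw [Matrix.add_mul, Matrix.one_mul, hN, Matrix.smul_mul, tens_mul_op, tens_zero_of (l := l), smul_zero, add_zero]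
    rw [Function.update_self, Matrix.mul_vecMulVec, dyad_mulVec, hbb, zero_smul, zero_vecMulVec]
  change 1 + N = op l A at hA
  have hNl : N = op l (A - 1) := by rw [CfsgLib.Classical.WreathMax.op_sub, map_one, ← hA, add_sub_cancel_left]
  haveI : Nonempty (Fin k) := ⟨⟨0, by omega⟩⟩
  haveI : Nontrivial (Matrix (Fin k) (Fin k) F) := Matrix.nonempty
  have hP0 : dyad σ b b ≠ 0 := fun e => (dyad_eq_zero hc e).elim hb hb
  have hz : op o (dyad σ b b) * op l (A - 1) = (0 : TMat F κ k) := by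
    rw [← hNl, hN, Matrix.mul_smul, CfsgLib.Classical.WreathMax.op_mul_tens, tens_zero_of (l := o), smul_zero]
    rw [Function.update_self, hPP]
  rw [CfsgLib.Classical.WreathMax.op_eq_tens, CfsgLib.Classical.WreathMax.op_eq_tens, ← map_mul] at hz
  obtain ⟨p, hp⟩ := tens_eq_zero hz
  have hA0 : A - 1 = 0 := by
    by_cases hpo : p = o
    · subst hpo; simp [Pi.mulSingle_eq_of_ne hlo.symm] at hp; exact absurd hp hP0
    · by_cases hpl : p = l
      · subst hpl; simpa [Pi.mulSingle_eq_of_ne hpo] using hp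
      · simp [Pi.mulSingle_eq_of_ne hpo, Pi.mulSingle_eq_of_ne hpl] at hp
  rw [hA0, op_zero, hN, smul_eq_zero] at hNl
  obtain ⟨p, hp⟩ := tens_eq_zero (hNl.resolve_left hν0)
  exact hP0 hp

variable {n q t : ℕ}

/-- The elements of the special unitary group in the stabiliser of a tensor power decomposition of the form are
maximal there. -/
theorem isMaximalIn_wreath (hF : Fintype.card F = q ^ 2) (h3 : 3 ≤ k) (ht : 2 ≤ t) (hex : ¬ (q = 2 ∧ k = 3))
    (e : Fin n ≃ (Fin t → Fin k)) (P : GL (Fin n) F) {f₁ : (Fin k → F) → (Fin k → F) → F}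
    (hf₁ : Cfsg.Geo.IsUnitaryFormPow q f₁)
    (hT : Cfsg.Geo.IsTensorPowerFormStructure (fun x : F => x ^ q) (Cfsg.hermForm n F q) f₁ e P) :
    Cfsg.Geo.IsMaximalIn (Cfsg.GU n F q ⊓ Cfsg.Geo.specialLinear (Fin n) F)
      (Cfsg.Geo.tensorWreathSubgroup k t e P ⊓ (Cfsg.GU n F q ⊓ Cfsg.Geo.specialLinear (Fin n) F)) := by
  classical
  obtain ⟨σ, hσ, hc⟩ := exists_frob hF
  have hbig : BigFixed σ ∨ 4 ≤ k := by
    refine or_iff_not_imp_left.2 fun hnb => ?_
    by_contra h4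
    have hq3 : q ≠ 2 := fun e => hex ⟨e, by omega⟩
    have hq := two_le_of_card_sq hF
    have hsub : Subsingleton (fixedUnits σ) := ⟨fun u v => Subtype.ext (Units.ext (by
      rw [fixed_eq_one hnb u.2 (Units.ne_zero _), fixed_eq_one hnb v.2 (Units.ne_zero _)]))⟩
    have h2 := (frob_cards hF hσ hc).1
    rw [Nat.card_of_subsingleton (1 : fixedUnits σ)] at h2
    omega
  obtain ⟨c, hc0, hform⟩ := hT
  set Gr := Cfsg.Geo.gramMatrix f₁ with hGr
  -- the standard form pulled back to one factor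
  have hB₁ := TensorMaxU.swapForm_hermitian hc hσ hf₁
  obtain ⟨E, hE⟩ := (stdHerm_isHermitian hc k).exists_isometry hB₁ (stdHerm_sepRight k)
    (TensorMaxU.swapForm_sepRight hσ hf₁) rfl
  set C : Matrix (Fin k) (Fin k) F := LinearMap.toMatrix' (E : (Fin k → F) →ₗ[F] (Fin k → F)) with hC
  have hEC : ∀ x, C *ᵥ x = E x := fun x => LinearMap.toMatrix'_mulVec _ x
  have hgram : ∀ x y : Fin k → F, TensorMaxU.swapForm σ hσ hf₁ x y = stdHerm σ k x (Grᵀ *ᵥ y) := fun x y => by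
    have h1 : TensorMaxU.swapForm σ hσ hf₁ x y =
        Cfsg.Geo.formOfGram (fun x : F => x ^ q) (Cfsg.Geo.gramMatrix f₁) y x :=
      (TensorNonMax.gram_expand hf₁.add_left hf₁.smul_left
        (fun v a b => LinearMap.congr_fun (map_add (TensorMaxU.swapForm σ hσ hf₁) a b) v)
        (fun s v a => by
          show TensorMaxU.swapForm σ hσ hf₁ (s • a) v = s ^ q * TensorMaxU.swapForm σ hσ hf₁ a v
          rw [map_smulₛₗ, LinearMap.smul_apply, smul_eq_mul, hσ])
        y x).symm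
    rw [h1, Cfsg.Geo.formOfGram, stdHerm_apply, Finset.sum_comm]
    simp only [Matrix.mulVec, dotProduct, Matrix.transpose_apply, Finset.mul_sum, hσ, ← hGr]
    exact Finset.sum_congr rfl fun a _ => Finset.sum_congr rfl fun b _ => by ring
  have hCG : adj σ C * Grᵀ * C = 1 := by
    refine mulVec_ext fun y => ?_
    refine sub_eq_zero.1 ((stdHerm_sepRight (σ := σ) k) _ fun x => ?_)
    rw [map_sub, Matrix.one_mulVec, sub_eq_zero, ← Matrix.mulVec_mulVec, ← Matrix.mulVec_mulVec]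
    have h0 := stdHerm_mulVec hc (adj σ C) x (Grᵀ *ᵥ (C *ᵥ y))
    rw [adj_adj hc] at h0
    rw [← h0, ← hgram, hEC, hEC, hE]
  have hCd : det C ≠ 0 := TensorMaxU.det_toMatrix'_ne E
  set CU : GL (Fin k) F := GeneralLinearGroup.mkOfDetNeZero C hCd
  set Gt : TMat F (Fin t) k := tens fun _ => Grᵀ with hGt
  -- the form in coordinates
  have hcoord : ∀ x y : (Fin t → Fin k) → F, stdHerm σ n (P.1 *ᵥ (x ∘ e)) (P.1 *ᵥ (y ∘ e)) = c * hForm σ (Fin t → Fin k) x (Gt *ᵥ y) := fun x y => by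
    rw [← hermForm_eq_stdHerm hσ, hform, hForm_apply, Finset.sum_comm]
    simp only [Matrix.mulVec, dotProduct, hGt, tens_apply, Matrix.transpose_apply, Finset.mul_sum, hσ, ← hGr]
    exact Finset.sum_congr rfl fun a _ => Finset.sum_congr rfl fun b _ => by ring
  have hTC : adj σ (tens fun _ : Fin t => C) * Gt * (tens fun _ : Fin t => C) = 1 := by
    rw [adj_tens, hGt, ← map_mul, ← map_mul, show ((fun _ : Fin t => adj σ C) * (fun _ => Grᵀ) * fun _ => C) = 1 by
      funext l; exact hCG, map_one]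
  have hcf : σ c = c := by
    set T₀ : TMat F (Fin t) k := tens fun _ : Fin t => C with hT₀
    set e0 : (Fin t → Fin k) → F := Pi.single (fun _ => ⟨0, by omega⟩) 1 with he0
    have h3 : hForm σ (Fin t → Fin k) (T₀ *ᵥ e0) (Gt *ᵥ (T₀ *ᵥ e0)) = 1 := by
      have h0 := hForm_mulVec hc (adj σ T₀) e0 (Gt *ᵥ (T₀ *ᵥ e0))
      rw [adj_adj hc] at h0
      rw [h0]
      simp only [Matrix.mulVec_mulVec, ← Matrix.mul_assoc]
      rw [hT₀, hTC, Matrix.one_mulVec]
      simp [he0, hForm_apply, Pi.single_apply]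
    have h1 := hcoord (T₀ *ᵥ e0) (T₀ *ᵥ e0)
    rw [h3, mul_one] at h1
    rw [← h1]
    exact (stdHerm_isHermitian hc n).self_fixed _
  obtain ⟨r, hr⟩ := hc.exists_norm_eq (a := c⁻¹) (by rw [map_inv₀, hcf])
  have hr0 : r ≠ 0 := fun e => inv_ne_zero hc0 (by rw [← hr, e, zero_mul])
  set D₀ : TMat F (Fin t) k := r • tens (fun _ : Fin t => C) with hD₀
  have hDform : c • (adj σ D₀ * Gt * D₀) = 1 := by
    rw [hD₀, adj_smul, Matrix.smul_mul, Matrix.smul_mul, Matrix.mul_smul, hTC, smul_smul, smul_smul,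
      show c * σ r * r = 1 by rw [mul_assoc, mul_comm (σ r), hr, mul_inv_cancel₀ hc0], one_smul]
  let l₀ : Fin t := ⟨0, by omega⟩
  have hrd : det ((r • 1 : Matrix (Fin k) (Fin k) F)) ≠ 0 := by
    rw [Matrix.det_smul, det_one, mul_one]; exact pow_ne_zero _ hr0
  set D : GL (Fin t → Fin k) F := tensU (fun _ : Fin t => CU) * tensU (Pi.mulSingle l₀ (GeneralLinearGroup.mkOfDetNeZero _ hrd))
  have hDT : D ∈ wreathT F (Fin t) k := mul_mem (tensU_mem _) (tensU_mem _)
  have hD : D.1 = D₀ := by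
    have e1 : (fun l : Fin t => ((Pi.mulSingle l₀ (GeneralLinearGroup.mkOfDetNeZero _ hrd) : Fin t → GL (Fin k) F) l).1) =
        Pi.mulSingle l₀ (r • 1 : Matrix (Fin k) (Fin k) F) := by
      funext l
      by_cases hl : l = l₀
      · subst hl; simp only [Pi.mulSingle_eq_same]; rfl
      · simp [Pi.mulSingle_eq_of_ne hl]
    rw [Units.val_mul, tensU_coe, tensU_coe, e1, ← CfsgLib.Classical.WreathMax.op_eq_tens, op_smul, map_one,
      Matrix.mul_smul, Matrix.mul_one, hD₀]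
    rfl
  have hΦ : ∀ x y : (Fin t → Fin k) → F, stdHerm σ n (P.1 *ᵥ ((D.1 *ᵥ x) ∘ e)) (P.1 *ᵥ ((D.1 *ᵥ y) ∘ e)) = hForm σ (Fin t → Fin k) x y :=
    fun x y => by
      rw [hcoord, hD]
      have h0 := hForm_mulVec hc (adj σ D₀) x (Gt *ᵥ (D₀ *ᵥ y))
      rw [adj_adj hc] at h0
      rw [h0, Matrix.mulVec_mulVec, Matrix.mulVec_mulVec]
      conv_rhs => rw [← Matrix.one_mulVec y, ← hDform, Matrix.smul_mulVec, map_smul, smul_eq_mul]
  -- the transport
  set ψ : GL (Fin t → Fin k) F →* GL (Fin n) F :=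
    (MulAut.conj P).toMonoidHom.comp (Cfsg.Geo.glReindex e.symm).toMonoidHom with hψ
  set φ : GL (Fin t → Fin k) F →* GL (Fin n) F := ψ.comp (MulAut.conj D).toMonoidHom with hφ
  set Tn := Cfsg.Geo.tensorWreathSubgroup k t e P with hTn
  set K := Cfsg.GU n F q ⊓ Cfsg.Geo.specialLinear (Fin n) F with hK
  have hψapp : ∀ (x : GL (Fin t → Fin k) F) (v : (Fin t → Fin k) → F), (ψ x).1 *ᵥ (P.1 *ᵥ (v ∘ e)) = P.1 *ᵥ ((x.1 *ᵥ v) ∘ e) := fun x v => by
    show (P * Cfsg.Geo.glReindex e.symm x * P⁻¹).1 *ᵥ _ = _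
    rw [Units.val_mul, Units.val_mul, ← Matrix.mulVec_mulVec, ← Matrix.mulVec_mulVec, Matrix.mulVec_mulVec _ P⁻¹.1,
      Units.inv_mul, Matrix.one_mulVec]
    congr 1
    show (Matrix.reindex e.symm e.symm x.1) *ᵥ (v ∘ e) = _
    funext a
    simp only [Matrix.mulVec, dotProduct, Matrix.reindex_apply, Matrix.submatrix_apply, Function.comp_apply,
      Equiv.symm_symm]
    exact Fintype.sum_equiv e _ _ fun b => rfl
  have hφapp : ∀ (x : GL (Fin t → Fin k) F) (v : (Fin t → Fin k) → F),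
      (φ x).1 *ᵥ (P.1 *ᵥ ((D.1 *ᵥ v) ∘ e)) = P.1 *ᵥ ((D.1 *ᵥ (x.1 *ᵥ v)) ∘ e) := fun x v => by
    show (ψ (D * x * D⁻¹)).1 *ᵥ _ = _
    rw [hψapp, Units.val_mul, Units.val_mul, Matrix.mulVec_mulVec, Matrix.mulVec_mulVec, Matrix.mul_assoc,
      Units.inv_mul, Matrix.mul_one]
  have hdet : ∀ x, φ x ∈ Cfsg.Geo.specialLinear (Fin n) F ↔ det x.1 = 1 := fun x => by
    show Matrix.GeneralLinearGroup.det (P * Cfsg.Geo.glReindex e.symm (D * x * D⁻¹) * P⁻¹) = 1 ↔ _
    rw [map_mul, map_mul, map_inv, mul_comm (Matrix.GeneralLinearGroup.det P), mul_assoc, mul_inv_cancel, mul_one,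
      Units.ext_iff, Matrix.GeneralLinearGroup.val_det_apply]
    rw [show (Cfsg.Geo.glReindex e.symm (D * x * D⁻¹) : Matrix (Fin n) (Fin n) F) =
        Matrix.reindex e.symm e.symm (D * x * D⁻¹).1 from rfl, Matrix.det_reindex_self, Units.val_one, Units.val_mul,
      Units.val_mul, Matrix.det_mul, Matrix.det_mul, mul_comm (det D.1), mul_assoc, ← Matrix.det_mul, Units.mul_inv,
      det_one, mul_one]
  have hKeq : ∀ x, φ x ∈ K ↔ x ∈ suG σ (Fin t → Fin k) := fun x => by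
    refine ⟨fun ⟨h1, h2⟩ => ⟨?_, (hdet x).1 h2⟩, fun ⟨h1, h2⟩ => ⟨(mem_GU_iff hσ).2 ?_, (hdet x).2 h2⟩⟩
    · refine Matrix.ext_iff_mulVec.2 fun y => sub_eq_zero.1 ((hForm_sepRight (σ := σ) (J := Fin t → Fin k)) _ fun v => ?_)
      rw [map_sub, ← Matrix.mulVec_mulVec, Matrix.one_mulVec, sub_eq_zero]
      have h0 := hForm_mulVec hc (adj σ x.1) v (x.1 *ᵥ y)
      rw [adj_adj hc] at h0
      rw [← h0, ← hΦ, ← hφapp, ← hφapp, (mem_GU_iff hσ).1 h1, hΦ]
    · have hsur : ∀ u : Fin n → F, ∃ v : (Fin t → Fin k) → F, u = P.1 *ᵥ ((D.1 *ᵥ v) ∘ e) := fun u => by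
        refine ⟨D⁻¹.1 *ᵥ ((P⁻¹.1 *ᵥ u) ∘ e.symm), ?_⟩
        rw [Matrix.mulVec_mulVec, Units.mul_inv, Matrix.one_mulVec, Function.comp_assoc, Equiv.symm_comp_self,
          Function.comp_id, Matrix.mulVec_mulVec, Units.mul_inv, Matrix.one_mulVec]
      intro u u'
      obtain ⟨v, rfl⟩ := hsur u
      obtain ⟨v', rfl⟩ := hsur u'
      rw [hφapp, hφapp, hΦ, hΦ, ← hForm_mulVec hc, Matrix.mulVec_mulVec, h1, Matrix.one_mulVec]
  have hTeq : ∀ x, φ x ∈ Tn ↔ x ∈ wreathT F (Fin t) k := fun x => by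
    rw [hTn, Cfsg.Geo.tensorWreathSubgroup, tensorWreathStandard_eq, Subgroup.map_map]
    refine ⟨fun h => ?_, fun h => Subgroup.mem_map_of_mem _ (mul_mem (mul_mem hDT h) (inv_mem hDT))⟩
    obtain ⟨y, hy, hyx⟩ := Subgroup.mem_map.1 h
    have e1 : y = D * x * D⁻¹ := ((MulAut.conj P).injective.comp (Cfsg.Geo.glReindex e.symm).injective) hyx
    rw [e1] at hy
    have := mul_mem (mul_mem (inv_mem hDT) hy) hDT
    rwa [show D⁻¹ * (D * x * D⁻¹) * D = x by group] at this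
  have hsurj : ∀ g, ∃ x, φ x = g := fun g =>
    ⟨D⁻¹ * (Cfsg.Geo.glReindex e.symm).symm ((MulAut.conj P).symm g) * D, by simp [hφ, hψ, mul_assoc]⟩
  refine ⟨lt_of_le_of_ne inf_le_right fun h => ?_, fun M hHM hMK => ?_⟩
  · obtain ⟨g, hg, hgT⟩ := exists_not_mem_wreathT (F := F) (σ := σ) hc h3 (κ := Fin t) (by simp; omega)
    have h1 : φ g ∈ Tn ⊓ K := by rw [h]; exact (hKeq g).2 hg
    exact hgT ((hTeq g).1 h1.1)
  have hover : Over σ (M.comap φ) := ⟨fun g hg => (hKeq g).1 (hMK hg),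
    fun g hg hu => hHM ⟨(hTeq g).2 hg, (hKeq g).2 hu⟩⟩
  rcases dichotomy hc h3 hbig hover with h | h
  · refine Or.inl (le_antisymm (fun g hg => ⟨?_, hMK hg⟩) hHM)
    obtain ⟨x, rfl⟩ := hsurj g
    exact (hTeq x).2 (h hg)
  · refine Or.inr (le_antisymm hMK fun g hg => ?_)
    obtain ⟨x, rfl⟩ := hsurj g
    exact h ((hKeq x).1 hg)

end CfsgLib.Classical.WreathMaxU
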