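import Cfsg.Agent.Lib.Classical.WreathMaxU.Centre
import Cfsg.Agent.Lib.Classical.WreathMaxU.Axis

/-!
# From a central element of the radical of a slice to all pure transvection axes
-/

set_option autoImplicit false
set_option linter.unusedSectionVars false

open Matrix Module
open scoped Kronecker

namespace CfsgLib.Classical.WreathMaxU

open CfsgLib.Classical.WreathMax (TMat tens tens_apply op op_add op_sub op_smul op_injective op_zero op_comm op_eq_tens
  split split_apply split_op_self split_tens Rest liftRest split_liftRest liftRest_op liftRest_tens HasM restGroup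
  det_one_add_nilpotent permM permM_mul_tens permU permU_coe permU_mem det_permM_three_cycle op_mul_tens tens_mul_op
  tens_eq_zero)

variable {F : Type*} [Field F] {σ : F →+* F} {κ : Type} [Fintype κ] [DecidableEq κ] {k : ℕ}

/-- Transvection factors on `B`, identities elsewhere. -/
def pat (σ : F →+* F) (B : Finset κ) (b : κ → Fin k → F) (l : κ) : Matrix (Fin k) (Fin k) F :=
  if l ∈ B then dyad σ (b l) (b l) else 1

/-- `M` has all the elements `1 + c • (⊗ b_l b_l* on B)`. -/
def Ax (σ : F →+* F) (M : Subgroup (GL (κ → Fin k) F)) (B : Finset κ) : Prop :=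
  ∀ b : κ → Fin k → F, (∀ l ∈ B, stdHerm σ k (b l) (b l) = 0) → ∀ c : F, c + σ c = 0 →
    HasM M (c • tens (pat σ B b))

theorem tens_eq_op_mul (i : κ) (Q : κ → Matrix (Fin k) (Fin k) F) :
    tens Q = op i (Q i) * liftRest i (tens fun l : Rest i => Q l.1) := (split i).injective (by
  rw [map_mul, split_op_self, split_liftRest, split_tens, ← Matrix.mul_kronecker_mul, Matrix.mul_one, Matrix.one_mul])

theorem tens_zero_of {Q : κ → Matrix (Fin k) (Fin k) F} {l : κ} (h : Q l = 0) : tens Q = 0 := by
  ext x y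
  rw [tens_apply, Matrix.zero_apply]
  exact Finset.prod_eq_zero (Finset.mem_univ l) (by rw [h]; rfl)

theorem tens_smul_family (s : κ → F) (Q : κ → Matrix (Fin k) (Fin k) F) :
    tens (fun l => s l • Q l) = (∏ l, s l) • tens Q := by
  ext x y
  simp only [Matrix.smul_apply, tens_apply, smul_eq_mul, Finset.prod_mul_distrib]

theorem adj_pat (hc : IsConjugation σ) (B : Finset κ) (b : κ → Fin k → F) (l : κ) :
    adj σ (pat σ B b l) = pat σ B b l := by
  unfold pat
  split
  · exact adj_dyad hc _ _
  · exact adj_one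

theorem dyad_sandwich (x p q : Fin k → F) :
    dyad σ x x * dyad σ p q * dyad σ x x = (stdHerm σ k x p * stdHerm σ k q x) • dyad σ x x := by
  rw [dyad_mul, Matrix.smul_mul, dyad_mul, smul_smul]

theorem eq_smul_tens {Y : TMat F κ k} {Q : κ → Matrix (Fin k) (Fin k) F} (hQ : ∀ l, Q l ≠ 0)
    (h : ∀ l u u', ∃ t : F, blk l u u' Y = t • Q l) : ∃ c : F, Y = c • tens Q := by
  classical
  have hex : ∀ l, ∃ a c, Q l a c ≠ 0 := fun l => by
    by_contra hno
    push Not at hno
    exact hQ l (Matrix.ext hno)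
  choose x₀ y₀ h₀ using hex
  have hupd : ∀ (l : κ) (x y : κ → Fin k) (a c : Fin k),
      Y (Function.update x l a) (Function.update y l c) * Q l (x l) (y l) = Y x y * Q l a c := by
    intro l x y a c
    obtain ⟨t, ht⟩ := h l (fun o => x o.1) (fun o => y o.1)
    have hsy : ∀ (z : κ → Fin k) (e : Fin k),
        (Equiv.funSplitAt l (Fin k)).symm (e, fun o : Rest l => z o.1) = Function.update z l e := fun z e => by
      funext o
      by_cases ho : o = l
      · subst ho; simp [Equiv.funSplitAt, Equiv.piSplitAt]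
      · simp [Equiv.funSplitAt, Equiv.piSplitAt, ho]
    have e : ∀ a c, Y (Function.update x l a) (Function.update y l c) = t * Q l a c := fun a c => by
      have h1 := congrFun (congrFun ht a) c
      change split l Y (a, fun o => x o.1) (c, fun o => y o.1) = _ at h1
      rw [split_apply, hsy, hsy, Matrix.smul_apply, smul_eq_mul] at h1
      exact h1
    have e' := e (x l) (y l)
    rw [Function.update_eq_self, Function.update_eq_self] at e'
    rw [e, e']; ring
  refine ⟨Y x₀ y₀ / ∏ l, Q l (x₀ l) (y₀ l), ?_⟩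
  ext x y
  have key : ∀ D : Finset κ, Y (fun l => if l ∈ D then x l else x₀ l) (fun l => if l ∈ D then y l else y₀ l) *
      ∏ l ∈ D, Q l (x₀ l) (y₀ l) = Y x₀ y₀ * ∏ l ∈ D, Q l (x l) (y l) := by
    intro D
    induction D using Finset.induction_on with
    | empty => simp
    | insert l D hl ih =>
      have hu := hupd l (fun o => if o ∈ D then x o else x₀ o) (fun o => if o ∈ D then y o else y₀ o) (x l) (y l)
      have e : ∀ (z z₀ : κ → Fin k), Function.update (fun o => if o ∈ D then z o else z₀ o) l (z l) =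
          fun o => if o ∈ insert l D then z o else z₀ o := fun z z₀ => by
        funext o
        by_cases ho : o = l
        · subst ho; simp
        · simp [ho]
      rw [e, e] at hu
      simp only [if_neg hl] at hu
      rw [Finset.prod_insert hl, Finset.prod_insert hl]
      linear_combination (∏ o ∈ D, Q o (x₀ o) (y₀ o)) * hu + Q l (x l) (y l) * ih
  have h1 := key Finset.univ
  simp only [Finset.mem_univ, if_true] at h1
  rw [Matrix.smul_apply, tens_apply, smul_eq_mul, div_mul_eq_mul_div,
    eq_div_iff (Finset.prod_ne_zero_iff.2 fun l _ => h₀ l)]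
  exact h1

variable [Fintype F] {M : Subgroup (GL (κ → Fin k) F)}

section CEl

variable {i : κ} {b : Fin k → F} {S S' : TMat F (Rest i) k}

theorem CEl.sub (hbb : stdHerm σ k b b = 0) (h : CEl σ M i b S) (h' : CEl σ M i b S') :
    CEl σ M i b (S - S') := by
  have h0 : ∀ T T' : TMat F (Rest i) k,
      op i (dyad σ b b) * liftRest i T * (op i (dyad σ b b) * liftRest i T') = 0 := fun T T' => by
    rw [← liftRest_comm_op, Matrix.mul_assoc, ← Matrix.mul_assoc (op i (dyad σ b b)), ← map_mul, dyad_mul, hbb,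
      zero_smul, op_zero, Matrix.zero_mul, Matrix.mul_zero]
  unfold CEl at *
  rw [liftRest_sub, Matrix.mul_sub, sub_eq_add_neg]
  exact h.add (h'.neg (h0 _ _)) (by rw [Matrix.mul_neg, h0, neg_zero])

theorem CEl.conj (hM : Over σ M) (h : CEl σ M i b S) {g : GL (κ → Fin k) F} (hg : g ∈ M)
    {G : TMat F (Rest i) k} (he : g.1 = liftRest i G) : CEl σ M i b (G * S * adj σ G) := by
  have h1 := HasM.conj h hg
  unfold CEl
  rwa [inv_eq_adj (hM.le_su hg), he, adj_liftRest, ← Matrix.mul_assoc (liftRest i G), liftRest_comm_op,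
    Matrix.mul_assoc (op i _), ← map_mul, Matrix.mul_assoc, ← map_mul] at h1

/-- Sandwiching by a transvection of another factor. -/
theorem CEl.sandwich (hc : IsConjugation σ) (h3 : 3 ≤ k) (hM : Over σ M) (hbb : stdHerm σ k b b = 0)
    (h : CEl σ M i b S) (l : Rest i) {d : Fin k → F} (hd : d ≠ 0) (hdd : stdHerm σ k d d = 0) :
    CEl σ M i b (op l (dyad σ d d) * S * op l (dyad σ d d)) := by
  have hΔ : ∀ {T : TMat F (Rest i) k} {A : Matrix (Fin k) (Fin k) F}, CEl σ M i b T → adj σ A * A = 1 → det A = 1 →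
      CEl σ M i b (op l A * T * op l (adj σ A) - T) := by
    intro T A hT hA hAd
    obtain ⟨g, hg, -, he⟩ := hM.exists_op_det l.1 hA hAd
    have h1 := hT.conj hM hg (G := op l A) (by rw [he, liftRest_op])
    rw [adj_op] at h1
    exact h1.sub hbb hT
  obtain ⟨p, hpp, hdp, -⟩ := exists_partnerVec hc hd hdd
  obtain ⟨z, hdz, -, hzz⟩ := exists_perpVec hc h3 hdd hdp (map_one σ)
  obtain ⟨ω, hω⟩ := hc.exists_not_fixed
  have hdz' : stdHerm σ k d (ω • z) = 0 := by simp [hdz]
  obtain ⟨η, hη⟩ := exists_lift_coeff hc z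
  obtain ⟨η', hη'⟩ := exists_lift_coeff hc (ω • z)
  set μ := (σ ω - ω)⁻¹ with hμdef
  have hμ : μ + σ μ = 0 := by
    rw [hμdef, map_inv₀, map_sub, hc.invol, ← neg_sub (σ ω) ω, inv_neg, add_neg_cancel]
  obtain ⟨hr1, hr2, -⟩ := root_props hc hdd hμ
  obtain ⟨hEP, hPE, -, -, hu1, hu2⟩ := eich_props hc hdd hdz hη
  obtain ⟨hEP', hPE', -, -, hv1, hv2⟩ := eich_props hc hdd hdz' hη'
  set P := dyad σ d d with hP
  set E := eich σ d z η
  set E' := eich σ d (ω • z) η'
  have hPa : adj σ P = P := adj_dyad hc _ _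
  have hEE : E' * E = (-σ ω) • P := by
    simp only [E, E', eich, hP, Matrix.add_mul, Matrix.sub_mul, Matrix.mul_add, Matrix.mul_sub, Matrix.smul_mul,
      Matrix.mul_smul, dyad_mul, hdd, hdz, hdz', herm_zero_swap hc hdz, herm_zero_swap hc hdz', zero_smul, smul_zero,
      map_smulₛₗ, LinearMap.smul_apply, smul_eq_mul, RingHom.id_apply, hzz, mul_one, mul_zero, sub_zero, add_zero,
      zero_sub, neg_smul]
  have hEE' : adj σ E * adj σ E' = (-ω) • P := by
    rw [← adj_mul, hEE, adj_smul, hPa, map_neg, hc.invol]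
  have hzero : ∀ {A B : Matrix (Fin k) (Fin k) F}, A * B = 0 → op l A * op l B = (0 : TMat F (Rest i) k) :=
    fun {A B} e => by rw [← map_mul, e, op_zero]
  have e1 : op l P * op l P = (0 : TMat F (Rest i) k) := hzero (by rw [hP, dyad_mul, hdd, zero_smul])
  have e2 : op l E * op l P = (0 : TMat F (Rest i) k) := hzero hEP
  have e3 : op l P * op l (adj σ E) = (0 : TMat F (Rest i) k) := hzero (by
    rw [← hPa, ← adj_mul, hEP, adj_zero])
  have e4 : op l E' * op l P = (0 : TMat F (Rest i) k) := hzero hEP'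
  have e5 : op l P * op l (adj σ E') = (0 : TMat F (Rest i) k) := hzero (by
    rw [← hPa, ← adj_mul, hEP', adj_zero])
  have e6 : op l E' * op l E = (-σ ω) • (op l P : TMat F (Rest i) k) := by rw [← map_mul, hEE, op_smul]
  have e7 : op l (adj σ E) * op l (adj σ E') = (-ω) • (op l P : TMat F (Rest i) k) := by rw [← map_mul, hEE', op_smul]
  -- the three steps
  have d1 : CEl σ M i b (μ • (op l P * S) - μ • (S * op l P) - (μ * μ) • (op l P * S * op l P)) := by
    have h1 := hΔ h hr1 hr2
    convert h1 using 1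
    rw [adj_add, adj_one, adj_smul, hPa, op_add, op_add, map_one, op_smul, op_smul,
      show σ μ = -μ from eq_neg_of_add_eq_zero_right hμ]
    simp only [Matrix.add_mul, Matrix.mul_add, Matrix.one_mul, Matrix.mul_one, Matrix.smul_mul, Matrix.mul_smul,
      smul_smul, Matrix.mul_assoc]
    module
  have d2 : CEl σ M i b (μ • (op l P * S * op l (adj σ E)) - μ • (op l E * S * op l P)) := by
    have h1 := hΔ d1 hu1 hu2
    convert h1 using 1
    rw [adj_add, adj_one, op_add, op_add, map_one]
    simp only [Matrix.add_mul, Matrix.mul_add, Matrix.sub_mul, Matrix.mul_sub, Matrix.one_mul, Matrix.mul_one,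
      Matrix.smul_mul, Matrix.mul_smul]
    simp only [← Matrix.mul_assoc, e2]
    simp only [Matrix.mul_assoc, e3, Matrix.mul_zero, Matrix.zero_mul, smul_zero]
    module
  have d3 := hΔ d2 hv1 hv2
  convert d3 using 1
  rw [adj_add, adj_one, op_add, op_add, map_one]
  simp only [Matrix.add_mul, Matrix.mul_add, Matrix.sub_mul, Matrix.mul_sub, Matrix.one_mul, Matrix.mul_one,
    Matrix.smul_mul, Matrix.mul_smul]
  simp only [← Matrix.mul_assoc, e4, e6]
  simp only [Matrix.mul_assoc, e5, e7, Matrix.mul_zero, Matrix.zero_mul, smul_zero, Matrix.smul_mul, Matrix.mul_smul,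
    smul_smul]
  have hμ1 : μ * (σ ω - ω) = 1 := inv_mul_cancel₀ (sub_ne_zero.2 hω)
  rw [hμdef] at hμ1
  match_scalars <;> first | linear_combination hμ1 | linear_combination -hμ1 | ring

end CEl

/-- One element with transvection factors gives all of them. -/
theorem ax_of_one (hc : IsConjugation σ) (h3 : 3 ≤ k) (hM : Over σ M) {B : Finset κ} (hB : B.Nonempty)
    {b₀ : κ → Fin k → F} (hb₀ : ∀ l ∈ B, b₀ l ≠ 0 ∧ stdHerm σ k (b₀ l) (b₀ l) = 0) {c₀ : F} (hc₀ : c₀ ≠ 0)
    (h : HasM M (c₀ • tens (pat σ B b₀))) : Ax σ M B := by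
  classical
  obtain ⟨a, ha⟩ := hB
  haveI : Nonempty (Fin k) := ⟨⟨0, by omega⟩⟩
  haveI : Nontrivial (Matrix (Fin k) (Fin k) F) := Matrix.nonempty
  have hne : tens (pat σ B b₀) ≠ 0 := fun e => by
    obtain ⟨l, hl⟩ := tens_eq_zero e
    unfold pat at hl
    split at hl
    · rename_i hlB; exact (dyad_eq_zero hc hl).elim (hb₀ l hlB).1 (hb₀ l hlB).1
    · exact one_ne_zero hl
  have hskew : c₀ + σ c₀ = 0 := by
    obtain ⟨g, hg, he⟩ := h
    have hN : (c₀ • tens (pat σ B b₀)) * (c₀ • tens (pat σ B b₀)) = 0 := by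
      rw [Matrix.smul_mul, Matrix.mul_smul, ← map_mul, tens_zero_of (l := a) (by
        show pat σ B b₀ a * pat σ B b₀ a = 0
        rw [pat, if_pos ha, dyad_mul, (hb₀ a ha).2, zero_smul]), smul_zero, smul_zero]
    have h1 := inv_eq_adj (hM.le_su hg)
    rw [inv_val_of_skew he hN, he, adj_add, adj_one, adj_smul, adj_tens, sub_eq_add_neg, add_right_inj] at h1
    simp only [adj_pat hc] at h1
    have h2 : (c₀ + σ c₀) • tens (pat σ B b₀) = 0 := by rw [add_smul, ← h1, add_neg_cancel]
    exact (smul_eq_zero.1 h2).resolve_right hne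
  intro b hb c hcc
  by_cases hz : ∃ l ∈ B, b l = 0
  · obtain ⟨l, hl, hl0⟩ := hz
    rw [tens_zero_of (l := l) (by rw [pat, if_pos hl, hl0]; ext; simp [dyad, vecMulVec_apply]), smul_zero]
    exact HasM.zero
  push Not at hz
  rcases eq_or_ne c 0 with rfl | hc0
  · rw [zero_smul]; exact HasM.zero
  have hfix : σ (c / c₀) = c / c₀ := by
    rw [map_div₀, eq_neg_of_add_eq_zero_right hcc, eq_neg_of_add_eq_zero_right hskew, neg_div_neg_eq]
  obtain ⟨ρ, hρ⟩ := hc.exists_norm_eq hfix
  have hρ0 : ρ ≠ 0 := fun e => div_ne_zero hc0 hc₀ (by rw [← hρ, e, zero_mul])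
  set t : κ → F := fun l => if l = a then ρ else 1 with ht
  have ht0 : ∀ l, t l ≠ 0 := fun l => by simp only [ht]; split <;> simp [hρ0]
  have hmove : ∀ D : Finset κ, HasM M (c₀ • tens (pat σ B fun l => if l ∈ D then t l • b l else b₀ l)) := by
    intro D
    induction D using Finset.induction_on with
    | empty => simpa using h
    | insert l D hlD ih =>
      have e : ∀ o, o ≠ l → (if o ∈ insert l D then t o • b o else b₀ o) = if o ∈ D then t o • b o else b₀ o :=
        fun o ho => by simp [ho]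
      by_cases hl : l ∈ B
      · obtain ⟨A, hA, hAd, hAb⟩ := exists_move hc h3 (x := b₀ l) (y := t l • b l) (hb₀ l hl).1
          (smul_ne_zero (ht0 l) (hz l hl)) (by simp [map_smulₛₗ, (hb₀ l hl).2, hb l hl])
        obtain ⟨g, hg, -, hge⟩ := hM.exists_op_det l hA hAd
        have h1 := ih.conj hg
        rw [inv_eq_adj (hM.le_su hg), hge, adj_op, Matrix.mul_smul, Matrix.smul_mul, op_mul_tens, tens_mul_op,
          Function.update_self, Function.update_idem] at h1
        convert h1 using 3
        funext o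
        by_cases ho : o = l
        · subst ho
          rw [Function.update_self, pat, pat, if_pos hl, if_pos hl, if_neg hlD, if_pos (Finset.mem_insert_self _ _),
            mul_dyad, dyad_mul_matrix hc, adj_adj hc, hAb]
        · rw [Function.update_of_ne ho, pat, pat, e o ho]
      · convert ih using 3
        funext o
        by_cases ho : o = l
        · subst ho; simp [pat, hl]
        · simp only [pat, e o ho]
  have h1 := hmove Finset.univ
  convert h1 using 1
  have e : (fun l => (if l = a then c / c₀ else 1) • pat σ B b l) =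
      pat σ B fun l => if l ∈ Finset.univ then t l • b l else b₀ l := by
    funext l
    by_cases hl : l = a
    · subst hl
      simp only [pat, if_pos ha, Finset.mem_univ, if_true, ht, dyad_smul_left, dyad_smul_right, smul_smul,
        ← hρ, mul_comm ρ (σ ρ)]
    · simp only [if_neg hl, one_smul, pat, Finset.mem_univ, if_true, ht]
  rw [← e, tens_smul_family, Finset.prod_ite_eq' Finset.univ a (fun _ => c / c₀), if_pos (Finset.mem_univ _), smul_smul,
    mul_div_cancel₀ _ hc₀]

/-- A non-scalar central element gives transvection factors on at least two factors. -/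
theorem exists_ax_of_cel (hc : IsConjugation σ) (h3 : 3 ≤ k) (hM : Over σ M) {i : κ} {b : Fin k → F} (hb : b ≠ 0)
    (hbb : stdHerm σ k b b = 0) {S : TMat F (Rest i) k} (hS : ∀ c : F, S ≠ c • 1) (h : CEl σ M i b S) :
    ∃ B : Finset κ, 2 ≤ B.card ∧ Ax σ M B := by
  classical
  haveI : Nonempty (Fin k) := ⟨⟨0, by omega⟩⟩
  haveI : Nontrivial (Matrix (Fin k) (Fin k) F) := Matrix.nonempty
  obtain ⟨T, hT, hTs, hTd⟩ : ∃ T : TMat F (Rest i) k, CEl σ M i b T ∧ (∀ c : F, T ≠ c • 1) ∧ ∀ l : Rest i,
      (∀ u u', ∃ t : F, blk l u u' T = t • (1 : Matrix (Fin k) (Fin k) F)) ∨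
        ∃ d, d ≠ 0 ∧ stdHerm σ k d d = 0 ∧ ∀ u u', ∃ t : F, blk l u u' T = t • dyad σ d d := by
    suffices hD : ∀ D : Finset (Rest i), ∃ T : TMat F (Rest i) k, CEl σ M i b T ∧ (∀ c : F, T ≠ c • 1) ∧ ∀ l ∈ D,
        (∀ u u', ∃ t : F, blk l u u' T = t • (1 : Matrix (Fin k) (Fin k) F)) ∨
          ∃ d, d ≠ 0 ∧ stdHerm σ k d d = 0 ∧ ∀ u u', ∃ t : F, blk l u u' T = t • dyad σ d d by
      obtain ⟨T, h1, h2, h4⟩ := hD Finset.univ
      exact ⟨T, h1, h2, fun l => h4 l (Finset.mem_univ l)⟩
    intro D
    induction D using Finset.induction_on with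
    | empty => exact ⟨S, h, hS, fun l hl => absurd hl (Finset.notMem_empty l)⟩
    | insert l D hlD ih =>
      obtain ⟨T, hT, hTs, hTd⟩ := ih
      by_cases hall : ∀ d, stdHerm σ k d d = 0 → ∀ u u', stdHerm σ k d (blk l u u' T *ᵥ d) = 0
      · refine ⟨T, hT, hTs, fun o ho => ?_⟩
        rcases Finset.mem_insert.1 ho with rfl | ho'
        · exact Or.inl fun u u' => scalar_of_iso_form hc h3 fun d hd => hall d hd u u'
        · exact hTd o ho'
      push Not at hall
      obtain ⟨d, hdd, u₀, u₀', hne⟩ := hall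
      have hd : d ≠ 0 := fun e => hne (by rw [e]; simp)
      have hblk : ∀ u u', blk l u u' (op l (dyad σ d d) * T * op l (dyad σ d d)) =
          stdHerm σ k d (blk l u u' T *ᵥ d) • dyad σ d d := fun u u' => by
        rw [blk_mul_op, blk_op_mul, Matrix.mul_assoc, mul_dyad, dyad_mul]
      refine ⟨_, hT.sandwich hc h3 hM hbb l hd hdd, fun c e => ?_, fun o ho => ?_⟩
      · have hP0 : dyad σ d d ≠ 0 := fun e => (dyad_eq_zero hc e).elim hd hd
        have h1 : op l (dyad σ d d) * (op l (dyad σ d d) * T * op l (dyad σ d d)) = 0 := by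
          rw [← Matrix.mul_assoc, ← Matrix.mul_assoc, ← map_mul, dyad_mul, hdd, zero_smul, op_zero, Matrix.zero_mul,
            Matrix.zero_mul]
        rw [e, Matrix.mul_smul, Matrix.mul_one, ← op_smul, ← op_zero l] at h1
        have hc0 : c = 0 := (smul_eq_zero.1 (op_injective l h1)).resolve_right hP0
        have h2 := hblk u₀ u₀'
        rw [e, hc0, zero_smul, map_zero] at h2
        exact hne ((smul_eq_zero.1 h2.symm).resolve_right hP0)
      · rcases Finset.mem_insert.1 ho with rfl | ho'
        · exact Or.inr ⟨d, hd, hdd, fun u u' => ⟨_, hblk u u'⟩⟩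
        have hol : l ≠ o := fun e => hlD (e ▸ ho')
        have key : ∀ Q : Matrix (Fin k) (Fin k) F, (∀ u u', ∃ t : F, blk o u u' T = t • Q) → ∀ u u', ∃ t : F,
            blk o u u' (op l (dyad σ d d) * T * op l (dyad σ d d)) = t • Q := by
          intro Q hQ u u'
          choose t ht using hQ
          rw [← liftRest_op (⟨l, hol⟩ : Rest o) (dyad σ d d), blk_mul]
          simp only [blk_mul, blk_liftRest, ht, Matrix.smul_mul, Matrix.one_mul, Matrix.mul_smul, Matrix.mul_one,
            smul_smul, ← Finset.sum_smul, Finset.smul_sum]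
          exact ⟨_, rfl⟩
        rcases hTd o ho' with hs | ⟨d', hd', hdd', hP⟩
        · exact Or.inl (key 1 hs)
        · exact Or.inr ⟨d', hd', hdd', key _ hP⟩
  set Bs : Finset (Rest i) := Finset.univ.filter fun l =>
    ¬ ∀ u u', ∃ t : F, blk l u u' T = t • (1 : Matrix (Fin k) (Fin k) F) with hBs
  have hBd : ∀ l : Rest i, ∃ d, d ≠ 0 ∧ stdHerm σ k d d = 0 ∧
      (l ∈ Bs → ∀ u u', ∃ t : F, blk l u u' T = t • dyad σ d d) := fun l => by
    by_cases hl : l ∈ Bs
    · obtain ⟨d, hd, hdd, hP⟩ := (hTd l).resolve_left (Finset.mem_filter.1 hl).2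
      exact ⟨d, hd, hdd, fun _ => hP⟩
    · exact ⟨b, hb, hbb, fun h => absurd h hl⟩
  choose d hd hdd hdQ using hBd
  set Q : Rest i → Matrix (Fin k) (Fin k) F := fun l => if l ∈ Bs then dyad σ (d l) (d l) else 1 with hQ
  obtain ⟨c, hcT⟩ := eq_smul_tens (Q := Q) (fun l => by
      simp only [hQ]; split
      · exact fun e => (dyad_eq_zero hc e).elim (hd l) (hd l)
      · exact one_ne_zero) (fun l => by
      simp only [hQ]; split
      · rename_i hl; exact hdQ l hl
      · rename_i hl
        simpa [hBs] using hl) (Y := T)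
  have hc0 : c ≠ 0 := fun e => hTs 0 (by rw [hcT, e, zero_smul, zero_smul])
  have hne : Bs.Nonempty := by
    by_contra hemp
    rw [Finset.not_nonempty_iff_eq_empty] at hemp
    refine hTs c ?_
    rw [hcT, show Q = 1 by funext l; simp [hQ, hemp], map_one]
  set B := insert i (Bs.map ⟨Subtype.val, Subtype.val_injective⟩) with hB
  have hmem : ∀ l : Rest i, l.1 ∈ B ↔ l ∈ Bs := fun l => by
    rw [hB, Finset.mem_insert, Finset.mem_map]
    constructor
    · rintro (e | ⟨x, hx, e⟩)
      · exact absurd e l.2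
      · rwa [← Subtype.ext (show x.1 = l.1 from e)]
    · exact fun hl => Or.inr ⟨l, hl, rfl⟩
  refine ⟨B, ?_, ax_of_one hc h3 hM ⟨i, Finset.mem_insert_self _ _⟩
    (b₀ := fun l => if h : l = i then b else d ⟨l, h⟩) (fun l _ => ?_) hc0 ?_⟩
  · rw [hB, Finset.card_insert_of_notMem (by simp), Finset.card_map]
    exact Nat.succ_le_succ hne.card_pos
  · by_cases hl : l = i <;> simp [hl, hb, hbb, hd, hdd]
  · unfold CEl at hT
    rw [hcT, liftRest_smul, Matrix.mul_smul] at hT
    convert hT using 2
    rw [tens_eq_op_mul i]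
    congr 2
    · simp [pat, hB]
    · congr 1
      funext l
      simp [pat, hQ, hmem, l.2]

theorem ax_perm (hM : Over σ M) {B B' : Finset κ} (h : Ax σ M B) {a p q : κ} (hap : a ≠ p) (hpq : p ≠ q)
    (hB : ∀ l, l ∈ B' ↔ (Equiv.swap a p * Equiv.swap p q)⁻¹ l ∈ B) : Ax σ M B' := by
  intro b hb c hcc
  set π := Equiv.swap a p * Equiv.swap p q with hπ
  have hmem : (permU π : GL (κ → Fin k) F) ∈ M := hM.ge _ (permU_mem π)
    ⟨by rw [permU_coe, adj_permM, ← map_mul, inv_mul_cancel, map_one],
      by rw [permU_coe]; exact det_permM_three_cycle hap hpq⟩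
  have h1 := (h (fun l => b (π l)) (fun l hl => hb _ ((hB _).2 (by simpa using hl))) c hcc).conj hmem
  rw [permU_coe, Matrix.mul_smul, Matrix.smul_mul, permM_mul_tens, Matrix.mul_assoc,
    show permM π * (permU π)⁻¹.1 = (1 : TMat F κ k) by
      rw [← permU_coe, ← Units.val_mul, mul_inv_cancel, Units.val_one], Matrix.mul_one] at h1
  convert h1 using 3
  funext l
  simp [pat, hB]

/-- One more factor. -/
theorem ax_insert (hc : IsConjugation σ) (h3 : 3 ≤ k) (hM : Over σ M) {B : Finset κ} (h : Ax σ M B) {a q o : κ}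
    (ha : a ∈ B) (hq : q ∈ B) (haq : a ≠ q) (ho : o ∉ B) : Ax σ M (insert o B) := by
  classical
  have hoa : o ≠ a := fun e => ho (e ▸ ha)
  have hoq : o ≠ q := fun e => ho (e ▸ hq)
  set B' := insert o (B.erase a) with hB'
  have hAx' : Ax σ M B' := by
    refine ax_perm hM h haq hoq.symm fun l => ?_
    have hi : (Equiv.swap a q * Equiv.swap q o)⁻¹ l = Equiv.swap q o (Equiv.swap a q l) := by simp
    rw [hi, hB', Finset.mem_insert, Finset.mem_erase]
    by_cases h1 : l = a
    · subst h1; simp [ho, hoa.symm]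
    · by_cases h2 : l = q
      · subst h2; simp [haq.symm, hq, ha, Equiv.swap_apply_of_ne_of_ne haq hoa.symm]
      · rw [Equiv.swap_apply_of_ne_of_ne h1 h2]
        by_cases h4 : l = o
        · subst h4; simp [hq]
        · rw [Equiv.swap_apply_of_ne_of_ne h2 h4]; simp [h1, h4]
  obtain ⟨b, hb, hbb⟩ := exists_isoVec (σ := σ) hc (show 2 ≤ k by omega)
  obtain ⟨f, hff, hbf, hfb⟩ := exists_partnerVec hc hb hbb
  obtain ⟨ν, hν0, hν⟩ := hc.exists_trace_zero
  obtain ⟨ω, hω⟩ := hc.exists_not_fixed
  have hlift : ∀ η : F, ∃ x, stdHerm σ k x x = 0 ∧ stdHerm σ k b x = 1 ∧ stdHerm σ k f x = η ∧ x ≠ 0 := fun η => by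
    obtain ⟨z, hbz, hfz, hzz⟩ := exists_perpVec hc h3 hbb hbf (t := -(η + σ η)) (by
      rw [map_neg, map_add, hc.invol, add_comm])
    obtain ⟨h1, h2⟩ := lift_iso hc hbb hff hbf hfb hbz hfz (η := η) (by rw [hzz]; ring)
    exact ⟨_, h1, h2, by simp [hff, hfb, hfz], fun e => by rw [e, map_zero] at h2; exact zero_ne_one h2⟩
  choose x hxx hbx hfx hx0 using hlift
  set η : κ → F := fun l => if l = q then ω else 1 with hη
  set QX : Rest a → Matrix (Fin k) (Fin k) F := fun l => pat σ B (fun _ => b) l.1 with hQX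
  set QY : Rest a → Matrix (Fin k) (Fin k) F := fun l => pat σ B' (fun l => if l = o then b else f) l.1 with hQY
  set S₁ : TMat F (Rest a) k := ν • tens QX with hS₁
  set Y₁ : TMat F (Rest a) k := ν • tens QY with hY₁
  have hX : CEl σ M a b S₁ := by
    have h1 := h (fun _ => b) (fun _ _ => hbb) ν hν
    unfold CEl
    rw [hS₁, liftRest_smul, Matrix.mul_smul]
    rwa [tens_eq_op_mul a, show pat σ B (fun _ : κ => b) a = dyad σ b b by rw [pat, if_pos ha]] at h1
  obtain ⟨g, hg, hge⟩ := hAx' (fun l => if l = o then b else f) (fun l _ => by split <;> assumption) ν hν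
  have hgY : g.1 = liftRest a (1 + Y₁) := by
    rw [hge, tens_eq_op_mul a, show pat σ B' (fun l => if l = o then b else f) a = 1 by
      rw [pat, if_neg (by simp [hB', hoa.symm])], map_one, Matrix.one_mul, liftRest_add, map_one, hY₁, liftRest_smul]
  have hYadj : adj σ (1 + Y₁) = 1 - Y₁ := by
    rw [adj_add, adj_one, hY₁, adj_smul, adj_tens, eq_neg_of_add_eq_zero_right hν, neg_smul, ← sub_eq_add_neg]
    congr 3
    funext l
    exact adj_pat hc _ _ _
  have h2 := (hX.conj hM hg hgY).sub hbb hX
  have hS₂ : (1 + Y₁) * S₁ * adj σ (1 + Y₁) - S₁ =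
      (ν * ν) • (tens (fun l => QY l * QX l) - tens fun l => QX l * QY l) := by
    have hYXY : tens (fun l => QY l * QX l * QY l) = (0 : TMat F (Rest a) k) := tens_zero_of (l := ⟨o, hoa⟩) (by
      simp [hQY, hQX, pat, hB', ho, dyad_mul, hbb])
    rw [hYadj, hS₁, hY₁]
    simp only [Matrix.add_mul, Matrix.mul_sub, Matrix.sub_mul, Matrix.one_mul, Matrix.mul_one, Matrix.smul_mul,
      Matrix.mul_smul, smul_smul, ← map_mul]
    rw [show (QY * QX * QY : Rest a → Matrix (Fin k) (Fin k) F) = fun l => QY l * QX l * QY l from rfl, hYXY,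
      show (QY * QX : Rest a → Matrix (Fin k) (Fin k) F) = fun l => QY l * QX l from rfl,
      show (QX * QY : Rest a → Matrix (Fin k) (Fin k) F) = fun l => QX l * QY l from rfl]
    module
  rw [hS₂] at h2
  -- sandwiches over the overlap
  set W : Rest a → Matrix (Fin k) (Fin k) F := fun l => dyad σ (x (η l.1)) (x (η l.1)) with hW
  set sw : Finset (Rest a) → (Rest a → Matrix (Fin k) (Fin k) F) → Rest a → Matrix (Fin k) (Fin k) F :=
    fun D Z l => if l ∈ D then W l * Z l * W l else Z l with hsw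
  have hD : ∀ D : Finset (Rest a), CEl σ M a b
      ((ν * ν) • (tens (sw D fun l => QY l * QX l) - tens (sw D fun l => QX l * QY l))) := by
    intro D
    induction D using Finset.induction_on with
    | empty => simpa [hsw] using h2
    | insert l D hlD ih =>
      have h4 := ih.sandwich hc h3 hM hbb l (hx0 (η l.1)) (hxx (η l.1))
      convert h4 using 1
      rw [Matrix.mul_smul, Matrix.smul_mul, Matrix.mul_sub, Matrix.sub_mul, op_mul_tens, op_mul_tens, tens_mul_op,
        tens_mul_op, Function.update_self, Function.update_self, Function.update_idem, Function.update_idem]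
      congr 3 <;>
      · funext p
        by_cases hp : p = l
        · subst hp; simp [hsw, hlD, hW]
        · simp [hsw, hp]
  set D₀ : Finset (Rest a) := Finset.univ.filter fun l => l.1 ∈ B with hD₀
  set bf : κ → Fin k → F := fun l => if l = a ∨ l = o then b else x (η l) with hbf'
  set QF : Rest a → Matrix (Fin k) (Fin k) F := fun l => pat σ (insert o B) bf l.1 with hQF
  have hA : ∀ l, sw D₀ (fun l => QY l * QX l) l = (if l.1 = q then σ ω else 1) • QF l ∧
      sw D₀ (fun l => QX l * QY l) l = (if l.1 = q then ω else 1) • QF l := by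
    intro l
    have hla : l.1 ≠ a := l.2
    by_cases hlB : l.1 ∈ B
    · have hlo : l.1 ≠ o := fun e => ho (e ▸ hlB)
      have hB'l : l.1 ∈ B' := by simp [hB', hla, hlB]
      simp only [hsw, hD₀, Finset.mem_filter, Finset.mem_univ, true_and, hlB, if_true, hQY, hQX, hQF, hW, pat,
        Finset.mem_insert, or_true, hB'l, hbf', hla, hlo, or_self, if_false, dyad_mul, hfb, hbf, one_smul,
        Matrix.smul_mul, smul_smul]
      rw [hbx, ← herm_swap hc f (x (η l.1)), ← herm_swap hc b (x (η l.1)), hfx, hbx, map_one, mul_one, one_mul]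
      simp only [hη]
      constructor <;> by_cases hlq : l.1 = q <;> simp [hlq]
    · have hlq : l.1 ≠ q := fun e => hlB (e ▸ hq)
      simp only [hsw, hD₀, Finset.mem_filter, Finset.mem_univ, true_and, hlB, if_false, hQY, hQX, hQF, pat,
        Finset.mem_insert, hB', Finset.mem_erase, and_false, or_false, hlq, one_smul, hbf', hla, false_or,
        Matrix.mul_one, Matrix.one_mul]
      by_cases hlo : l.1 = o <;> simp [hlo]
  have h5 := hD D₀
  simp only [funext fun l => (hA l).1, funext fun l => (hA l).2, tens_smul_family] at h5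
  have hprod : ∀ t : F, (∏ l : Rest a, if l.1 = q then t else 1) = t := fun t => by
    rw [Finset.prod_eq_single ⟨q, haq.symm⟩ (fun l _ hl => if_neg fun e => hl (Subtype.ext e)) (by simp), if_pos rfl]
  rw [hprod, hprod, ← sub_smul, smul_smul] at h5
  refine ax_of_one hc h3 hM ⟨o, Finset.mem_insert_self _ _⟩ (b₀ := bf) (fun l _ => ?_)
    (mul_ne_zero (mul_ne_zero hν0 hν0) (sub_ne_zero.2 hω)) ?_
  · simp only [hbf']; split
    · exact ⟨hb, hbb⟩
    · exact ⟨hx0 _, hxx _⟩
  · unfold CEl at h5
    rw [liftRest_smul, Matrix.mul_smul] at h5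
    convert h5 using 2
    rw [tens_eq_op_mul a]
    congr 2
    simp [pat, ha, hbf']

/-- All pure tensors of isotropic vectors are axes. -/
theorem pure_of_ax (hc : IsConjugation σ) (h3 : 3 ≤ k) (hM : Over σ M) {B : Finset κ} (hcard : 2 ≤ B.card)
    (h : Ax σ M B) : ∀ u : κ → Fin k → F, (∀ l, stdHerm σ k (u l) (u l) = 0) → Axis σ M (ptens u) := by
  classical
  suffices hu : Ax σ M Finset.univ by
    intro u hu' ν hν
    have h1 := hu u (fun l _ => hu' l) ν hν
    rw [gdy_ptens]
    convert h1 using 3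
    funext l
    simp [pat]
  suffices hall : ∀ D : Finset κ, Ax σ M (B ∪ D) by
    have := hall Finset.univ
    rwa [Finset.union_eq_right.2 (Finset.subset_univ _)] at this
  intro D
  induction D using Finset.induction_on with
  | empty => simpa using h
  | insert o D _ ih =>
    rw [Finset.union_insert]
    by_cases ho : o ∈ B ∪ D
    · rwa [Finset.insert_eq_of_mem ho]
    obtain ⟨a, ha, q, hq, haq⟩ := Finset.one_lt_card.1 (show 1 < B.card by omega)
    exact ax_insert hc h3 hM ih (Finset.mem_union_left _ ha) (Finset.mem_union_left _ hq) haq ho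

/-- The special unitary group on all but one factor gives transvection factors there. -/
theorem exists_ax_of_rest (hc : IsConjugation σ) (h3 : 3 ≤ k) (hM : Over σ M) {j : κ}
    (hcard : 2 ≤ Fintype.card (Rest j)) (hfull : Full σ (restGroup j M)) :
    ∃ B : Finset κ, 2 ≤ B.card ∧ Ax σ M B := by
  classical
  obtain ⟨b, hb, hbb⟩ := exists_isoVec (σ := σ) hc (show 2 ≤ k by omega)
  obtain ⟨ν, hν0, hν⟩ := hc.exists_trace_zero
  set D : TMat F (Rest j) k := ν • tens fun _ => dyad σ b b with hD
  obtain ⟨l₀⟩ : Nonempty (Rest j) := Fintype.card_pos_iff.1 (by omega)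
  have hD2 : D * D = 0 := by
    rw [hD, Matrix.smul_mul, Matrix.mul_smul, ← map_mul, tens_zero_of (l := l₀) (by
      show dyad σ b b * dyad σ b b = 0
      rw [dyad_mul, hbb, zero_smul]), smul_zero, smul_zero]
  have hd : det (1 + D) = 1 := det_one_add_nilpotent ⟨2, by rw [pow_two, hD2]⟩
  set g : GL (Rest j → Fin k) F := GeneralLinearGroup.mkOfDetNeZero (1 + D) (by rw [hd]; exact one_ne_zero)
  have hgu : g ∈ suG σ (Rest j → Fin k) := by
    refine ⟨?_, hd⟩
    show adj σ (1 + D) * (1 + D) = 1
    have e : adj σ D = -D := by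
      rw [hD, adj_smul, adj_tens, eq_neg_of_add_eq_zero_right hν, neg_smul]
      congr 3
      funext l
      exact adj_dyad hc _ _
    rw [adj_add, adj_one, e, Matrix.add_mul, Matrix.one_mul, Matrix.neg_mul, Matrix.mul_add, Matrix.mul_one, hD2,
      add_zero, add_neg_cancel_right]
  have hgM : Units.map (liftRest j) g ∈ M := (hfull hgu).1
  refine ⟨Finset.univ.erase j, ?_, ax_of_one hc h3 hM ⟨l₀.1, Finset.mem_erase.2 ⟨l₀.2, Finset.mem_univ _⟩⟩
    (b₀ := fun _ => b) (fun _ _ => ⟨hb, hbb⟩) hν0 ⟨_, hgM, ?_⟩⟩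
  · rw [Finset.card_erase_of_mem (Finset.mem_univ j), Finset.card_univ]
    simp [Fintype.card_subtype_compl] at hcard
    omega
  · show liftRest j (1 + D) = _
    rw [liftRest_add, map_one, hD, liftRest_smul, liftRest_tens]
    congr 3
    funext l
    by_cases hl : l = j <;> simp [pat, hl]

end CfsgLib.Classical.WreathMaxU
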