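import Cfsg.Agent.Lib.Classical.WreathMaxU.Setting
import Cfsg.Agent.Lib.Classical.WreathMax.PTrace

/-!
# Without fusion of transvections the unitary overgroup is the stabiliser
-/

set_option autoImplicit false
set_option linter.unusedSectionVars false

open Matrix Module
open scoped Kronecker

namespace CfsgLib.Classical.WreathMaxU

open CfsgLib.Classical.WreathMax (TMat tens op op_add op_smul op_injective op_zero split split_op_self wreathT Rest
  Ad Ad_apply ptr ptr_tens ptrSum ptrSum_apply ptrSum_conj_hyp relTr relTr_Ad relTr_sub_mem sum_op_eq_op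
  op_mem_wreathT rank_op_rankOne_le)

variable {F : Type*} [Field F] [Fintype F] {σ : F →+* F} {k : ℕ}

/-- The bilinear map at a linear map vanishes on the unit vectors only when the map is zero. -/
theorem linear_zero_of_unit_dyad (hc : IsConjugation σ) (h3 : 3 ≤ k) {W : Type*} [AddCommGroup W] [Module F W]
    (L : Matrix (Fin k) (Fin k) F →ₗ[F] W) (h : ∀ c, stdHerm σ k c c = 1 → L (dyad σ c c) = 0) : L = 0 := by
  classical
  have haniso : ∀ c, stdHerm σ k c c ≠ 0 → L (dyad σ c c) = 0 := fun c hcc => by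
    obtain ⟨s, hs⟩ := (stdHerm_isHermitian hc k).exists_scaled hcc (map_one σ)
    have h1 := h (s • c) hs
    have hs0 : s ≠ 0 := fun e => by rw [e, zero_smul] at hs; simp at hs
    rw [dyad_smul_left, dyad_smul_right, map_smul, map_smul, smul_smul] at h1
    exact (smul_eq_zero.1 h1).resolve_left (mul_ne_zero hs0 (conj_ne_zero hc hs0))
  have hall : ∀ c, L (dyad σ c c) = 0 := fun c => by
    by_cases hcc : stdHerm σ k c c = 0
    · rcases eq_or_ne c 0 with rfl | hc0
      · rw [show dyad σ (0 : Fin k → F) 0 = 0 by ext a b; simp [dyad, vecMulVec_apply], map_zero]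
      obtain ⟨f, hff, hbf, hfb⟩ := exists_partnerVec hc hc0 hcc
      obtain ⟨z, hz, -, hzz⟩ := exists_perpVec hc h3 hcc hbf (map_one σ)
      have key : ∀ s : F, s ≠ 0 → L (dyad σ c c) + σ s • L (dyad σ c z) + s • L (dyad σ z c) = 0 := fun s hs => by
        have h1 := haniso (c + s • z) (by
          simp [map_smulₛₗ, hcc, hz, herm_zero_swap hc hz, hzz, hs])
        rw [dyad_add_left, dyad_add_right, dyad_add_right, dyad_smul_left, dyad_smul_left, dyad_smul_right,
          dyad_smul_right, map_add, map_add, map_add, map_smul, map_smul, map_smul, map_smul,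
          haniso z (by rw [hzz]; exact one_ne_zero), smul_zero, smul_zero, add_zero] at h1
        linear_combination (norm := module) h1
      obtain ⟨s, hs0, hs1⟩ : ∃ s : F, s ≠ 0 ∧ s + 1 ≠ 0 := by
        obtain ⟨ω, hω⟩ := hc.exists_not_fixed
        refine ⟨ω, fun e => hω (by rw [e, map_zero]), fun e => hω ?_⟩
        rw [eq_neg_of_add_eq_zero_left e, map_neg, map_one]
      have e1 := key s hs0
      have e2 := key 1 one_ne_zero
      have e3 := key (s + 1) hs1
      rw [map_add, map_one] at e3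
      rw [map_one] at e2
      linear_combination (norm := module) e1 + e2 - e3
    · exact haniso c hcc
  obtain ⟨ω, hω⟩ := hc.exists_not_fixed
  have hsym : ∀ u v, L (dyad σ u v) + L (dyad σ v u) = 0 := fun u v => by
    have := hall (u + v)
    rw [dyad_add_left, dyad_add_right, dyad_add_right, map_add, map_add, map_add, hall, hall, zero_add, add_zero]
      at this
    exact this
  have hzero : ∀ u v, L (dyad σ u v) = 0 := fun u v => by
    have h1 := hsym u v
    have h2 := hsym u (ω • v)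
    rw [dyad_smul_left, dyad_smul_right, map_smul, map_smul] at h2
    have : (σ ω - ω) • L (dyad σ u v) = 0 := by linear_combination (norm := module) h2 - ω • h1
    exact (smul_eq_zero.1 this).resolve_left (sub_ne_zero.2 hω)
  refine LinearMap.ext fun A => ?_
  rw [Matrix.matrix_eq_sum_single A, map_sum, LinearMap.zero_apply]
  refine Finset.sum_eq_zero fun a _ => ?_
  rw [map_sum]
  refine Finset.sum_eq_zero fun b _ => ?_
  rw [show Matrix.single a b (A a b) = A a b • dyad σ (Pi.single a 1) (Pi.single b 1) by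
    ext x y
    by_cases hx : x = a <;> by_cases hy : y = b <;> simp [dyad, vecMulVec_apply, hx, hy, Ne.symm] <;>
      simp [Matrix.single_apply, hx, hy, Ne.symm] <;> tauto, map_smul, hzero, smul_zero]

/-- A unit vector is orthogonal to a hyperbolic pair. -/
theorem exists_pair_perp (hc : IsConjugation σ) (h3 : 3 ≤ k) {c : Fin k → F} (hcc : stdHerm σ k c c = 1) :
    ∃ b f, stdHerm σ k b b = 0 ∧ stdHerm σ k f f = 0 ∧ stdHerm σ k b f = 1 ∧ stdHerm σ k f b = 1 ∧
      stdHerm σ k b c = 0 ∧ stdHerm σ k f c = 0 := by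
  obtain ⟨b, hb, hbb⟩ := exists_isoVec (σ := σ) hc (show 2 ≤ k by omega)
  obtain ⟨f, hff, hbf, hfb⟩ := exists_partnerVec hc hb hbb
  obtain ⟨z, hbz, hfz, hzz⟩ := exists_perpVec hc h3 hbb hbf (map_one σ)
  obtain ⟨A, hA, -, hAz⟩ := exists_move hc h3 (x := z) (y := c) (fun e => by rw [e] at hzz; simp at hzz)
    (fun e => by rw [e] at hcc; simp at hcc) (hzz.trans hcc.symm)
  have hiso : ∀ x y, stdHerm σ k (A *ᵥ x) (A *ᵥ y) = stdHerm σ k x y := fun x y => by
    rw [← stdHerm_mulVec hc A, Matrix.mulVec_mulVec, hA, Matrix.one_mulVec]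
  exact ⟨A *ᵥ b, A *ᵥ f, by rw [hiso, hbb], by rw [hiso, hff], by rw [hiso, hbf], by rw [hiso, hfb],
    by rw [← hAz, hiso, hbz], by rw [← hAz, hiso, hfz]⟩

/-- The blocks that remain are zero. -/
theorem blk_zero_of_conditions (hc : IsConjugation σ) (h3 : 3 ≤ k) (hex : BigFixed σ ∨ 4 ≤ k) {c : Fin k → F}
    (hcc : stdHerm σ k c c = 1) {B : Matrix (Fin k) (Fin k) F}
    (h : ∀ b, b ≠ 0 → stdHerm σ k b b = 0 → stdHerm σ k b c = 0 → ∀ v w, stdHerm σ k b v = 0 →
      (BigFixed σ ∨ stdHerm σ k b w = 0) → stdHerm σ k v (B *ᵥ w) = 0) : B = 0 := by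
  classical
  by_cases hbig : BigFixed σ
  · obtain ⟨b, f, hbb, hff, hbf, hfb, hbc, hfc⟩ := exists_pair_perp hc h3 hcc
    refine mulVec_ext fun w => ?_
    rw [Matrix.zero_mulVec]
    refine (stdHerm_sepRight (σ := σ) k) _ fun x => ?_
    obtain ⟨z, hbz, hfz, hx⟩ := pair_decomp hbb hff hbf hfb x
    have hb0 : b ≠ 0 := fun e => by rw [e] at hbf; simp at hbf
    have hf0 : f ≠ 0 := fun e => by rw [e] at hfb; simp at hfb
    rw [hx]
    simp only [map_add, LinearMap.add_apply, LinearMap.map_smulₛₗ, LinearMap.smul_apply, smul_eq_mul]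
    rw [h b hb0 hbb hbc b w hbb (Or.inl hbig), h f hf0 hff hfc f w hff (Or.inl hbig),
      h b hb0 hbb hbc z w hbz (Or.inl hbig)]
    simp
  have h4 : 4 ≤ k := hex.resolve_left hbig
  obtain ⟨h2, hnorm, -, ω, hω0, hω⟩ := small_facts hc hbig
  set z : Fin k := ⟨0, by omega⟩ with hz
  set e : Fin k → Fin k → F := fun a => Pi.single a 1 with he
  have hee : ∀ a a', stdHerm σ k (e a) (e a') = if a = a' then 1 else 0 := fun a a' => by
    simp [he, stdHerm_single, Pi.single_apply]
  obtain ⟨A, hA, -, hAz⟩ := exists_move hc h3 (x := e z) (y := c) (by simp [he])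
    (fun e => by rw [e] at hcc; simp at hcc) ((hee z z).trans ((if_pos rfl).trans hcc.symm))
  have hiso : ∀ x y, stdHerm σ k (A *ᵥ x) (A *ᵥ y) = stdHerm σ k x y := fun x y => by
    rw [← stdHerm_mulVec hc A, Matrix.mulVec_mulVec, hA, Matrix.one_mulVec]
  set β := fun a a' => stdHerm σ k (A *ᵥ e a) (B *ᵥ (A *ᵥ e a')) with hβ
  -- the conditions at a two-term isotropic vector
  have hvec : ∀ p q : Fin k, p ≠ q → p ≠ z → q ≠ z → ∀ t : F, t ≠ 0 →
      A *ᵥ (e p + t • e q) ≠ 0 ∧ stdHerm σ k (A *ᵥ (e p + t • e q)) (A *ᵥ (e p + t • e q)) = 0 ∧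
        stdHerm σ k (A *ᵥ (e p + t • e q)) c = 0 ∧
        ∀ o, o ≠ p → o ≠ q → stdHerm σ k (A *ᵥ (e p + t • e q)) (A *ᵥ e o) = 0 := by
    intro p q hpq hp hq t ht
    refine ⟨fun e0 => ?_, ?_, ?_, fun o hop hoq => ?_⟩
    · have := hiso (e p) (e p + t • e q)
      rw [e0] at this
      simp [hee, hpq] at this
    · rw [hiso]
      simp [map_smulₛₗ, hee, hpq, hpq.symm]
      linear_combination hnorm t ht + h2
    · rw [← hAz, hiso]; simp [map_smulₛₗ, hee, hp, hq]
    · rw [hiso]; simp [map_smulₛₗ, hee, hop.symm, hoq.symm]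
  have hfree : ∀ a a' : Fin k, ∀ p q : Fin k, p ≠ q → p ≠ z → q ≠ z → a ≠ p → a ≠ q → a' ≠ p → a' ≠ q →
      β a a' = 0 := by
    intro a a' p q hpq hp hq ha ha' hb hb'
    obtain ⟨h0, h1, h2', h3'⟩ := hvec p q hpq hp hq 1 one_ne_zero
    exact h _ h0 h1 h2' _ _ (h3' a ha ha') (Or.inr (h3' a' hb hb'))
  have hthree : ∀ s : Finset (Fin k), s.card ≤ 2 → ∃ p, p ∉ s ∧ p ≠ z := fun s hs => by
    obtain ⟨p, -, hp⟩ := Finset.exists_mem_notMem_of_card_lt_card (s := insert z s) (t := Finset.univ)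
      (lt_of_le_of_lt (Finset.card_insert_le _ _) (by simp; omega))
    simp only [Finset.mem_insert, not_or] at hp
    exact ⟨p, hp.2, hp.1⟩
  have hβ0 : ∀ a a', β a a' = 0 := by
    intro a a'
    by_cases hoff : a ≠ a' ∧ a ≠ z ∧ a' ≠ z
    · obtain ⟨hne, ha, ha'⟩ := hoff
      obtain ⟨l, hl, hlz⟩ := hthree {a, a'} Finset.card_le_two
      simp only [Finset.mem_insert, Finset.mem_singleton, not_or] at hl
      have key : ∀ t : F, t ≠ 0 → β a a' + t * β a l = 0 := fun t ht => by
        obtain ⟨h0, h1, h2', h3'⟩ := hvec a' l (Ne.symm hl.2) ha' hlz t ht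
        have h5 := h _ h0 h1 h2' _ _ (h3' a hne (Ne.symm hl.1)) (Or.inr h1)
        simpa [hβ, Matrix.mulVec_add, Matrix.mulVec_smul] using h5
      have k1 := key 1 one_ne_zero
      have k2 := key ω hω0
      have hω1 : ω - 1 ≠ 0 := fun e1 => by
        rw [sub_eq_zero.1 e1, map_one] at hω
        exact one_ne_zero (by linear_combination h2 - hω : (1 : F) = 0)
      have h6 : β a l = 0 := (mul_eq_zero.1 (show (ω - 1) * β a l = 0 by linear_combination k2 - k1)).resolve_left hω1
      rw [h6, mul_zero, add_zero] at k1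
      exact k1
    · obtain ⟨s, hs1, hsa, hsa'⟩ : ∃ s : Finset (Fin k), s.card ≤ 1 ∧ (a ≠ z → a ∈ s) ∧ (a' ≠ z → a' ∈ s) := by
        by_cases ha : a = z
        · exact ⟨{a'}, by simp, fun h => absurd ha h, fun _ => by simp⟩
        · refine ⟨{a}, by simp, fun _ => by simp, fun h => ?_⟩
          simp only [not_and, not_not] at hoff
          by_contra hne
          simp only [Finset.mem_singleton] at hne
          exact h (hoff (Ne.symm hne) ha)
      obtain ⟨p, hps, hpz⟩ := hthree s (by omega)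
      obtain ⟨q, hqs, hqz⟩ := hthree (insert p s) ((Finset.card_insert_le _ _).trans (by omega))
      simp only [Finset.mem_insert, not_or] at hqs
      have aux : ∀ x, (x ≠ z → x ∈ s) → x ≠ p ∧ x ≠ q := fun x hx => by
        by_cases hxz : x = z
        · subst hxz; exact ⟨hpz.symm, hqz.symm⟩
        · exact ⟨fun e => hps (e ▸ hx hxz), fun e => hqs.2 (e ▸ hx hxz)⟩
      exact hfree a a' p q (Ne.symm hqs.1) hpz hqz (aux a hsa).1 (aux a hsa).2 (aux a' hsa').1 (aux a' hsa').2
  have hAB : adj σ A * B * A = 0 := by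
    ext a a'
    have h5 : β a a' = (adj σ A * B * A) a a' := by
      simp only [hβ]
      have h6 : ∀ x y, stdHerm σ k (A *ᵥ x) y = stdHerm σ k x (adj σ A *ᵥ y) := fun x y => by
        have h7 := stdHerm_mulVec hc (adj σ A) x y
        rwa [adj_adj hc] at h7
      simp only [h6, Matrix.mulVec_mulVec, he, stdHerm_single, Matrix.mulVec_single_one, Matrix.mul_assoc]
      rfl
    rw [← h5, hβ0, Matrix.zero_apply]
  have hA' : A * adj σ A = 1 := mul_eq_one_comm.1 hA
  calc B = A * adj σ A * B * (A * adj σ A) := by rw [hA', Matrix.one_mul, Matrix.mul_one]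
    _ = A * (adj σ A * B * A) * adj σ A := by simp only [Matrix.mul_assoc]
    _ = 0 := by rw [hAB, Matrix.mul_zero, Matrix.zero_mul]

variable {κ : Type} [Fintype κ] [DecidableEq κ]

/-- Without fusion the overgroup is the stabiliser itself. -/
theorem le_of_noFuse (hc : IsConjugation σ) (h3 : 3 ≤ k) (hex : BigFixed σ ∨ 4 ≤ k)
    {M : Subgroup (GL (κ → Fin k) F)} (hM : Over σ M) (hNF : NoFuse σ M) : M ≤ wreathT F κ k := by
  classical
  intro g hg
  by_contra hgT
  rcases isEmpty_or_nonempty κ with hκ | hκ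
  · refine hgT ⟨1, fun i => isEmptyElim i, ?_⟩
    have h1 := (hM.le_su hg).2
    haveI : Unique (κ → Fin k) := Pi.uniqueOfIsEmpty _
    rw [Matrix.det_unique] at h1
    rw [map_one, mul_one]
    refine Units.ext ?_
    ext x y
    rw [CfsgLib.Classical.WreathMax.tensU_coe, CfsgLib.Classical.WreathMax.tens_apply, Finset.univ_eq_empty,
      Finset.prod_empty, Unique.eq_default x, Unique.eq_default y, h1]
  obtain ⟨i⟩ := hκ
  set D := relTr M (wreathT F κ k) ptrSum (ptrSum_conj_hyp M) - ptrSum with hD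
  set K : Finset F := Finset.univ.filter (fun μ => μ + σ μ = 0) with hK
  obtain ⟨μ₀, hμ₀0, hμ₀⟩ := hc.exists_trace_zero
  have hKmem : ∀ μ, μ ∈ K ↔ μ + σ μ = 0 := fun μ => by simp [hK]
  have hKcard : (K.card : F) = 0 := by
    have h1 : ∑ μ ∈ K, (μ + μ₀) = ∑ μ ∈ K, μ := by
      refine Finset.sum_nbij' (· + μ₀) (· - μ₀) (fun μ hμ => ?_) (fun μ hμ => ?_) (fun μ _ => by simp) (fun μ _ => by simp)
        (fun μ _ => rfl)
      · rw [hKmem] at hμ ⊢; rw [map_add]; linear_combination hμ + hμ₀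
      · rw [hKmem] at hμ ⊢; rw [map_sub]; linear_combination hμ - hμ₀
    rw [Finset.sum_add_distrib, Finset.sum_const, add_eq_left, nsmul_eq_mul] at h1
    exact (mul_eq_zero.1 h1).resolve_right hμ₀0
  have hKsum : BigFixed σ → ∑ μ ∈ K, μ = 0 := by
    rintro ⟨t, ht, ht0, ht1⟩
    have h1 : ∑ μ ∈ K, t * μ = ∑ μ ∈ K, μ := by
      refine Finset.sum_nbij' (t * ·) (t⁻¹ * ·) (fun μ hμ => ?_) (fun μ hμ => ?_)
        (fun μ _ => by simp [ht0]) (fun μ _ => by simp [ht0]) (fun μ _ => rfl)
      · rw [hKmem] at hμ ⊢; rw [map_mul, ht]; linear_combination t * hμ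
      · rw [hKmem] at hμ ⊢; rw [map_mul, map_inv₀, ht]; linear_combination t⁻¹ * hμ
    rw [← Finset.mul_sum] at h1
    exact (mul_eq_zero.1 (show (t - 1) * ∑ μ ∈ K, μ = 0 by linear_combination h1)).resolve_left (sub_ne_zero.2 ht1)
  -- the sums over a root group
  have hkey : ∀ b : Fin k → F, b ≠ 0 → stdHerm σ k b b = 0 → ∀ x : TMat F κ k,
      op i (dyad σ b b) * x = x * op i (dyad σ b b) → ∀ u u' v w, stdHerm σ k b v = 0 →
      (BigFixed σ ∨ stdHerm σ k b w = 0) → stdHerm σ k v (blk i u u' (D x) *ᵥ w) = 0 := by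
    intro b hb hbb x hx
    set P := op i (dyad σ b b) with hP
    have hPP : P * P = 0 := by rw [hP, ← map_mul, dyad_mul, hbb, zero_smul, op_zero]
    let R : Subgroup M :=
      { carrier := {r | ∃ μ : F, μ + σ μ = 0 ∧ (r : GL (κ → Fin k) F).1 = 1 + μ • P}
        one_mem' := ⟨0, by simp, by simp⟩
        mul_mem' := by
          rintro r r' ⟨μ, h, e⟩ ⟨μ', h', e'⟩
          refine ⟨μ + μ', by rw [map_add]; linear_combination h + h', ?_⟩
          rw [Subgroup.coe_mul, Units.val_mul, e, e', Matrix.add_mul, Matrix.one_mul, Matrix.mul_add, Matrix.mul_one,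
            Matrix.smul_mul, Matrix.mul_smul, hPP, smul_zero, smul_zero, add_zero, add_smul]
          abel
        inv_mem' := by
          rintro r ⟨μ, h, e⟩
          refine ⟨-μ, by rw [map_neg]; linear_combination -h, ?_⟩
          rw [Subgroup.coe_inv, inv_val_of_skew e (by rw [Matrix.smul_mul, Matrix.mul_smul, hPP]; simp), neg_smul,
            sub_eq_add_neg] }
    haveI := Fintype.ofFinite R
    have hex' : ∀ μ : {μ // μ ∈ K}, ∃ r : R, (r : M).1.1 = 1 + μ.1 • P := fun μ => by
      obtain ⟨r, hr, -, e⟩ := hM.exists_root hc i hbb ((hKmem _).1 μ.2)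
      rw [op_smul] at e
      exact ⟨⟨⟨r, hr⟩, μ.1, (hKmem _).1 μ.2, e⟩, e⟩
    choose ψ hψ using hex'
    have hP0 : P ≠ 0 := fun e => (dyad_eq_zero hc (op_injective i (e.trans (op_zero i).symm))).elim hb hb
    have hbij : Function.Bijective ψ := by
      refine ⟨fun μ μ' e => Subtype.ext ?_, fun r => ?_⟩
      · have h1 := hψ μ
        rw [e, hψ μ'] at h1
        exact smul_left_injective F hP0 (add_left_cancel h1.symm)
      · obtain ⟨μ, hμ, e⟩ := r.2
        exact ⟨⟨μ, (hKmem _).2 hμ⟩, Subtype.ext (Subtype.ext (Units.ext ((hψ _).trans e.symm)))⟩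
    let E : Submodule F (TMat F κ k) :=
      { carrier := {Y | ∀ u u' v w, stdHerm σ k b v = 0 → (BigFixed σ ∨ stdHerm σ k b w = 0) →
          stdHerm σ k v (blk i u u' Y *ᵥ w) = 0}
        add_mem' := fun hY hZ u u' v w hv hw => by
          rw [map_add, Matrix.add_mulVec, map_add, hY u u' v w hv hw, hZ u u' v w hv hw, add_zero]
        zero_mem' := fun u u' v w hv hw => by simp
        smul_mem' := fun c Y hY u u' v w hv hw => by
          rw [map_smul, Matrix.smul_mulVec, map_smul, hY u u' v w hv hw, smul_zero] }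
    have hE : ∀ Z, ∑ r : R, Ad (r : M).1 Z ∈ E := by
      intro Z u u' v w hv hw
      have hterm : ∀ μ : {μ // μ ∈ K}, Ad ((ψ μ : M).1) Z =
          Z + μ.1 • (P * Z) - μ.1 • (Z * P) - (μ.1 * μ.1) • (P * Z * P) := fun μ => by
        rw [Ad_apply, hψ, inv_val_of_skew (hψ μ) (by rw [Matrix.smul_mul, Matrix.mul_smul, hPP]; simp)]
        simp only [Matrix.add_mul, Matrix.one_mul, Matrix.mul_sub, Matrix.mul_one, Matrix.smul_mul, Matrix.mul_smul,
          smul_sub, smul_smul]
        module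
      rw [← (Equiv.ofBijective ψ hbij).sum_comp]
      simp only [Equiv.ofBijective_apply, hterm, Finset.sum_sub_distrib, Finset.sum_add_distrib, ← Finset.sum_smul]
      rw [Finset.sum_const, Finset.card_univ, Fintype.card_coe, ← Nat.cast_smul_eq_nsmul F, hKcard, zero_smul,
        zero_add, Finset.sum_coe_sort K (fun μ => μ), Finset.sum_coe_sort K (fun μ => μ * μ)]
      simp only [map_sub, map_smul, Matrix.sub_mulVec, Matrix.smul_mulVec, smul_eq_mul]
      have hl : ∀ Y, stdHerm σ k v (blk i u u' (P * Y) *ᵥ w) = 0 := fun Y => by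
        rw [hP, blk_op_mul, ← Matrix.mulVec_mulVec, dyad_mulVec, map_smul, herm_zero_swap hc hv]
        simp
      rw [hl, Matrix.mul_assoc P Z P, hl, hP, blk_mul_op, ← Matrix.mulVec_mulVec, dyad_mulVec, Matrix.mulVec_smul,
        map_smul, smul_eq_mul]
      rcases hw with hw | hw
      · rw [hKsum hw]; ring
      · rw [hw]; ring
    have hmem := relTr_sub_mem (ptrSum_conj_hyp M) R (fun r hr => ?_) (fun r hr hne => ?_) E hE (x := x)
      (fun r hr => ?_)
    · exact hmem
    · obtain ⟨μ, hμ, e⟩ := hr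
      refine op_mem_wreathT i (A := 1 + μ • dyad σ b b) ?_
      rw [e, op_add, map_one, op_smul]
    · obtain ⟨μ, hμ, e⟩ := hr
      intro g' hg' hg'T
      refine hNF g' hg' hg'T i b μ hb hbb (fun h0 => hne (Subtype.ext (Units.ext ?_))) hμ r.1 (by rw [e, op_smul])
      rw [e, h0, zero_smul, add_zero]
      rfl
    · obtain ⟨μ, hμ, e⟩ := hr
      rw [Ad_apply, e, Matrix.add_mul, Matrix.one_mul, Matrix.smul_mul, hx, ← Matrix.mul_smul,
        show x + x * (μ • P) = x * (r : GL (κ → Fin k) F).1 by rw [e, Matrix.mul_add, Matrix.mul_one], Matrix.mul_assoc,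
        ← Units.val_mul, mul_inv_cancel, Units.val_one, Matrix.mul_one]
  -- the difference vanishes
  have hD0 : D = 0 := by
    refine LinearMap.ext fun Y => ?_
    set lift : TMat F (Rest i) k → Matrix (Fin k) (Fin k) F →ₗ[F] TMat F κ k := fun W =>
      (split i).symm.toLinearEquiv.toLinearMap ∘ₗ (Matrix.kroneckerBilinear (R := F) (α := F)).flip W with hlift
    have hlA : ∀ W A, split i (lift W A) = A ⊗ₖ W := fun W A => by simp [hlift, Matrix.kroneckerBilinear]
    have hzero : ∀ W, D ∘ₗ lift W = 0 := fun W => linear_zero_of_unit_dyad hc h3 _ fun c hcc => by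
      refine eq_zero_of_blk i fun u u' => blk_zero_of_conditions hc h3 hex hcc fun b hb hbb hbc v w hv hw => ?_
      refine hkey b hb hbb _ ((split i).injective ?_) u u' v w hv hw
      rw [map_mul, map_mul, hlA, split_op_self, ← Matrix.mul_kronecker_mul, ← Matrix.mul_kronecker_mul, dyad_mul,
        dyad_mul, hbc, herm_zero_swap hc hbc, zero_smul, zero_smul, Matrix.zero_kronecker, Matrix.zero_kronecker]
    have hY : Y = ∑ u, ∑ u', lift (Matrix.single u u' 1) (blk i u u' Y) := by
      refine (split i).injective ?_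
      simp only [map_sum, hlA]
      ext ⟨a, x⟩ ⟨c, y⟩
      simp [Matrix.sum_apply, Matrix.single_apply, ite_and, blk]
    rw [hY, map_sum, LinearMap.zero_apply]
    refine Finset.sum_eq_zero fun u _ => ?_
    rw [map_sum]
    exact Finset.sum_eq_zero fun u' _ => LinearMap.congr_fun (hzero _) _
  -- the image of a root
  obtain ⟨b, hb, hbb⟩ := exists_isoVec (σ := σ) hc (show 2 ≤ k by omega)
  set o : Fin k := ⟨0, by omega⟩
  set x := tens (fun l => if l = i then dyad σ b b else Matrix.single o o (1 : F)) with hx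
  have hπx : ptrSum x = op i (dyad σ b b) := by
    rw [ptrSum_apply, Finset.sum_eq_single i]
    · rw [hx, ptr_tens, if_pos rfl, Finset.prod_eq_one, one_smul]
      intro l _
      simp [l.2]
    · intro l _ hl
      rw [hx, ptr_tens, Finset.prod_eq_zero (Finset.mem_univ (⟨i, Ne.symm hl⟩ : Rest l)), zero_smul, op_zero]
      simp [trace_dyad, hbb]
    · simp
  have hrel : ∀ Z, relTr M (wreathT F κ k) ptrSum (ptrSum_conj_hyp M) Z = ptrSum Z := fun Z => by
    have := LinearMap.congr_fun hD0 Z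
    rwa [hD, LinearMap.sub_apply, LinearMap.zero_apply, sub_eq_zero] at this
  have hY : Ad g (op i (dyad σ b b)) = ∑ l, op l (ptr l (Ad g x)) := by
    rw [← hπx, ← hrel, ← relTr_Ad (ptrSum_conj_hyp M) hg, hrel, ptrSum_apply]
  have hrank : (Ad g (op i (dyad σ b b))).rank ≤ Fintype.card (Rest i → Fin k) := by
    rw [Ad_apply]
    exact ((Matrix.rank_mul_le_left _ _).trans (Matrix.rank_mul_le_right _ _)).trans (rank_op_rankOne_le i b _)
  rw [hY] at hrank
  obtain ⟨j, B, hB⟩ := sum_op_eq_op h3 _ i hrank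
  obtain ⟨r, -, -, hr⟩ := hM.exists_root hc i hbb hμ₀
  refine hNF g⁻¹ (inv_mem hg) (fun h => hgT (by simpa using inv_mem h)) i b μ₀ hb hbb hμ₀0 hμ₀ r hr ?_
  rw [inv_inv]
  refine op_mem_wreathT j (A := 1 + μ₀ • B) ?_
  rw [Units.val_mul, Units.val_mul, hr, Matrix.mul_add, Matrix.mul_one, Matrix.add_mul, ← Units.val_mul,
    mul_inv_cancel, Units.val_one, op_smul, Matrix.mul_smul, Matrix.smul_mul, ← Ad_apply, hY, hB, op_add, map_one,
    op_smul]

end CfsgLib.Classical.WreathMaxU
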