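import Cfsg.Agent.Lib.Classical.WreathMaxU.Iso
import Cfsg.Agent.Lib.Classical.WreathMax.Fusion

/-!
# Overgroups of the unitary wreath stabiliser
-/

set_option autoImplicit false
set_option linter.unusedSectionVars false

open Matrix Module
open scoped Kronecker

namespace CfsgLib.Classical.WreathMaxU

open CfsgLib.Classical.WreathMax (TMat tens op op_add op_smul op_injective op_zero split split_op_self wreathT Rest
  liftRest op_mem_wreathT det_one_add_op det_op)

variable {F : Type*} [Field F] {σ : F →+* F} {κ : Type} [Fintype κ] [DecidableEq κ] {k : ℕ}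

/-- An overgroup in the special unitary group of the wreath stabiliser in it. -/
structure Over (σ : F →+* F) (M : Subgroup (GL (κ → Fin k) F)) : Prop where
  le_su : M ≤ suG σ (κ → Fin k)
  ge : ∀ g ∈ wreathT F κ k, g ∈ suG σ (κ → Fin k) → g ∈ M

/-- `M` contains the special unitary group. -/
def Full (σ : F →+* F) (M : Subgroup (GL (κ → Fin k) F)) : Prop := suG σ (κ → Fin k) ≤ M

/-- No transvection of a factor is conjugate into the stabiliser by an element outside. -/
def NoFuse (σ : F →+* F) (M : Subgroup (GL (κ → Fin k) F)) : Prop :=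
  ∀ g ∈ M, g ∉ wreathT F κ k → ∀ (i : κ) (b : Fin k → F) (μ : F), b ≠ 0 → stdHerm σ k b b = 0 → μ ≠ 0 →
    μ + σ μ = 0 → ∀ r : GL (κ → Fin k) F, r.1 = 1 + op i (μ • dyad σ b b) → g⁻¹ * r * g ∉ wreathT F κ k

/-- An element of the overgroup outside the stabiliser fixing an isotropic slice pointwise. -/
def FixSlice (σ : F →+* F) (M : Subgroup (GL (κ → Fin k) F)) : Prop :=
  ∃ h ∈ M, h ∉ wreathT F κ k ∧ ∃ (i : κ) (b : Fin k → F), b ≠ 0 ∧ stdHerm σ k b b = 0 ∧
    ∀ γ, h.1 * op i (vecMulVec b γ) = op i (vecMulVec b γ)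

/-- An element of the overgroup outside the stabiliser centralising one factor. -/
def CentFac (M : Subgroup (GL (κ → Fin k) F)) : Prop :=
  ∃ (j : κ) (B : GL (Rest j → Fin k) F), det B.1 = 1 ∧ Units.map (liftRest j) B ∈ M ∧
    Units.map (liftRest j) B ∉ wreathT F κ k

variable {M : Subgroup (GL (κ → Fin k) F)}

theorem Over.exists_op (hM : Over σ M) (i : κ) {A : Matrix (Fin k) (Fin k) F} (hA : adj σ A * A = 1)
    (hd : det (op i A) = 1) : ∃ g ∈ M, g ∈ wreathT F κ k ∧ g.1 = op i A := by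
  let g := GeneralLinearGroup.mkOfDetNeZero (op i A) (by rw [hd]; exact one_ne_zero)
  have hg : g ∈ wreathT F κ k := op_mem_wreathT i rfl
  have he : adj σ (op i A) * op i A = 1 := by rw [adj_op, ← map_mul, hA, map_one]
  exact ⟨g, hM.ge g hg ⟨he, hd⟩, hg, rfl⟩

theorem Over.exists_op_det (hM : Over σ M) (i : κ) {A : Matrix (Fin k) (Fin k) F} (hA : adj σ A * A = 1)
    (hd : det A = 1) : ∃ g ∈ M, g ∈ wreathT F κ k ∧ g.1 = op i A :=
  hM.exists_op i hA (by rw [det_op, hd, one_pow])

theorem root_props (hc : IsConjugation σ) {b : Fin k → F} {μ : F} (hbb : stdHerm σ k b b = 0)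
    (hμ : μ + σ μ = 0) :
    adj σ (1 + μ • dyad σ b b) * (1 + μ • dyad σ b b) = 1 ∧ det (1 + μ • dyad σ b b) = 1 ∧
      (μ • dyad σ b b) * (μ • dyad σ b b) = 0 := by
  have hPP : dyad σ b b * dyad σ b b = 0 := by rw [dyad_mul, hbb, zero_smul]
  have h3 : (μ • dyad σ b b) * (μ • dyad σ b b) = 0 := by rw [Matrix.smul_mul, Matrix.mul_smul, hPP]; simp
  refine ⟨?_, CfsgLib.Classical.WreathMax.det_one_add_nilpotent ⟨2, by rw [pow_two, h3]⟩, h3⟩
  rw [adj_add, adj_one, adj_smul, adj_dyad hc, Matrix.add_mul, Matrix.one_mul, Matrix.smul_mul, Matrix.mul_add,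
    Matrix.mul_one, Matrix.mul_smul, hPP, smul_zero, add_zero, add_assoc, ← add_smul, hμ, zero_smul, add_zero]

theorem Over.exists_root (hM : Over σ M) (hc : IsConjugation σ) (i : κ) {b : Fin k → F} {μ : F}
    (hbb : stdHerm σ k b b = 0) (hμ : μ + σ μ = 0) :
    ∃ r ∈ M, r ∈ wreathT F κ k ∧ r.1 = 1 + op i (μ • dyad σ b b) := by
  obtain ⟨h1, h2, -⟩ := root_props hc hbb hμ
  obtain ⟨g, hg, hgT, e⟩ := hM.exists_op_det i h1 h2
  exact ⟨g, hg, hgT, by rw [e, op_add, map_one]⟩

theorem inv_val_of_skew {r : GL (κ → Fin k) F} {N : TMat F κ k} (hr : r.1 = 1 + N) (h : N * N = 0) :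
    r⁻¹.1 = 1 - N := by
  have h1 : r.1 * (1 - N) = 1 := by rw [hr]; noncomm_ring [h]
  have h2 := congrArg (r⁻¹.1 * ·) h1
  simp only [← Matrix.mul_assoc, ← Units.val_mul, inv_mul_cancel, Units.val_one, Matrix.one_mul, Matrix.mul_one] at h2
  exact h2.symm

/-- A rank one square-zero one-factor operator that gives a unitary element is a transvection. -/
theorem root_form (hc : IsConjugation σ) {h : GL (κ → Fin k) F} (hh : h ∈ suG σ (κ → Fin k)) {j : κ}
    {b β : Fin k → F} (hb : b ≠ 0) (hβ : β ≠ 0) (hβb : β ⬝ᵥ b = 0) (he : h.1 = 1 + op j (vecMulVec b β)) :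
    ∃ ν : F, ν ≠ 0 ∧ ν + σ ν = 0 ∧ stdHerm σ k b b = 0 ∧ vecMulVec b β = ν • dyad σ b b := by
  set X := vecMulVec b β with hX
  have hXX : op j X * op j X = (0 : TMat F κ k) := by
    rw [← map_mul, hX, vecMulVec_mul_vecMulVec, hβb, zero_smul, vecMulVec_zero, op_zero]
  have h1 := inv_eq_adj hh
  rw [inv_val_of_skew he hXX, he, adj_add, adj_one, adj_op, sub_eq_add_neg, ← CfsgLib.Classical.WreathMax.op_neg] at h1
  have hskew : -X = adj σ X := op_injective j (add_left_cancel h1)
  obtain ⟨a, ha⟩ := Function.ne_iff.1 hb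
  change b a ≠ 0 at ha
  set ν := -σ (β a) / b a with hν
  have hform : X = ν • dyad σ b b := by
    ext x y
    have := congrFun (congrFun hskew a) y
    rw [Matrix.neg_apply, adj_apply, hX, vecMulVec_apply, vecMulVec_apply, map_mul] at this
    have hy : β y = ν * σ (b y) := by
      rw [hν, div_mul_eq_mul_div, eq_div_iff ha]
      linear_combination -this
    rw [hX, vecMulVec_apply, Matrix.smul_apply, smul_eq_mul, dyad, vecMulVec_apply, hy]
    ring
  have hX0 : X ≠ 0 := fun e => (CfsgLib.Classical.TensorMax.vecMulVec_eq_zero_iff'.1 e).elim hb hβ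
  have hν0 : ν ≠ 0 := fun e => hX0 (by rw [hform, e, zero_smul])
  refine ⟨ν, hν0, ?_, ?_, hform⟩
  · rw [hform, adj_smul, adj_dyad hc, ← neg_smul] at hskew
    have h2 : (ν + σ ν) • dyad σ b b = 0 := by rw [add_smul, ← hskew, neg_smul, add_neg_cancel]
    exact (smul_eq_zero.1 h2).resolve_right fun e => (dyad_eq_zero hc e).elim hb hb
  · have h2 : X * X = 0 := op_injective j (by rw [map_mul, hXX, op_zero])
    rw [hform, Matrix.smul_mul, Matrix.mul_smul, dyad_mul, smul_smul, smul_smul] at h2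
    have h4 := (smul_eq_zero.1 h2).resolve_right fun e => (dyad_eq_zero hc e).elim hb hb
    simpa [hν0] using h4

/-- The block of a matrix at a pair of indices of the other factors. -/
def blk (i : κ) (u u' : Rest i → Fin k) : TMat F κ k →ₗ[F] Matrix (Fin k) (Fin k) F where
  toFun Y := Matrix.of fun a c => split i Y (a, u) (c, u')
  map_add' Y Z := by ext a c; simp
  map_smul' c Y := by ext a b; simp

theorem blk_op_mul (i : κ) (u u' : Rest i → Fin k) (A : Matrix (Fin k) (Fin k) F) (Y : TMat F κ k) :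
    blk i u u' (op i A * Y) = A * blk i u u' Y := by
  ext a c
  show split i (op i A * Y) (a, u) (c, u') = _
  rw [map_mul, split_op_self]
  simp only [Matrix.mul_apply, Fintype.sum_prod_type, Matrix.kroneckerMap_apply, Matrix.one_apply, mul_ite, mul_one,
    mul_zero, ite_mul, zero_mul, Finset.sum_ite_eq, Finset.mem_univ, if_true]
  rfl

theorem blk_mul_op (i : κ) (u u' : Rest i → Fin k) (A : Matrix (Fin k) (Fin k) F) (Y : TMat F κ k) :
    blk i u u' (Y * op i A) = blk i u u' Y * A := by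
  ext a c
  show split i (Y * op i A) (a, u) (c, u') = _
  rw [map_mul, split_op_self]
  simp only [Matrix.mul_apply, Fintype.sum_prod_type, Matrix.kroneckerMap_apply, Matrix.one_apply, mul_ite, mul_one,
    mul_zero, Finset.sum_ite_eq', Finset.mem_univ, if_true]
  rfl

theorem eq_zero_of_blk (i : κ) {Y : TMat F κ k} (h : ∀ u u', blk i u u' Y = 0) : Y = 0 := by
  refine (split i).injective ?_
  rw [map_zero]
  ext ⟨a, u⟩ ⟨c, u'⟩
  exact congrFun (congrFun (h u u') a) c

end CfsgLib.Classical.WreathMaxU
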